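import Cfsg.Agent.Golay.Subgroups
import Cfsg.Agent.Golay.FusionCert

/-!
The numbers of elements of each order in the Mathieu group of degree twenty-two.
-/

set_option autoImplicit false
set_option linter.unusedSectionVars false
set_option linter.style.haveILetI false
set_option maxRecDepth 100000
set_option maxHeartbeats 1000000

namespace Cfsg.Lib.M22Nse

open Subgroup Cfsg.Lib.PermCert Cfsg.Lib.Golay

/-- the chain of the stabiliser of two points -/
abbrev chain : List Level := m24PointChain.drop 2

theorem chain_check : check 24 chain = true := pointChain_check2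

/-- the group of tables -/
abbrev X22 : Subgroup (Equiv.Perm (Fin 24)) := grp 24 chain

theorem card_X22 : Nat.card X22 = 443520 := by
  rw [card_grp chain_check]; decide +kernel

/-- the Mathieu group as the group of tables -/
noncomputable def x22Equiv : X22 ≃* ↥Cfsg.Spor.M22 :=
  (permHom.subgroupMap X22).trans (MulEquiv.subgroupCongr M22_eq.symm)

/-- the word of the element with prescribed images of the base -/
def recon : List Level → (ℕ → ℕ) → Option (List PP)
  | [], _ => some []
  | L :: r, f =>
    match L.tr.find? (fun e => e.1 == f L.b) with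
    | some e => (recon r fun x => ap e.2.1.2 (f x)).map (e.2.1 :: ·)
    | none => none

theorem grp_tail_le {n : ℕ} {L : Level} {r : List Level} (h : check n (L :: r) = true) :
    grp n r ≤ grp n (L :: r) := by
  simp only [check, Bool.and_eq_true] at h
  apply (closure_le _).mpr
  rintro g ⟨s, hs, rfl⟩
  exact perm_mem_grp (c := L :: r) ((levelOK h.1).down s hs).1

theorem recon_mem {n : ℕ} : ∀ {c : List Level}, check n c = true → ∀ {f : ℕ → ℕ} {w : List PP},
    recon c f = some w → (∀ g ∈ w, valid n g = true) ∧ wperm n w ∈ grp n c := by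
  intro c
  induction c with
  | nil =>
    intro _ f w h
    cases h
    exact ⟨by simp, by simp⟩
  | cons L r ih =>
    intro hc f w h
    have hc' := hc
    simp only [check, Bool.and_eq_true] at hc'
    have ok := levelOK hc'.1
    simp only [recon] at h
    split at h
    · next e he =>
      have hm := List.mem_of_find?_eq_some he
      obtain ⟨v, hv, rfl⟩ := Option.map_eq_some_iff.1 h
      obtain ⟨h1, h2⟩ := ih hc'.2 hv
      refine ⟨fun g hg => ?_, ?_⟩
      · rcases List.mem_cons.mp hg with rfl | hg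
        · exact (tree_entry ok.tree hm).1
        · exact h1 g hg
      · rw [wperm_cons]
        exact mul_mem (tree_mem ok.tree ok.gens_valid _ (fun s hs => perm_mem_grp (c := L :: r) hs) e hm)
          (grp_tail_le hc h2)
    · cases h

theorem recon_spec {n : ℕ} : ∀ {c : List Level}, check n c = true → ∀ {y : Equiv.Perm (Fin n)},
    y ∈ grp n c → ∀ {f : ℕ → ℕ}, (∀ L ∈ c, ∀ h : L.b < n, f L.b = (y ⟨L.b, h⟩ : ℕ)) →
    ∃ w, recon c f = some w ∧ wperm n w = y := by
  intro c
  induction c with
  | nil =>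
    intro _ y hy f _
    refine ⟨[], rfl, ?_⟩
    simp [grp, topGens] at hy
    simp [hy]
  | cons L r ih =>
    intro hc y hy f hf
    have hc' := hc
    simp only [check, Bool.and_eq_true] at hc'
    have ok := levelOK hc'.1
    have hy' : y ∈ prodSet n (L :: r) := by rw [(chain_spec hc).1]; exact hy
    obtain ⟨e, he, v, hv, rfl⟩ := hy'
    rw [(chain_spec hc'.2).1] at hv
    obtain ⟨hev, heb⟩ := tree_entry ok.tree he
    have hvb : v ⟨L.b, ok.b_lt⟩ = ⟨L.b, ok.b_lt⟩ := by
      have : grp n r ≤ MulAction.stabilizer (Equiv.Perm (Fin n)) (⟨L.b, ok.b_lt⟩ : Fin n) := by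
        apply (closure_le _).mpr
        rintro g ⟨s, hs, rfl⟩
        simp only [SetLike.mem_coe, MulAction.mem_stabilizer_iff, Equiv.Perm.smul_def]
        apply Fin.ext
        rw [perm_apply (ok.gens_valid s (ok.down s hs).1)]
        exact (ok.down s hs).2
      exact MulAction.mem_stabilizer_iff.mp (this hv)
    have hfb : f L.b = e.1 := by
      rw [hf L List.mem_cons_self ok.b_lt, Equiv.Perm.mul_apply, hvb, perm_apply hev, heb]
    have hfind : L.tr.find? (fun e' => e'.1 == f L.b) = some e := by
      cases h : L.tr.find? (fun e' => e'.1 == f L.b) with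
      | none => exact absurd (List.find?_eq_none.1 h e he) (by simp [hfb])
      | some e' =>
        exact congrArg some (List.inj_on_of_nodup_map ok.nodup (List.mem_of_find?_eq_some h) he
          ((by simpa using List.find?_some h : e'.1 = f L.b).trans hfb))
    obtain ⟨w, hw, hwv⟩ := ih hc'.2 hv (f := fun x => ap e.2.1.2 (f x)) fun L' hL' h => by
      rw [hf L' (List.mem_cons_of_mem _ hL') h]
      show ap (pinv e.2.1).1 ((perm n e.2.1 * v) ⟨L'.b, h⟩ : ℕ) = _
      rw [← perm_apply (valid_pinv hev), perm_pinv hev]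
      simp
    exact ⟨e.2.1 :: w, by simp only [recon, hfind, hw, Option.map_some], by rw [wperm_cons, hwv]⟩

/-- the twenty-two points -/
def orb : List ℕ := [1, 18, 4, 5, 12, 6, 2, 22, 17, 9, 15, 21, 8, 14, 16, 11, 7, 13, 10, 20, 19, 3]

theorem orb_props : (topGens chain).all (fun s => orb.all fun a => orb.contains (ap s.1 a)) = true ∧
    orb.all (fun a => decide (a < 24)) = true ∧ chain.map (·.b) = [1, 2, 3, 4, 5] := by decide +kernel

theorem orb_stable {g : Equiv.Perm (Fin 24)} (hg : g ∈ X22) : ∀ a : Fin 24, (a : ℕ) ∈ orb → (g a : ℕ) ∈ orb := by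
  have hg' : g ∈ (grp 24 chain).toSubmonoid := hg
  simp only [grp, Subgroup.closure_toSubmonoid_of_finite] at hg'
  induction hg' using Submonoid.closure_induction_left with
  | one => exact fun a h => h
  | mul_left x hx y hy ih =>
    obtain ⟨s, hs, rfl⟩ := hx
    intro a ha
    rw [Equiv.Perm.mul_apply]
    have hsv : valid 24 s = true :=
      (check_cons (L := m24PointChainL2) (r := m24PointChain.drop 3) chain_check).1.gens_valid _ hs
    rw [perm_apply hsv]
    have h1 := List.all_eq_true.1 (List.all_eq_true.1 orb_props.1 s hs) _ (ih (by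
      show y ∈ (grp 24 chain).toSubmonoid
      rw [grp, Subgroup.closure_toSubmonoid_of_finite]
      exact hy) a ha)
    simpa using h1

theorem wperm_append (w v : List PP) : wperm 24 (w ++ v) = wperm 24 w * wperm 24 v := by
  simp [wperm, List.map_append, List.prod_append]

/-- iterate of a word -/
def itW (w : List PP) (k x : ℕ) : ℕ := (evalWord w)^[k] x

theorem itW_eq {w : List PP} (hw : ∀ g ∈ w, valid 24 g = true) (k : ℕ) (x : Fin 24) :
    ((wperm 24 w ^ k) x : ℕ) = itW w k x := by
  induction k with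
  | zero => rfl
  | succ k ih => rw [pow_succ', Equiv.Perm.mul_apply, wperm_apply hw, ih]; simp only [itW, Function.iterate_succ_apply']

/-- a class representative: order, centraliser order, images of the base, cycle points and cover of the base -/
structure Row where
  o : ℕ
  c : ℕ
  img : List ℕ
  ps : List ℕ
  cov : List (ℕ × ℕ)
deriving DecidableEq

/-- the classes other than the trivial one -/
def rows : List Row := [⟨2, 384, [2, 1, 4, 3, 13], [1, 3, 5], [(0, 0), (0, 1), (1, 0), (1, 1), (2, 0)]⟩,
  ⟨3, 36, [2, 4, 5, 1, 11], [1, 3], [(0, 0), (0, 1), (1, 0), (0, 2), (1, 1)]⟩,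
  ⟨4, 32, [2, 1, 4, 5, 13], [1, 3], [(0, 0), (0, 1), (1, 0), (1, 1), (1, 2)]⟩,
  ⟨4, 16, [2, 3, 4, 1, 8], [1, 5], [(0, 0), (0, 1), (0, 2), (0, 3), (1, 0)]⟩,
  ⟨5, 5, [2, 3, 4, 6, 8], [1, 5], [(0, 0), (0, 1), (0, 2), (0, 3), (1, 0)]⟩,
  ⟨6, 12, [2, 4, 5, 3, 11], [1], [(0, 0), (0, 1), (0, 3), (0, 2), (0, 4)]⟩,
  ⟨7, 7, [2, 3, 4, 5, 8], [1], [(0, 0), (0, 1), (0, 2), (0, 3), (0, 4)]⟩,
  ⟨7, 7, [2, 3, 4, 11, 8], [1], [(0, 0), (0, 1), (0, 2), (0, 3), (0, 5)]⟩,
  ⟨8, 8, [2, 4, 5, 3, 6], [1], [(0, 0), (0, 1), (0, 3), (0, 2), (0, 4)]⟩,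
  ⟨11, 11, [2, 3, 4, 5, 9], [1], [(0, 0), (0, 1), (0, 2), (0, 3), (0, 4)]⟩,
  ⟨11, 11, [2, 3, 4, 5, 21], [1], [(0, 0), (0, 1), (0, 2), (0, 3), (0, 4)]⟩]

/-- the word of a representative -/
def Row.w (R : Row) : List PP := (recon chain fun i => R.img.getD (i - 1) 0).getD []

/-- tuples of points -/
def tuples : ℕ → List (List ℕ)
  | 0 => [[]]
  | r + 1 => orb.flatMap fun a => (tuples r).map (a :: ·)

/-- images of the base of an element carrying one representative to the other -/
def imgs (R R' : Row) (t : List ℕ) (i : ℕ) : ℕ :=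
  itW R'.w (R.cov.getD i (0, 0)).2 (t.getD (R.cov.getD i (0, 0)).1 0)

/-- the tuple gives an element carrying one representative to the other -/
def good (R R' : Row) (t : List ℕ) : Bool :=
  match recon chain (fun x => imgs R R' t (x - 1)) with
  | some v => FusionCert.same (v ++ R.w) (R'.w ++ v)
  | none => false

/-- number of good tuples -/
def count (R R' : Row) : ℕ := (tuples R.ps.length).countP (good R R')

/-- validity of a row -/
def rowOK (R : Row) : Bool :=
  (recon chain fun i => R.img.getD (i - 1) 0).isSome && R.ps.all (fun p => orb.contains p) &&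
  (List.range 5).all (fun i => decide ((R.cov.getD i (0, 0)).1 < R.ps.length) &&
    (itW R.w (R.cov.getD i (0, 0)).2 (R.ps.getD (R.cov.getD i (0, 0)).1 0) == i + 1)) &&
  (List.range 24).all (fun x => itW R.w R.o x == x) &&
  (List.range R.o).all (fun k => k == 0 || (List.range 24).any fun x => !(itW R.w k x == x))

theorem rows_ok : rows.all rowOK = true := by decide +kernel

theorem count_self : rows.all (fun R => decide (count R R ≤ R.c)) = true := by decide +kernel

theorem count_cross : ∀ i j : Fin 11, i ≠ j →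
    ((rows[i.val]?.map Row.o) != (rows[j.val]?.map Row.o) ||
      (match rows[i.val]?, rows[j.val]? with | some R, some R' => count R R' == 0 | _, _ => false)) = true := by
  decide +kernel

theorem rows_arith : rows.length = 11 ∧ (rows.map fun R => 443520 / R.c).sum = 443519 ∧
    rows.all (fun R => decide (0 < R.c) && decide (1 < R.o) && decide (R.o < 12) && decide (R.c * (443520 / R.c) = 443520)) = true := by
  decide +kernel

theorem row_spec {R : Row} (hR : R ∈ rows) :
    (∀ g ∈ R.w, valid 24 g = true) ∧ wperm 24 R.w ∈ X22 ∧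
    (∀ i, i < 5 → (R.cov.getD i (0, 0)).1 < R.ps.length ∧
      itW R.w (R.cov.getD i (0, 0)).2 (R.ps.getD (R.cov.getD i (0, 0)).1 0) = i + 1) ∧
    (∀ p ∈ R.ps, p ∈ orb) ∧ (∀ x, x < 24 → itW R.w R.o x = x) ∧
    ∀ k, k < R.o → k ≠ 0 → ∃ x, x < 24 ∧ itW R.w k x ≠ x := by
  have h := List.all_eq_true.1 rows_ok R hR
  simp only [rowOK, Bool.and_eq_true, List.all_eq_true, List.any_eq_true, List.mem_range, decide_eq_true_eq,
    beq_iff_eq, Bool.or_eq_true, Bool.not_eq_true', beq_eq_false_iff_ne, List.contains_iff_mem] at h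
  obtain ⟨⟨⟨⟨h1, h2⟩, h3⟩, h4⟩, h5⟩ := h
  obtain ⟨w, hw⟩ := Option.isSome_iff_exists.1 h1
  have hRw : R.w = w := by simp only [Row.w, hw, Option.getD_some]
  obtain ⟨hv, hm⟩ := recon_mem chain_check hw
  exact ⟨hRw ▸ hv, hRw ▸ hm, h3, h2, h4, fun k hk hk0 => (h5 k hk).resolve_left hk0⟩

/-- the representative of a row -/
noncomputable def el (R : Row) : X22 :=
  if h : R ∈ rows then ⟨wperm 24 R.w, (row_spec h).2.1⟩ else 1

theorem el_val {R : Row} (hR : R ∈ rows) : (el R : Equiv.Perm (Fin 24)) = wperm 24 R.w := by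
  rw [el, dif_pos hR]

theorem order_el {R : Row} (hR : R ∈ rows) : orderOf (el R) = R.o := by
  obtain ⟨hv, -, -, -, h1, h2⟩ := row_spec hR
  have ho : 0 < R.o := by
    have := List.all_eq_true.1 rows_arith.2.2 R hR
    simp only [Bool.and_eq_true, decide_eq_true_eq] at this
    omega
  rw [← Subgroup.orderOf_coe, el_val hR, orderOf_eq_iff ho]
  refine ⟨Equiv.ext fun x => Fin.ext ?_, fun m hm hm0 he => ?_⟩
  · rw [itW_eq hv, h1 x x.isLt]; rfl
  · obtain ⟨x, hx, hne⟩ := h2 m hm (by omega)
    refine hne ?_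
    have := itW_eq hv m ⟨x, hx⟩
    rw [he] at this
    exact this.symm

theorem tuples_mem : ∀ {r : ℕ} {t : List ℕ}, t.length = r → (∀ a ∈ t, a ∈ orb) → t ∈ tuples r
  | 0, t, h, _ => by simp [tuples, List.length_eq_zero_iff.1 h]
  | r + 1, [], h, _ => by simp at h
  | r + 1, a :: t, h, ha => by
    simp only [tuples, List.mem_flatMap, List.mem_map]
    exact ⟨a, ha a List.mem_cons_self, t, tuples_mem (by simpa using h) fun b hb => ha b (List.mem_cons_of_mem _ hb), rfl⟩

/-- the values of an element at the cycle points -/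
noncomputable def tup (R : Row) (y : X22) : List ℕ :=
  R.ps.map fun p => ((y : Equiv.Perm (Fin 24)) (⟨p % 24, Nat.mod_lt _ (by norm_num)⟩ : Fin 24) : ℕ)

theorem imgs_tup {R R' : Row} (hR : R ∈ rows) (hR' : R' ∈ rows) {y : X22} (hy : y * el R = el R' * y) {i : ℕ}
    (hi : i < 5) :
    imgs R R' (tup R y) i = ((y : Equiv.Perm (Fin 24)) ⟨i + 1, by omega⟩ : ℕ) := by
  obtain ⟨hv, -, hc, hps, -, -⟩ := row_spec hR
  obtain ⟨hv', -, -, -, -, -⟩ := row_spec hR'
  obtain ⟨hj, hk⟩ := hc i hi
  set j := (R.cov.getD i (0, 0)).1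
  set k := (R.cov.getD i (0, 0)).2
  have hlt : R.ps.getD j 0 < 24 := by
    have h := hps _ (List.getElem_mem hj)
    rw [List.getD_eq_getElem _ _ hj]
    simpa using List.all_eq_true.1 orb_props.2.1 _ h
  have hpow : (y : Equiv.Perm (Fin 24)) * wperm 24 R.w ^ k = wperm 24 R'.w ^ k * (y : Equiv.Perm (Fin 24)) := by
    have h : SemiconjBy y (el R) (el R') := hy
    have := congrArg Subtype.val ((h.pow_right k).eq)
    simpa [el_val hR, el_val hR'] using this
  have htj : (tup R y).getD j 0 = ((y : Equiv.Perm (Fin 24)) ⟨R.ps.getD j 0, hlt⟩ : ℕ) := by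
    rw [tup, List.getD_eq_getElem _ _ (by simpa using hj), List.getElem_map]
    congr 2
    refine Fin.ext ?_
    show R.ps[j] % 24 = R.ps.getD j 0
    rw [← List.getD_eq_getElem R.ps 0 hj, Nat.mod_eq_of_lt hlt]
  show itW R'.w k ((tup R y).getD j 0) = _
  rw [htj, ← itW_eq hv', ← Equiv.Perm.mul_apply, ← hpow, Equiv.Perm.mul_apply]
  congr 2
  exact Fin.ext (by rw [itW_eq hv]; exact hk)

theorem good_tup {R R' : Row} (hR : R ∈ rows) (hR' : R' ∈ rows) {y : X22} (hy : y * el R = el R' * y) :
    ∃ w, recon chain (fun x => imgs R R' (tup R y) (x - 1)) = some w ∧ wperm 24 w = y := by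
  refine recon_spec chain_check y.2 fun L hL h => ?_
  have hb : L.b ∈ chain.map (·.b) := List.mem_map_of_mem hL
  rw [orb_props.2.2] at hb
  have h5 : L.b - 1 < 5 ∧ L.b - 1 + 1 = L.b := by
    simp only [List.mem_cons, List.not_mem_nil, or_false] at hb
    omega
  rw [imgs_tup hR hR' hy h5.1]
  simp only [h5.2]

theorem card_transporter_le {R R' : Row} (hR : R ∈ rows) (hR' : R' ∈ rows) :
    Nat.card {y : X22 // y * el R = el R' * y} ≤ count R R' := by
  classical
  let F : {y : X22 // y * el R = el R' * y} → {t // t ∈ ((tuples R.ps.length).filter (good R R')).toFinset} :=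
    fun y => ⟨tup R y.1, by
      obtain ⟨v, hv, hvy⟩ := good_tup hR hR' y.2
      rw [List.mem_toFinset, List.mem_filter]
      refine ⟨tuples_mem (by simp [tup]) fun a ha => ?_, ?_⟩
      · obtain ⟨p, hp, rfl⟩ := List.mem_map.1 ha
        refine orb_stable y.1.2 _ ?_
        have hp' := (row_spec hR).2.2.2.1 p hp
        have : p < 24 := by simpa using List.all_eq_true.1 orb_props.2.1 _ hp'
        show p % 24 ∈ orb
        rwa [Nat.mod_eq_of_lt this]
      · simp only [good, hv]
        refine FusionCert.same_of_eq ?_ ?_ ?_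
        · intro g hg
          rcases List.mem_append.1 hg with hg | hg
          exacts [(recon_mem chain_check hv).1 g hg, (row_spec hR).1 g hg]
        · intro g hg
          rcases List.mem_append.1 hg with hg | hg
          exacts [(row_spec hR').1 g hg, (recon_mem chain_check hv).1 g hg]
        · rw [wperm_append, wperm_append, hvy, ← el_val hR, ← el_val hR', ← Subgroup.coe_mul, y.2,
            Subgroup.coe_mul]⟩
  have hF : Function.Injective F := fun a b h => by
    have ht : tup R a.1 = tup R b.1 := congrArg Subtype.val h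
    obtain ⟨v, hv, hva⟩ := good_tup hR hR' a.2
    obtain ⟨v', hv', hvb⟩ := good_tup hR hR' b.2
    rw [ht, hv'] at hv
    cases hv
    exact Subtype.ext (Subtype.ext (hva.symm.trans hvb))
  refine (Nat.card_le_card_of_injective F hF).trans ?_
  rw [Nat.card_eq_fintype_card, Fintype.card_coe]
  exact (List.toFinset_card_le _).trans (le_of_eq List.countP_eq_length_filter.symm)

/-- the class of a row -/
noncomputable def cls (R : Row) : Finset X22 :=
  letI := Fintype.ofFinite X22
  Finset.univ.image fun y : X22 => y * el R * y⁻¹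

theorem mem_cls {R : Row} {g : X22} : g ∈ cls R ↔ ∃ y, y * el R * y⁻¹ = g := by
  simp [cls]

theorem card_cls_ge {R : Row} (hR : R ∈ rows) : 443520 ≤ R.c * (cls R).card := by
  classical
  haveI := Fintype.ofFinite X22
  have hc : count R R ≤ R.c := of_decide_eq_true (List.all_eq_true.1 count_self R hR)
  have h := Finset.card_le_mul_card_image (s := (Finset.univ : Finset X22)) (f := fun y : X22 => y * el R * y⁻¹) R.c
    fun g hg => by
      obtain ⟨y0, -, rfl⟩ := Finset.mem_image.1 hg
      refine le_trans ?_ ((card_transporter_le hR hR).trans hc)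
      rw [Nat.card_eq_fintype_card, ← Fintype.card_coe]
      refine Fintype.card_le_of_injective (fun y => ⟨y0⁻¹ * y.1, ?_⟩) fun a b e => ?_
      · have e := (Finset.mem_filter.1 y.2).2
        have e2 : y.1 * el R = y0 * el R * y0⁻¹ * y.1 := mul_inv_eq_iff_eq_mul.1 e
        rw [mul_assoc, e2]; group
      · exact Subtype.ext (mul_left_cancel (congrArg Subtype.val e))
  rw [Finset.card_univ, ← Nat.card_eq_fintype_card, card_X22] at h
  convert h using 3
  ext g
  simp [cls]

theorem cls_disjoint {R R' : Row} (hR : R ∈ rows) (hR' : R' ∈ rows) (hne : R ≠ R') : Disjoint (cls R) (cls R') := by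
  rw [Finset.disjoint_left]
  intro g hg hg'
  obtain ⟨y, rfl⟩ := mem_cls.1 hg
  obtain ⟨z, hz⟩ := mem_cls.1 hg'
  obtain ⟨i, hi, hri⟩ := List.getElem_of_mem hR
  obtain ⟨j, hj, hrj⟩ := List.getElem_of_mem hR'
  have hij : (⟨i, rows_arith.1 ▸ hi⟩ : Fin 11) ≠ ⟨j, rows_arith.1 ▸ hj⟩ := fun e => hne (by
    have : i = j := congrArg Fin.val e
    subst this
    exact hri.symm.trans hrj)
  have hcross := count_cross _ _ hij
  simp only [List.getElem?_eq_getElem hi, List.getElem?_eq_getElem hj, hri, hrj, Option.map_some, Bool.or_eq_true,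
    bne_iff_ne, ne_eq, Option.some.injEq, beq_iff_eq] at hcross
  rcases hcross with h | h
  · refine h ?_
    rw [← order_el hR, ← order_el hR']
    have e1 := MulEquiv.orderOf_eq (MulAut.conj y) (el R)
    have e2 := MulEquiv.orderOf_eq (MulAut.conj z) (el R')
    simp only [MulAut.conj_apply] at e1 e2
    rw [← e1, ← e2, hz]
  · have hpos : 0 < Nat.card {x : X22 // x * el R = el R' * x} := by
      haveI : Nonempty {x : X22 // x * el R = el R' * x} := ⟨⟨z⁻¹ * y, by
        calc z⁻¹ * y * el R = z⁻¹ * (y * el R * y⁻¹) * y := by group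
          _ = z⁻¹ * (z * el R' * z⁻¹) * y := by rw [hz]
          _ = _ := by group⟩⟩
      exact Nat.card_pos
    have := card_transporter_le hR hR'
    omega

theorem order_cls {R : Row} (hR : R ∈ rows) {g : X22} (hg : g ∈ cls R) : orderOf g = R.o := by
  obtain ⟨y, rfl⟩ := mem_cls.1 hg
  rw [← order_el hR]
  exact MulEquiv.orderOf_eq (MulAut.conj y) (el R)

theorem rows_nodup : rows.Nodup := by decide +kernel

/-- the number of elements of each order -/
def counts (n : ℕ) : ℕ :=
  (if n = 1 then 1 else 0) + ((rows.filter fun R => R.o == n).map fun R => 443520 / R.c).sum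

theorem card_order_X22 (n : ℕ) : Nat.card {g : X22 // orderOf g = n} = counts n := by
  classical
  haveI := Fintype.ofFinite X22
  set D := (rows.toFinset).biUnion cls with hD
  have hdis : ∀ s : Finset Row, s ⊆ rows.toFinset → (s : Set Row).PairwiseDisjoint cls := fun s hs R hR R' hR' hne =>
    cls_disjoint (List.mem_toFinset.1 (hs hR)) (List.mem_toFinset.1 (hs hR')) hne
  have harith : ∀ R ∈ rows, 0 < R.c ∧ 1 < R.o ∧ R.c * (443520 / R.c) = 443520 := fun R hR => by
    have := List.all_eq_true.1 rows_arith.2.2 R hR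
    simp only [Bool.and_eq_true, decide_eq_true_eq] at this
    exact ⟨this.1.1.1, this.1.1.2, this.2⟩
  have hle : ∀ R ∈ rows.toFinset, 443520 / R.c ≤ (cls R).card := fun R hR => by
    obtain ⟨hc, -, -⟩ := harith R (List.mem_toFinset.1 hR)
    exact Nat.div_le_of_le_mul (card_cls_ge (List.mem_toFinset.1 hR))
  have hsum : (∑ R ∈ rows.toFinset, 443520 / R.c) = 443519 := by
    rw [List.sum_toFinset _ rows_nodup]; exact rows_arith.2.1
  have h1 : (1 : X22) ∉ D := fun h => by
    obtain ⟨R, hR, hg⟩ := Finset.mem_biUnion.1 h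
    have := order_cls (List.mem_toFinset.1 hR) hg
    rw [orderOf_one] at this
    have := (harith R (List.mem_toFinset.1 hR)).2.1
    omega
  have hcardD : D.card = ∑ R ∈ rows.toFinset, (cls R).card := Finset.card_biUnion (hdis _ le_rfl)
  have hDle : D.card + 1 ≤ 443520 := by
    rw [← Finset.card_insert_of_notMem h1, ← card_X22, Nat.card_eq_fintype_card]
    exact Finset.card_le_univ _
  have hge : 443519 ≤ D.card := by rw [hcardD, ← hsum]; exact Finset.sum_le_sum hle
  have heq : ∀ R ∈ rows.toFinset, 443520 / R.c = (cls R).card := by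
    refine (Finset.sum_eq_sum_iff_of_le hle).1 ?_
    omega
  have huniv : insert (1 : X22) D = Finset.univ := Finset.eq_univ_of_card _ (by
    rw [Finset.card_insert_of_notMem h1, ← Nat.card_eq_fintype_card, card_X22]; omega)
  rw [Nat.card_eq_fintype_card, Fintype.card_subtype, ← huniv, Finset.filter_insert]
  have hfD : (D.filter fun g => orderOf g = n) = (rows.toFinset.filter fun R => R.o = n).biUnion cls := by
    ext g
    simp only [hD, Finset.mem_filter, Finset.mem_biUnion]
    constructor
    · rintro ⟨⟨R, hR, hg⟩, ho⟩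
      exact ⟨R, ⟨hR, by rw [← order_cls (List.mem_toFinset.1 hR) hg, ho]⟩, hg⟩
    · rintro ⟨R, ⟨hR, ho⟩, hg⟩
      exact ⟨⟨R, hR, hg⟩, by rw [order_cls (List.mem_toFinset.1 hR) hg, ho]⟩
  have hn1 : (1 : X22) ∉ D.filter fun g => orderOf g = n := fun h => h1 (Finset.mem_filter.1 h).1
  have hval : (D.filter fun g => orderOf g = n).card = ((rows.filter fun R => R.o == n).map fun R => 443520 / R.c).sum := by
    rw [hfD, Finset.card_biUnion (hdis _ (Finset.filter_subset _ _)), ← Finset.sum_congr rfl fun R hR => heq R (Finset.mem_filter.1 hR).1,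
      ← List.sum_toFinset _ (rows_nodup.filter _)]
    congr 1
    ext R
    simp
  by_cases hn : n = 1
  · subst hn
    rw [if_pos orderOf_one, Finset.card_insert_of_notMem hn1, hval, counts, if_pos rfl]; omega
  · rw [if_neg (fun h => hn (by rw [← h, orderOf_one])), hval, counts, if_neg hn, zero_add]

/-- Every count of elements of a given order in the Mathieu group of degree twenty-two lies in a short list. -/
theorem m22_count_mem (n : ℕ) : Nat.card {g : ↥Cfsg.Spor.M22 // orderOf g = n} ∈
    ([0, 1, 1155, 12320, 36960, 41580, 55440, 80640, 88704, 126720] : List ℕ) := by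
  have e : Nat.card {g : ↥Cfsg.Spor.M22 // orderOf g = n} = Nat.card {g : X22 // orderOf g = n} :=
    Nat.card_congr ((x22Equiv.symm.toEquiv).subtypeEquiv fun g => by
      rw [show orderOf (x22Equiv.symm.toEquiv g) = orderOf g from MulEquiv.orderOf_eq x22Equiv.symm g])
  rw [e, card_order_X22]
  rcases lt_or_ge n 12 with h | h
  · have : ∀ m : Fin 12, counts m.val ∈ ([0, 1, 1155, 12320, 36960, 41580, 55440, 80640, 88704, 126720] : List ℕ) := by decide +kernel
    exact this ⟨n, h⟩
  · have hf : (rows.filter fun R => R.o == n) = [] := List.filter_eq_nil_iff.2 fun R hR => by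
      have := List.all_eq_true.1 rows_arith.2.2 R hR
      simp only [Bool.and_eq_true, decide_eq_true_eq] at this
      simp only [beq_iff_eq]
      omega
    rw [counts, if_neg (by omega), hf]
    simp

theorem card_M22 : Nat.card ↥Cfsg.Spor.M22 = 443520 := by
  rw [← Nat.card_congr x22Equiv.toEquiv, card_X22]

end Cfsg.Lib.M22Nse
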