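import Cfsg.Agent.M22Nse.Fields

/-!
The census from which the fields are derived: centralisers of the elements of orders five, seven and eleven,
one class of involutions and its centraliser order, and square roots of involutions modulo three.
-/

set_option autoImplicit false
set_option linter.unusedSectionVars false
set_option linter.style.haveILetI false
set_option maxRecDepth 100000

namespace Cfsg.Lib.M22Nse

open Subgroup Cfsg.Lib.SameOrder Cfsg.Lib.Small Cfsg.Lib.MathieuEleven

/-- the census -/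
structure Census (G : Type*) [Group G] : Prop where
  card : Nat.card G = 443520
  five : ∀ x : G, orderOf x = 5 → Nat.card ↥(centralizer ({x} : Set G)) = 5
  seven : ∀ x : G, orderOf x = 7 → Nat.card ↥(centralizer ({x} : Set G)) = 7
  eleven : ∀ x : G, orderOf x = 11 → Nat.card ↥(centralizer ({x} : Set G)) = 11
  nFive : Nat.card (Sylow 5 G) = 22176
  nSeven : Nat.card (Sylow 7 G) = 21120
  nEleven : Nat.card (Sylow 11 G) = 8064
  invol : ∀ t : G, orderOf t = 2 → Nat.card ↥(centralizer ({t} : Set G)) = 384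
  conj : ∀ s t : G, orderOf s = 2 → orderOf t = 2 → IsConj s t
  roots : ∀ t : G, orderOf t = 2 → 3 ∣ Nat.card {u : G // u * u = t}

universe u

variable {G : Type u} [Group G] [Finite G]

local instance fact_two_cb : Fact (Nat.Prime 2) := ⟨Nat.prime_two⟩
local instance fact_three_cb : Fact (Nat.Prime 3) := ⟨Nat.prime_three⟩
local instance fact_five_cb : Fact (Nat.Prime 5) := ⟨by norm_num⟩
local instance fact_seven_cb : Fact (Nat.Prime 7) := ⟨by norm_num⟩
local instance fact_eleven_cb : Fact (Nat.Prime 11) := ⟨by norm_num⟩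

theorem not_big_dvd_eq {d : ℕ} (hd : d ∣ 443520) (h : ¬ 5 ∣ d ∧ ¬ 7 ∣ d ∧ ¬ 11 ∣ d) : d ∣ 1152 := by
  have hcop : Nat.Coprime d (5 * 7 * 11) := Nat.Coprime.mul_right (Nat.Coprime.mul_right
    ((Nat.Prime.coprime_iff_not_dvd (by norm_num)).2 h.1).symm ((Nat.Prime.coprime_iff_not_dvd (by norm_num)).2 h.2.1).symm)
    ((Nat.Prime.coprime_iff_not_dvd (by norm_num)).2 h.2.2).symm
  exact hcop.dvd_of_dvd_mul_right (by simpa using hd)

variable (H : Census G)

include H

theorem Census.prime_cent {p : ℕ} (hp : p = 5 ∨ p = 7 ∨ p = 11) {x : G} (hx : orderOf x = p) :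
    Nat.card ↥(centralizer ({x} : Set G)) = p := by
  rcases hp with rfl | rfl | rfl
  exacts [H.five x hx, H.seven x hx, H.eleven x hx]

/-- an element of order divisible by five, seven or eleven has that order -/
theorem Census.order_big {p : ℕ} (hp : p = 5 ∨ p = 7 ∨ p = 11) {g : G} (h : p ∣ orderOf g) : orderOf g = p := by
  have hpp : p.Prime := by rcases hp with rfl | rfl | rfl <;> norm_num
  set x := g ^ (orderOf g / p) with hxd
  have hx : orderOf x = p := orderOf_pow_orderOf_div (orderOf_pos g).ne' h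
  have hd := M12Nse.dvd_centralizer_orderOf (Commute.self_pow g (orderOf g / p)).eq
  rw [← hxd, H.prime_cent hp hx] at hd
  rcases (Nat.dvd_prime hpp).1 hd with e | e
  · rw [e] at h; exact absurd (Nat.dvd_one.1 h) hpp.ne_one
  · exact e

/-- an element commuting with an element of order two or three has order dividing `1152` -/
theorem Census.cent_small {v : G} (hv : orderOf v = 2 ∨ orderOf v = 3) :
    Nat.card ↥(centralizer ({v} : Set G)) ∣ 1152 := by
  refine not_big_dvd_eq (H.card ▸ Subgroup.card_subgroup_dvd_card _) ?_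
  have key : ∀ p, (p = 5 ∨ p = 7 ∨ p = 11) → ¬ p ∣ Nat.card ↥(centralizer ({v} : Set G)) := by
    intro p hp hd
    have hpp : p.Prime := by rcases hp with rfl | rfl | rfl <;> norm_num
    haveI := Fact.mk hpp
    obtain ⟨⟨w, hw⟩, hwo⟩ := exists_prime_orderOf_dvd_card' (G := ↥(centralizer ({v} : Set G))) p hd
    rw [Subgroup.orderOf_mk] at hwo
    have hvw : v ∈ centralizer ({w} : Set G) :=
      mem_centralizer_singleton_iff.2 (mem_centralizer_singleton_iff.1 hw).symm
    have := Subgroup.orderOf_dvd_natCard _ hvw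
    rw [H.prime_cent hp hwo] at this
    rcases (Nat.dvd_prime hpp).1 this with e | e <;> omega
  exact ⟨key 5 (by simp), key 7 (by simp), key 11 (by simp)⟩

theorem Census.sylow_five (P : Sylow 5 G) : Nat.card ↥(P : Subgroup G) = 5 := by
  simpa using card_sylow_of_factor P (a := 1) (m := 88704) (by rw [H.card]; norm_num) (by norm_num)

theorem Census.sylow_seven (P : Sylow 7 G) : Nat.card ↥(P : Subgroup G) = 7 := by
  simpa using card_sylow_of_factor P (a := 1) (m := 63360) (by rw [H.card]; norm_num) (by norm_num)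

theorem Census.sylow_eleven (P : Sylow 11 G) : Nat.card ↥(P : Subgroup G) = 11 := by
  simpa using card_sylow_of_factor P (a := 1) (m := 40320) (by rw [H.card]; norm_num) (by norm_num)

theorem Census.cnt_five : cnt G 5 = 88704 := by rw [M12Nse.cnt_prime H.sylow_five, H.nFive]
theorem Census.cnt_seven : cnt G 7 = 126720 := by rw [M12Nse.cnt_prime H.sylow_seven, H.nSeven]
theorem Census.cnt_eleven : cnt G 11 = 80640 := by rw [M12Nse.cnt_prime H.sylow_eleven, H.nEleven]

theorem Census.cnt_two : cnt G 2 = 1155 := by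
  obtain ⟨t, ht⟩ := exists_prime_orderOf_dvd_card' (G := G) 2 (by rw [H.card]; norm_num)
  have h := M12Nse.card_isConj_mul t
  rw [H.card, H.invol t ht] at h
  have e : cnt G 2 = Nat.card {x : G // IsConj t x} := Nat.card_congr
    (Equiv.subtypeEquivRight fun x => ⟨fun hx => H.conj t x ht hx, fun hx => (M12Nse.conj_orderOf hx).trans ht⟩)
  rw [e]
  omega

/-- the room left for elements of a further order -/
theorem Census.cnt_le {k : ℕ} (hk : k ∉ ({1, 2, 5, 7, 11} : Finset ℕ)) : cnt G k ≤ 146300 := by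
  classical
  have := Fintype.ofFinite G
  have h := Finset.card_eq_sum_card_fiberwise (f := fun g : G => orderOf g)
    (s := (Finset.univ : Finset G).filter fun g => orderOf g ∈ insert k ({1, 2, 5, 7, 11} : Finset ℕ))
    (t := insert k ({1, 2, 5, 7, 11} : Finset ℕ)) (fun g hg => (Finset.mem_filter.1 hg).2)
  have hle : ((Finset.univ : Finset G).filter fun g => orderOf g ∈ insert k ({1, 2, 5, 7, 11} : Finset ℕ)).card
      ≤ 443520 := by
    rw [← H.card, Nat.card_eq_fintype_card]; exact Finset.card_le_univ _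
  rw [h, Finset.sum_congr rfl (g := fun d => cnt G d) ?_, Finset.sum_insert hk] at hle
  · simp only [Finset.sum_insert, Finset.mem_insert, Finset.mem_singleton, Finset.sum_singleton,
      show ¬((1 : ℕ) = 2 ∨ (1 : ℕ) = 5 ∨ (1 : ℕ) = 7 ∨ (1 : ℕ) = 11) by norm_num,
      show ¬((2 : ℕ) = 5 ∨ (2 : ℕ) = 7 ∨ (2 : ℕ) = 11) by norm_num,
      show ¬((5 : ℕ) = 7 ∨ (5 : ℕ) = 11) by norm_num, show ¬((7 : ℕ) = 11) by norm_num, not_false_iff,
      cnt_one, H.cnt_two, H.cnt_five, H.cnt_seven, H.cnt_eleven] at hle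
    omega
  · intro d hd
    rw [cnt, Nat.card_eq_fintype_card, Fintype.card_subtype]
    congr 1
    ext g
    simp only [Finset.mem_filter, Finset.mem_univ, true_and]
    exact ⟨fun h => h.2, fun h => ⟨h ▸ hd, h⟩⟩

theorem Census.card_sylow_three (S : Sylow 3 G) : Nat.card ↥(S : Subgroup G) = 9 := by
  simpa using card_sylow_of_factor S (a := 2) (m := 49280) (by rw [H.card]; norm_num) (by norm_num)

theorem Census.no_three_in_invol {t y : G} (ht : orderOf t = 2) (hy : y * t = t * y) : ¬ 9 ∣ orderOf y := fun h => by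
  have := H.invol t ht ▸ M12Nse.dvd_centralizer_orderOf hy
  have := h.trans this
  norm_num at this

/-- no involution centralises a Sylow subgroup for three -/
theorem Census.sylow_no_invol {K : Subgroup G} (hK : 9 ∣ Nat.card ↥K) {t : G} (ht : orderOf t = 2)
    (hc : ∀ a ∈ K, a * t = t * a) : False := by
  have := hK.trans (Subgroup.card_dvd_of_le fun a ha => mem_centralizer_singleton_iff.2 (hc a ha))
  rw [H.invol t ht] at this
  norm_num at this

/-- there are no elements of order nine -/
theorem Census.no_nine (y : G) : orderOf y ≠ 9 := by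
  classical
  intro hy
  obtain ⟨S, hS⟩ := (IsPGroup.of_card (p := 3) (n := 2) (by rw [Nat.card_zpowers, hy]; norm_num) :
    IsPGroup 3 ↥(zpowers y)).exists_le_sylow
  have hSy : (S : Subgroup G) = zpowers y :=
    (Subgroup.eq_of_le_of_card_ge hS (by rw [H.card_sylow_three S, Nat.card_zpowers, hy])).symm
  set C := centralizer ({y} : Set G)
  have hyC : y ∈ C := mem_centralizer_singleton_iff.2 rfl
  have hC : Nat.card ↥C = 9 := by
    have h3 : orderOf (y ^ 3) = 3 := by rw [orderOf_pow' _ (by norm_num), hy]; decide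
    have hle : C ≤ centralizer ({y ^ 3} : Set G) := fun c hc =>
      mem_centralizer_singleton_iff.2 ((show Commute c y from mem_centralizer_singleton_iff.1 hc).pow_right 3).eq
    have hd : Nat.card ↥C ∣ 1152 := (Subgroup.card_dvd_of_le hle).trans (H.cent_small (Or.inr h3))
    have hodd : ¬ 2 ∣ Nat.card ↥C := fun h2 => by
      obtain ⟨⟨t, ht⟩, hto⟩ := exists_prime_orderOf_dvd_card' (G := ↥C) 2 h2
      rw [Subgroup.orderOf_mk] at hto
      exact H.no_three_in_invol hto (mem_centralizer_singleton_iff.1 ht).symm (by rw [hy])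
    have h9 : 9 ∣ Nat.card ↥C := hy ▸ Subgroup.orderOf_dvd_natCard _ hyC
    have : ∀ d ∈ Nat.divisors 1152, ¬ 2 ∣ d → 9 ∣ d → d = 9 := by decide +kernel
    exact this _ (Nat.mem_divisors.2 ⟨hd, by norm_num⟩) hodd h9
  have hCy : C = zpowers y :=
    (Subgroup.eq_of_le_of_card_ge (zpowers_le.2 hyC) (by rw [hC, Nat.card_zpowers, hy])).symm
  set N := normalizer ((S : Subgroup G) : Set G) with hN
  set O := Set.range fun k : N => (k : G) * y * (k : G)⁻¹ with hO
  have hyS : y ∈ (S : Subgroup G) := hS (mem_zpowers y)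
  have hCN : N ⊓ C = C := inf_eq_right.2 (by rw [hCy, ← hSy]; exact le_normalizer)
  have hnum : O.ncard * 9 = Nat.card ↥N := by
    have := ncard_conj_orbit N y
    rwa [hCN, hC] at this
  have hgen : O ⊆ {a | a ∈ (S : Subgroup G) ∧ orderOf a = 9} := by
    rintro a ⟨k, rfl⟩
    exact ⟨(mem_normalizer_iff.1 k.2 y).1 hyS, by beta_reduce; rw [← MulAut.conj_apply, MulEquiv.orderOf_eq, hy]⟩
  have hsix : ({a | a ∈ (S : Subgroup G) ∧ orderOf a = 9} : Set G).ncard = 6 := by
    haveI : IsCyclic ↥(S : Subgroup G) := isCyclic_of_orderOf_eq_card ⟨y, hyS⟩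
      (by rw [Subgroup.orderOf_mk, hy, H.card_sylow_three S])
    have := Fintype.ofFinite ↥(S : Subgroup G)
    have h6 := IsCyclic.card_orderOf_eq_totient (α := ↥(S : Subgroup G)) (d := 9)
      (by rw [← Nat.card_eq_fintype_card, H.card_sylow_three S])
    have e : ({a | a ∈ (S : Subgroup G) ∧ orderOf a = 9} : Set G) =
        Subtype.val '' ((Finset.univ.filter fun a : ↥(S : Subgroup G) => orderOf a = 9 : Finset _) : Set ↥(S : Subgroup G)) := by
      ext a
      simp only [Set.mem_ofPred_eq, Finset.coe_filter, Finset.mem_univ, true_and, Set.mem_image]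
      constructor
      · rintro ⟨h1, h2⟩; exact ⟨⟨a, h1⟩, by rwa [Subgroup.orderOf_mk], rfl⟩
      · rintro ⟨⟨b, hb⟩, h1, rfl⟩; exact ⟨hb, by rwa [Subgroup.orderOf_mk] at h1⟩
    rw [e, Set.ncard_image_of_injective _ Subtype.val_injective, Set.ncard_coe_finset, h6]
    decide +kernel
  have hO6 : O.ncard ≤ 6 := hsix ▸ Set.ncard_le_ncard hgen (Set.toFinite _)
  have hmul := card_normalizer_mul S
  rw [← hN, ← hnum, H.card] at hmul
  have hn1 : Nat.card (Sylow 3 G) % 3 = 1 := by
    have := card_sylow_modEq_one 3 G; rw [Nat.ModEq] at this; simpa using this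
  have h5 : O.ncard ≠ 5 := fun e => by
    obtain ⟨⟨z, hz⟩, hzo⟩ := exists_prime_orderOf_dvd_card' (G := ↥N) 5 (by rw [← hnum, e]; norm_num)
    rw [Subgroup.orderOf_mk] at hzo
    have hfix := ncard_conj_mod (p := 5) (x := z) (k := 1) (by rw [pow_one, ← hzo, pow_orderOf_eq_one])
      (s := {a | a ∈ (S : Subgroup G) ∧ orderOf a = 9}) fun a ha =>
        ⟨(mem_normalizer_iff.1 hz a).1 ha.1, by rw [← MulAut.conj_apply, MulEquiv.orderOf_eq]; exact ha.2⟩
    rw [hsix] at hfix
    obtain ⟨a, ⟨-, hao⟩, hac⟩ := Set.nonempty_of_ncard_ne_zero (s := {a ∈ {a | a ∈ (S : Subgroup G) ∧ orderOf a = 9} |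
      z * a = a * z}) (by omega)
    have := H.five z hzo ▸ M12Nse.dvd_centralizer_orderOf hac.symm
    rw [hao] at this
    norm_num at this
  have hO0 : O.ncard ≠ 0 := (Set.ncard_pos (Set.toFinite _)).2 (Set.range_nonempty _) |>.ne'
  -- the elements of order nine
  let f : Sylow 3 G × {a : G // a ∈ (S : Subgroup G) ∧ orderOf a = 9} → {g : G // orderOf g = 9} := fun p =>
    ⟨(MulAction.exists_smul_eq G S p.1).choose * p.2.1 * (MulAction.exists_smul_eq G S p.1).choose⁻¹,
      by rw [← MulAut.conj_apply, MulEquiv.orderOf_eq]; exact p.2.2.2⟩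
  have hf : Function.Injective f := by
    rintro ⟨P, a⟩ ⟨Q, b⟩ h
    have key : ∀ (P : Sylow 3 G) (a : {a : G // a ∈ (S : Subgroup G) ∧ orderOf a = 9}),
        (P : Subgroup G) = zpowers (f (P, a)).1 := fun P a => by
      set c := (MulAction.exists_smul_eq G S P).choose
      have hc : c • S = P := (MulAction.exists_smul_eq G S P).choose_spec
      refine (Subgroup.eq_of_le_of_card_ge (zpowers_le.2 ?_) ?_).symm
      · show c * a.1 * c⁻¹ ∈ (P : Subgroup G)
        rw [← hc, Sylow.coe_subgroup_smul, Subgroup.mem_pointwise_smul_iff_inv_smul_mem]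
        simp only [MulAut.smul_def, ← map_inv, MulAut.conj_apply]
        convert a.2.1 using 1
        group
      · rw [H.card_sylow_three P, Nat.card_zpowers, (f (P, a)).2]
    have hPQ : P = Q := Sylow.ext ((key P a).trans ((congrArg (fun w => zpowers (w : {g : G // orderOf g = 9}).1) h).trans (key Q b).symm))
    subst hPQ
    have := congrArg Subtype.val h
    exact Prod.ext rfl (Subtype.ext (mul_left_cancel (mul_right_cancel this)))
  have hcnt := (Nat.card_le_card_of_injective f hf).trans (H.cnt_le (k := 9) (by decide))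
  rw [Nat.card_prod, show Nat.card {a : G // a ∈ (S : Subgroup G) ∧ orderOf a = 9} = 6 from
    (Nat.card_coe_set_eq _).trans hsix] at hcnt
  interval_cases h : O.ncard <;> omega

end Cfsg.Lib.M22Nse
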