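import Cfsg.Agent.Recognition.MathieuEleven.Basic

/-!
A group of order at most sixty-four with three central involutions, permuted by an automorphism of order three
without fixed points, whose square roots are counted by multiples of three, is a four-group.
-/

set_option autoImplicit false
set_option linter.unusedSectionVars false
set_option linter.style.haveILetI false

namespace Cfsg.Lib.M22Nse.CensusLemma

open Subgroup Cfsg.Lib.MathieuEleven

universe u

variable {T : Type u} [Group T] [Finite T]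

local instance fact_three_cl : Fact (Nat.Prime 3) := ⟨Nat.prime_three⟩
local instance fact_two_cl : Fact (Nat.Prime 2) := ⟨Nat.prime_two⟩

theorem invariant_mod (σ : MulAut T) (h3 : σ ^ 3 = 1) (hfix : ∀ u, σ u = u → u = 1) {s : Set T}
    (hs : ∀ u ∈ s, σ u ∈ s) (h1 : (1 : T) ∈ s) : s.ncard % 3 = 1 := by
  rw [ncard_fixed_mod (p := 3) (x := σ) (k := 1) (by rw [pow_one]; exact h3) (s := s) hs,
    show {a ∈ s | σ • a = a} = {(1 : T)} from ?_, Set.ncard_singleton]
  ext a
  simp only [Set.mem_ofPred_eq, MulAut.smul_def, Set.mem_singleton_iff]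
  exact ⟨fun h => hfix a h.2, fun h => h ▸ ⟨h1, map_one σ⟩⟩

/-- the four-group -/
theorem card_four (σ : MulAut T) (h3 : σ ^ 3 = 1) (hfix : ∀ u, σ u = u → u = 1) {a : ℕ}
    (ha : Nat.card T = 2 ^ a) (ha6 : a ≤ 6) (hI : {u : T | u * u = 1}.ncard = 4)
    (hZ : ∀ u : T, u * u = 1 → u ∈ center T)
    (hr : ∀ t : T, t * t = 1 → t ≠ 1 → 3 ∣ {u : T | u * u = t}.ncard) : Nat.card T = 4 := by
  classical
  have hcc : ∀ {w : T}, w * w = 1 → ∀ v, v * w = w * v := fun hw v => Subgroup.mem_center_iff.1 (hZ _ hw) v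
  let W : Subgroup T :=
    { carrier := {u : T | u * u = 1}
      one_mem' := one_mul 1
      mul_mem' := fun {u v} (hu : u * u = 1) (hv : v * v = 1) => show u * v * (u * v) = 1 by
        rw [← mul_assoc, mul_assoc u v u, ← hcc hv u, ← mul_assoc, hu, one_mul, hv]
      inv_mem' := fun {u} (hu : u * u = 1) => show u⁻¹ * u⁻¹ = 1 by rw [← mul_inv_rev, hu, inv_one] }
  have hWmem : ∀ {u : T}, u ∈ W ↔ u * u = 1 := Iff.rfl
  haveI hWn : W.Normal := ⟨fun n hn g => by rw [hcc hn g, mul_inv_cancel_right]; exact hn⟩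
  have hWc : Nat.card ↥W = 4 := (Nat.card_coe_set_eq {u : T | u * u = 1}).trans hI
  have hWσ : ∀ {u : T}, u ∈ W → σ u ∈ W := fun {u} hu => by
    rw [hWmem, ← map_mul, hWmem.1 hu, map_one]
  set X : Set T := {u : T | u * u ∈ W} with hX
  have h1X : (1 : T) ∈ X := by simp only [hX, Set.mem_ofPred_eq, one_mul]; exact one_mem W
  have hXσ : ∀ u ∈ X, σ u ∈ X := fun u hu => by
    show σ u * σ u ∈ W
    rw [← map_mul]; exact hWσ hu
  -- the size of X
  have hX9 : X.ncard % 9 = 4 := by
    obtain ⟨t₀, ht₀, ht1⟩ : ∃ t : T, t * t = 1 ∧ t ≠ 1 := by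
      by_contra! h
      have : {u : T | u * u = 1} ⊆ {1} := fun u hu => h u hu
      have := Set.ncard_le_ncard this
      rw [hI, Set.ncard_singleton] at this
      omega
    set t₁ := σ t₀ with ht₁
    set t₂ := σ t₁ with ht₂
    have hσ3 : σ t₂ = t₀ := by
      have := congrArg (fun f : MulAut T => f t₀) h3
      simpa [pow_succ, MulAut.mul_apply] using this
    have d01 : t₀ ≠ t₁ := fun e => ht1 (hfix _ e.symm)
    have d12 : t₁ ≠ t₂ := fun e => d01 (σ.injective e)
    have d20 : t₂ ≠ t₀ := fun e => d12 (σ.injective (by rw [hσ3]; exact e.symm ▸ rfl))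
    have h1 : σ t₀ * σ t₀ = 1 := by rw [← map_mul, ht₀, map_one]
    have h2 : σ t₁ * σ t₁ = 1 := by rw [← map_mul, h1, map_one]
    have e1 : t₁ ≠ 1 := fun e => ht1 (σ.injective (by rw [map_one]; exact e))
    have e2 : t₂ ≠ 1 := fun e => e1 (σ.injective (by rw [map_one]; exact e))
    have hset : ({1, t₀, t₁, t₂} : Set T) = {u : T | u * u = 1} := by
      refine Set.eq_of_subset_of_ncard_le ?_ ?_ (Set.toFinite _)
      · rintro u (rfl | rfl | rfl | rfl)
        exacts [one_mul 1, ht₀, h1, h2]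
      · rw [hI, Set.ncard_insert_of_notMem (by simp [ht1.symm, e1.symm, e2.symm]),
          Set.ncard_eq_three.2 ⟨t₀, t₁, t₂, d01, d20.symm, d12, rfl⟩]
    let R : T → Set T := fun t => {u : T | u * u = t}
    have hR : ∀ t, R (σ t) = σ '' R t := fun t => by
      ext u
      constructor
      · intro (hu : u * u = σ t)
        exact ⟨σ.symm u, show σ.symm u * σ.symm u = t by rw [← map_mul, hu, MulEquiv.symm_apply_apply],
          MulEquiv.apply_symm_apply σ u⟩
      · rintro ⟨v, hv, rfl⟩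
        show σ v * σ v = σ t
        rw [← map_mul, show v * v = t from hv]
    have hRc : ∀ t, (R (σ t)).ncard = (R t).ncard := fun t => by
      rw [hR, Set.ncard_image_of_injective _ σ.injective]
    have hdis : ∀ {s t : T}, s ≠ t → Disjoint (R s) (R t) := fun h =>
      Set.disjoint_left.2 fun u (h1 : u * u = _) (h2 : u * u = _) => h (h1.symm.trans h2)
    have hXeq : X = (R 1 ∪ R t₀) ∪ (R t₁ ∪ R t₂) := by
      ext u
      show u * u ∈ {w : T | w * w = 1} ↔ _
      rw [← hset]
      simp only [Set.mem_insert_iff, Set.mem_singleton_iff, Set.mem_union, R, Set.mem_ofPred_eq]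
      tauto
    rw [hXeq, Set.ncard_union_eq (Set.disjoint_union_left.2 ⟨Set.disjoint_union_right.2 ⟨hdis e1.symm, hdis e2.symm⟩,
        Set.disjoint_union_right.2 ⟨hdis d01, hdis d20.symm⟩⟩) (Set.toFinite _) (Set.toFinite _),
      Set.ncard_union_eq (hdis ht1.symm) (Set.toFinite _) (Set.toFinite _),
      Set.ncard_union_eq (hdis d12) (Set.toFinite _) (Set.toFinite _), hRc t₁, hRc t₀,
      show (R 1).ncard = 4 from hI]
    obtain ⟨c, hc⟩ : 3 ∣ (R t₀).ncard := hr t₀ ht₀ ht1
    omega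
  by_contra hne
  have hWlt : W ≠ ⊤ := fun e => hne (by rw [← hWc, e, Subgroup.card_top])
  have hP : IsPGroup 2 T := IsPGroup.of_card ha
  -- the second centre
  set Z : Subgroup T := (center (T ⧸ W)).comap (QuotientGroup.mk' W) with hZd
  have hcomm : ∀ {z : T}, z ∈ Z → ∀ u, z * u * z⁻¹ * u⁻¹ ∈ W := fun {z} hz u => by
    rw [hZd, mem_comap, Subgroup.mem_center_iff] at hz
    rw [← QuotientGroup.eq_one_iff]
    have := hz (QuotientGroup.mk' W u)
    simp only [QuotientGroup.mk'_apply] at this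
    simp only [QuotientGroup.mk_mul, QuotientGroup.mk_inv, ← this]
    group
  have hZof : ∀ {z : T}, (∀ u, z * u * z⁻¹ * u⁻¹ ∈ W) → z ∈ Z := fun {z} hz => by
    rw [hZd, mem_comap, Subgroup.mem_center_iff]
    intro q
    obtain ⟨u, rfl⟩ := QuotientGroup.mk'_surjective W q
    have := (QuotientGroup.eq_one_iff _).2 (hz u)
    simp only [QuotientGroup.mk_mul, QuotientGroup.mk_inv, mul_inv_eq_iff_eq_mul, one_mul] at this
    exact this.symm
  have hmulX : ∀ {u z : T}, u ∈ X → z ∈ Z → z ∈ X → u * z ∈ X := fun {u z} hu hz hzX => by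
    show u * z * (u * z) ∈ W
    have hc := hcomm hz u
    have e : u * z * (u * z) = (u * u) * (z * z) * (z * u * z⁻¹ * u⁻¹) := by
      set c := z * u * z⁻¹ * u⁻¹ with hcd
      have hcen := hcc (hWmem.1 hc)
      have e1 : z * u = c * u * z := by rw [hcd]; group
      calc u * z * (u * z) = u * (z * u) * z := by group
        _ = u * (c * u * z) * z := by rw [e1]
        _ = (u * c) * u * (z * z) := by group
        _ = c * u * u * (z * z) := by rw [hcen u]
        _ = c * ((u * u) * (z * z)) := by group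
        _ = (u * u) * (z * z) * c := (hcen _).symm
    rw [e]
    exact mul_mem (mul_mem hu hzX) hc
  let Y : Subgroup T :=
    { carrier := {z : T | z ∈ Z ∧ z ∈ X}
      one_mem' := ⟨one_mem Z, h1X⟩
      mul_mem' := fun {u v} hu hv => ⟨mul_mem hu.1 hv.1, hmulX hu.2 hv.1 hv.2⟩
      inv_mem' := fun {u} hu => ⟨inv_mem hu.1, by
        show u⁻¹ * u⁻¹ ∈ W
        rw [← mul_inv_rev]; exact inv_mem hu.2⟩ }
  -- the meet is bigger than the four-group
  have hY8 : 4 < Nat.card ↥Y := by
    have hle : W ≤ Y := fun w hw => ⟨hZof fun u => by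
      rw [← hcc hw u, mul_inv_cancel_right, mul_inv_cancel]; exact one_mem W, by
        show w * w ∈ W
        rw [hWmem.1 hw]; exact one_mem W⟩
    rw [← hWc]
    refine lt_of_le_of_ne (Subgroup.card_le_of_le hle) fun e => ?_
    have hYW : Y = W := (Subgroup.eq_of_le_of_card_ge hle e.symm.le).symm
    haveI : Nontrivial (T ⧸ W) := QuotientGroup.nontrivial_iff.2 hWlt
    haveI := (hP.to_quotient W).center_nontrivial
    obtain ⟨⟨q, hq⟩, hq1⟩ := exists_ne (1 : center (T ⧸ W))
    obtain ⟨z, rfl⟩ := QuotientGroup.mk'_surjective W q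
    have hzZ : z ∈ Z := hq
    have hzW : z ∉ W := fun h => hq1 (Subtype.ext ((QuotientGroup.eq_one_iff z).2 h))
    obtain ⟨i, hi⟩ := hP z
    have hex : ∃ j, z ^ 2 ^ j ∈ W := ⟨i, by rw [hi]; exact one_mem W⟩
    have hj := Nat.find_spec hex
    obtain ⟨j, hj'⟩ : ∃ j, Nat.find hex = j + 1 := ⟨Nat.find hex - 1, by
      have : Nat.find hex ≠ 0 := fun e => hzW (by rw [e] at hj; simpa using hj)
      omega⟩
    have hmin := Nat.find_min hex (m := j) (by omega)
    refine hmin (hYW ▸ (show z ^ 2 ^ j ∈ Y from ⟨pow_mem hzZ _, ?_⟩))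
    show z ^ 2 ^ j * z ^ 2 ^ j ∈ W
    rw [← pow_add, ← two_mul, ← pow_succ', ← hj']
    exact hj
  obtain ⟨j, -, hj⟩ := (Nat.dvd_prime_pow Nat.prime_two).1 (ha ▸ Subgroup.card_subgroup_dvd_card Y)
  have hY3 : Nat.card ↥Y % 3 = 1 := by
    rw [← SetLike.coe_sort_coe, Nat.card_coe_set_eq]
    refine invariant_mod σ h3 hfix (fun z hz => ⟨hZof fun u => ?_, hXσ z hz.2⟩) (one_mem Y)
    have := hWσ (hcomm hz.1 (σ.symm u))
    simpa only [map_mul, map_inv, MulEquiv.apply_symm_apply] using this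
  have hXY : Nat.card ↥Y ∣ X.ncard := by
    have hpre : (QuotientGroup.mk ⁻¹' ((QuotientGroup.mk : T → T ⧸ Y) '' X) : Set T) = X := by
      ext u
      constructor
      · rintro ⟨v, hv, e⟩
        have hy : v⁻¹ * u ∈ Y := QuotientGroup.eq.1 e
        have := hmulX hv hy.1 hy.2
        rwa [mul_inv_cancel_left] at this
      · exact fun hu => ⟨u, hu, rfl⟩
    rw [← Nat.card_coe_set_eq X, ← hpre, Nat.card_congr (QuotientGroup.preimageMkEquivSubgroupProdSet _ _),
      Nat.card_prod]
    exact dvd_mul_right _ _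
  have hX3 : X.ncard % 3 = 1 := invariant_mod σ h3 hfix hXσ h1X
  have hX64 : X.ncard ≤ 64 := by
    refine (Set.ncard_le_ncard (Set.subset_univ X)).trans ?_
    rw [Set.ncard_univ, ha]
    exact (Nat.pow_le_pow_right (by norm_num) ha6).trans_eq (by norm_num)
  have hY64 : Nat.card ↥Y ≤ 64 := by
    refine (Nat.le_of_dvd (by rw [ha]; positivity) (Subgroup.card_subgroup_dvd_card Y)).trans ?_
    rw [ha]
    exact (Nat.pow_le_pow_right (by norm_num) ha6).trans_eq (by norm_num)
  obtain ⟨c, hc⟩ := hXY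
  rw [hj] at hY8 hY3 hY64 hc
  have hj6 : j ≤ 6 := by
    by_contra! h
    have : 2 ^ 7 ≤ 2 ^ j := Nat.pow_le_pow_right (by norm_num) h
    omega
  interval_cases j <;> omega

end Cfsg.Lib.M22Nse.CensusLemma
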