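import Cfsg.Agent.M22Nse.Orders

/-!
The set of element orders.
-/

set_option autoImplicit false
set_option linter.unusedSectionVars false
set_option linter.style.haveILetI false
set_option maxRecDepth 100000

namespace Cfsg.Lib.M22Nse

open Subgroup Cfsg.Lib.SameOrder

/-- orders dividing `1152` with their totients and proper divisors -/
def specRows : List (ℕ × ℕ × List ℕ) := [(4, 2, [2]),
  (6, 2, [2, 3]),
  (8, 4, [2, 4]),
  (9, 6, [3]),
  (12, 4, [2, 3, 4, 6]),
  (16, 8, [2, 4, 8]),
  (18, 6, [2, 3, 6, 9]),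
  (24, 8, [2, 3, 4, 6, 8, 12]),
  (32, 16, [2, 4, 8, 16]),
  (36, 12, [2, 3, 4, 6, 9, 12, 18]),
  (48, 16, [2, 3, 4, 6, 8, 12, 16, 24]),
  (64, 32, [2, 4, 8, 16, 32]),
  (72, 24, [2, 3, 4, 6, 8, 9, 12, 18, 24, 36]),
  (96, 32, [2, 3, 4, 6, 8, 12, 16, 24, 32, 48]),
  (128, 64, [2, 4, 8, 16, 32, 64]),
  (144, 48, [2, 3, 4, 6, 8, 9, 12, 16, 18, 24, 36, 48, 72]),
  (192, 64, [2, 3, 4, 6, 8, 12, 16, 24, 32, 48, 64, 96]),
  (288, 96, [2, 3, 4, 6, 8, 9, 12, 16, 18, 24, 32, 36, 48, 72, 96, 144]),
  (384, 128, [2, 3, 4, 6, 8, 12, 16, 24, 32, 48, 64, 96, 128, 192]),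
  (576, 192, [2, 3, 4, 6, 8, 9, 12, 16, 18, 24, 32, 36, 48, 64, 72, 96, 144, 192, 288]),
  (1152, 384, [2, 3, 4, 6, 8, 9, 12, 16, 18, 24, 32, 36, 48, 64, 72, 96, 128, 144, 192, 288, 384, 576])]

/-- values outside the orders one, seven and eleven -/
def smallVals : List ℕ := [0, 1155, 12320, 36960, 41580, 55440, 88704]

/-- value of a partial assignment -/
def getV (acc : List (ℕ × ℕ)) (d : ℕ) : ℕ := (acc.lookup d).getD 0

/-- an admissible value -/
def okV (n ph : ℕ) (ds : List ℕ) (acc : List (ℕ × ℕ)) (v : ℕ) : Bool :=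
  (v == 0 || (v % ph == 0 && ds.all fun d => !(getV acc d == 0))) && ((1 + (ds.map (getV acc)).sum + v) % n == 0)

/-- the assignments with the right total -/
def search : List (ℕ × ℕ × List ℕ) → List (ℕ × ℕ) → ℕ → List (List (ℕ × ℕ))
  | [], acc, left => if left = 0 then [acc] else []
  | (n, ph, ds) :: r, acc, left => smallVals.flatMap fun v =>
      if Nat.ble v left && okV n ph ds acc v then search r ((n, v) :: acc) (left - v) else []

/-- the divisors are assigned before use -/
def wfRows : List (ℕ × ℕ × List ℕ) → List ℕ → Bool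
  | [], _ => true
  | (n, _, ds) :: r, ks => ds.all (fun d => ks.contains d) && !ks.contains n && wfRows r (n :: ks)

theorem rows_wf : wfRows specRows [2, 3] = true ∧
    specRows.all (fun r => decide (r.2.1 = Nat.totient r.1) &&
      decide (r.2.2 = ((List.range r.1).filter fun d => 2 ≤ d && r.1 % d == 0)) && decide (4 ≤ r.1) &&
      decide (1152 % r.1 = 0)) = true ∧
    ∀ d ∈ Nat.divisors 1152, d = 1 ∨ d = 2 ∨ d = 3 ∨ d ∈ specRows.map (·.1) := by decide +kernel

theorem rows_sum : (Nat.divisors 1152).card = 24 ∧ specRows.length = 21 ∧ (specRows.map (·.1)).Nodup := by decide +kernel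

/-- the conclusion for an assignment -/
def goodSol (left : ℕ) (s : List (ℕ × ℕ)) : Bool :=
  left == 133980 && getV s 6 == 36960 && (specRows.map (·.1)).all fun n => n == 4 || n == 6 || n == 8 || getV s n == 0

theorem search_good : smallVals.all (fun c => !(Nat.ble c 133980) ||
    (search specRows [(3, 12320), (2, 1155)] (133980 - c)).all (goodSol (133980 - c))) = true := by decide +kernel

theorem getV_of_mem {f : ℕ → ℕ} : ∀ {acc : List (ℕ × ℕ)}, (∀ p ∈ acc, p.2 = f p.1) →
    ∀ {d : ℕ}, d ∈ acc.map (·.1) → getV acc d = f d := by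
  intro acc
  induction acc with
  | nil => intro _ d h; simp at h
  | cons p r ih =>
    intro hp d hd
    obtain ⟨k, v⟩ := p
    unfold getV
    rw [List.lookup_cons]
    by_cases h : d = k
    · subst h
      simpa using hp (d, v) List.mem_cons_self
    · rw [beq_eq_false_iff_ne.2 h]
      simp only [List.map_cons, List.mem_cons] at hd
      exact ih (fun q hq => hp q (List.mem_cons_of_mem _ hq)) (hd.resolve_left h)

theorem search_sound (f : ℕ → ℕ) : ∀ (rows : List (ℕ × ℕ × List ℕ)) (acc : List (ℕ × ℕ)) (left : ℕ),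
    wfRows rows (acc.map (·.1)) = true → (∀ p ∈ acc, p.2 = f p.1) →
    (∀ r ∈ rows, f r.1 ∈ smallVals ∧ (f r.1 = 0 ∨ r.2.1 ∣ f r.1 ∧ ∀ d ∈ r.2.2, f d ≠ 0) ∧
      r.1 ∣ 1 + (r.2.2.map f).sum + f r.1) →
    (rows.map fun r => f r.1).sum = left →
    ∃ s ∈ search rows acc left, (∀ p ∈ s, p.2 = f p.1) ∧
      (∀ n, n ∈ acc.map (·.1) ∨ n ∈ rows.map (·.1) → n ∈ s.map (·.1)) := by
  intro rows
  induction rows with
  | nil =>
    intro acc left _ hacc _ hs
    refine ⟨acc, ?_, hacc, fun n hn => hn.resolve_right (by simp)⟩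
    simp at hs
    simp [search, ← hs]
  | cons row r ih =>
    obtain ⟨n, ph, ds⟩ := row
    intro acc left hwf hacc hrows hs
    simp only [wfRows, Bool.and_eq_true, List.all_eq_true, List.contains_iff_mem] at hwf
    obtain ⟨⟨hds, -⟩, hwf⟩ := hwf
    obtain ⟨hv, h0, hdvd⟩ := hrows (n, ph, ds) List.mem_cons_self
    simp only [List.map_cons, List.sum_cons] at hs
    have hget : ∀ d ∈ ds, getV acc d = f d := fun d hd => getV_of_mem hacc (hds d hd)
    have hok : okV n ph ds acc (f n) = true := by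
      simp only [okV, Bool.and_eq_true, Bool.or_eq_true, beq_iff_eq, List.all_eq_true, Bool.not_eq_true',
        beq_eq_false_iff_ne]
      rw [List.map_congr_left hget]
      refine ⟨?_, Nat.mod_eq_zero_of_dvd hdvd⟩
      rcases h0 with h | ⟨h1, h2⟩
      · exact Or.inl h
      · exact Or.inr ⟨Nat.mod_eq_zero_of_dvd h1, fun d hd => by rw [hget d hd]; exact h2 d hd⟩
    obtain ⟨s, hs', hval, hkeys⟩ := ih ((n, f n) :: acc) (left - f n) hwf (fun p hp => by
      rcases List.mem_cons.1 hp with rfl | hp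
      exacts [rfl, hacc p hp]) (fun q hq => hrows q (List.mem_cons_of_mem _ hq)) (by omega)
    refine ⟨s, ?_, hval, fun m hm => hkeys m ?_⟩
    · simp only [search, List.mem_flatMap]
      exact ⟨f n, hv, by rw [show Nat.ble (f n) left = true from Nat.ble_eq_true_of_le (by omega), hok]; simpa using hs'⟩
    · simp only [List.map_cons, List.mem_cons] at hm ⊢
      tauto

universe u

variable {G : Type u} [Group G] [Finite G] (H : Hyp G)

include H

theorem cnt_ne_zero_of_dvd {n d : ℕ} (hn : cnt G n ≠ 0) (hd : d ∣ n) : cnt G d ≠ 0 := by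
  obtain ⟨g, rfl⟩ := (cnt_ne_zero_iff n).1 hn
  exact (cnt_ne_zero_iff d).2 ⟨g ^ (orderOf g / d), orderOf_pow_orderOf_div (orderOf_pos g).ne' hd⟩

theorem order_small {g : G} (h5 : ¬ 5 ∣ orderOf g) (h7 : ¬ 7 ∣ orderOf g) (h11 : ¬ 11 ∣ orderOf g) :
    orderOf g ∈ Nat.divisors 1152 := by
  have hd : orderOf g ∣ 1152 * 385 := by
    rw [show 1152 * 385 = Nat.card G by rw [H.card]]; exact orderOf_dvd_natCard g
  refine Nat.mem_divisors.2 ⟨Nat.Coprime.dvd_of_dvd_mul_right ?_ hd, by norm_num⟩
  rw [show (385 : ℕ) = 5 * 7 * 11 by norm_num]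
  exact Nat.Coprime.mul_right (Nat.Coprime.mul_right ((Nat.Prime.coprime_iff_not_dvd (by norm_num)).2 h5).symm
    ((Nat.Prime.coprime_iff_not_dvd (by norm_num)).2 h7).symm)
    ((Nat.Prime.coprime_iff_not_dvd (by norm_num)).2 h11).symm

theorem sum_rows : (specRows.map fun r => cnt G r.1).sum + cnt G 10 = 133980 := by
  classical
  have := Fintype.ofFinite G
  have hmaps : ∀ g : G, orderOf g ∈ Nat.divisors 1152 ∪ {5, 7, 10, 11} := fun g => by
    rw [Finset.mem_union]
    by_cases h11 : 11 ∣ orderOf g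
    · exact Or.inr (by simp [orderOf_of_eleven_dvd H h11])
    by_cases h7 : 7 ∣ orderOf g
    · exact Or.inr (by simp [orderOf_of_seven_dvd H h7])
    by_cases h5 : 5 ∣ orderOf g
    · exact Or.inr (by rcases orderOf_of_five_dvd H h5 with h | h <;> simp [h])
    exact Or.inl (order_small H h5 h7 h11)
  have h := Finset.card_eq_sum_card_fiberwise (f := (orderOf : G → ℕ)) (s := (Finset.univ : Finset G))
    (t := Nat.divisors 1152 ∪ {5, 7, 10, 11}) (fun g _ => hmaps g)
  rw [Finset.sum_union (by decide +kernel)] at h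
  simp only [show ∀ d, (Finset.univ.filter fun g : G => orderOf g = d).card = cnt G d from fun d => by
    rw [cnt, Nat.card_eq_fintype_card, Fintype.card_subtype]] at h
  have hfin : Nat.divisors 1152 = insert 1 (insert 2 (insert 3 (specRows.map (·.1)).toFinset)) := by decide +kernel
  rw [Finset.card_univ, ← Nat.card_eq_fintype_card, H.card,
    show ({5, 7, 10, 11} : Finset ℕ) = insert 5 (insert 7 (insert 10 {11})) from rfl, Finset.sum_insert (by decide +kernel),
    Finset.sum_insert (by decide +kernel), Finset.sum_insert (by decide +kernel), Finset.sum_singleton,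
    (cnt_five H).1, (cnt_seven H).1, (cnt_eleven H).1, hfin, Finset.sum_insert (by decide +kernel),
    Finset.sum_insert (by decide +kernel), Finset.sum_insert (by decide +kernel), List.sum_toFinset _ rows_sum.2.2,
    cnt_one, cnt_two H, cnt_three H, List.map_map] at h
  change _ = 133980
  simp only [Function.comp_def] at h
  omega

theorem spectrum : cnt G 6 = 36960 ∧ ∀ g : G, orderOf g ∈ ([1, 2, 3, 4, 5, 6, 7, 8, 11] : List ℕ) := by
  obtain ⟨hwf, hrows, hdiv⟩ := rows_wf
  simp only [List.all_eq_true, Bool.and_eq_true, decide_eq_true_eq] at hrows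
  have hf : ∀ p ∈ [((3 : ℕ), (12320 : ℕ)), (2, 1155)], p.2 = cnt G p.1 := by
    simp [cnt_two H, cnt_three H]
  have hsum := sum_rows H
  obtain ⟨s, hs, hval, hkeys⟩ := search_sound (cnt G) specRows [(3, 12320), (2, 1155)] (133980 - cnt G 10)
    (by decide +kernel) hf
    (fun r hr => by
      obtain ⟨⟨⟨h1, h2⟩, h3⟩, h4⟩ := hrows r hr
      refine ⟨cnt_vals H (by omega) (by intro e; rw [e] at h4; omega) (by intro e; rw [e] at h4; omega), ?_, ?_⟩
      · refine (Classical.em (cnt G r.1 = 0)).imp_right fun hne => ⟨h1 ▸ Cfsg.Agent.S3995.totient_dvd_card G r.1,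
          fun d hd => ?_⟩
        rw [h2, List.mem_filter, Bool.and_eq_true, beq_iff_eq] at hd
        exact cnt_ne_zero_of_dvd H hne (Nat.dvd_of_mod_eq_zero hd.2.2)
      · have hn : r.1 ∣ Nat.card G := H.card ▸ (Nat.dvd_of_mod_eq_zero h4).trans (by norm_num)
        have hnd : r.2.2.Nodup := h2 ▸ List.nodup_range.filter _
        have hdv : Nat.divisors r.1 = insert 1 (insert r.1 r.2.2.toFinset) := by
          ext d
          simp only [Nat.mem_divisors, Finset.mem_insert, List.mem_toFinset, h2, List.mem_filter, List.mem_range,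
            Bool.and_eq_true, decide_eq_true_eq, beq_iff_eq]
          constructor
          · rintro ⟨hd, -⟩
            have hle := Nat.le_of_dvd (by omega) hd
            have hpos := Nat.pos_of_dvd_of_pos hd (by omega)
            by_cases e1 : d = 1
            · exact Or.inl e1
            by_cases e2 : d = r.1
            · exact Or.inr (Or.inl e2)
            exact Or.inr (Or.inr ⟨by omega, by omega, Nat.mod_eq_zero_of_dvd hd⟩)
          · rintro (rfl | rfl | ⟨-, -, hd⟩)
            · exact ⟨one_dvd _, by omega⟩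
            · exact ⟨dvd_rfl, by omega⟩
            · exact ⟨Nat.dvd_of_mod_eq_zero hd, by omega⟩
        have hni : r.1 ∉ r.2.2.toFinset := by simp [h2]
        have h1i : (1 : ℕ) ∉ insert r.1 r.2.2.toFinset := by
          simp only [Finset.mem_insert, List.mem_toFinset, h2, List.mem_filter, Bool.and_eq_true, decide_eq_true_eq]
          omega
        have := dvd_sum_divisors hn
        rw [hdv, Finset.sum_insert h1i, Finset.sum_insert hni, cnt_one, List.sum_toFinset _ hnd] at this
        rwa [show 1 + (r.2.2.map (cnt G)).sum + cnt G r.1 = 1 + (cnt G r.1 + (r.2.2.map (cnt G)).sum) by omega])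
    (by omega)
  have hc10 := cnt_vals H (n := 10) (by norm_num) (by norm_num) (by norm_num)
  have hgood := List.all_eq_true.1 search_good _ hc10
  rw [show Nat.ble (cnt G 10) 133980 = true from Nat.ble_eq_true_of_le (by omega), Bool.not_true, Bool.false_or] at hgood
  have hgood := List.all_eq_true.1 hgood s hs
  simp only [goodSol, Bool.and_eq_true, beq_iff_eq, List.all_eq_true, Bool.or_eq_true] at hgood
  have hget : ∀ n, n ∈ specRows.map (·.1) → getV s n = cnt G n := fun n hn => getV_of_mem hval (hkeys n (Or.inr hn))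
  obtain ⟨⟨hleft, g6⟩, gall⟩ := hgood
  rw [hget 6 (by decide +kernel)] at g6
  refine ⟨g6, fun g => ?_⟩
  simp only [List.mem_cons, List.not_mem_nil, or_false]
  by_cases h11 : 11 ∣ orderOf g
  · have := orderOf_of_eleven_dvd H h11; omega
  by_cases h7 : 7 ∣ orderOf g
  · have := orderOf_of_seven_dvd H h7; omega
  by_cases h5 : 5 ∣ orderOf g
  · rcases orderOf_of_five_dvd H h5 with h | h
    · omega
    · have hne : cnt G 10 ≠ 0 := (cnt_ne_zero_iff _).2 ⟨g, h⟩
      omega
  rcases hdiv _ (order_small H h5 h7 h11) with h | h | h | h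
  · omega
  · omega
  · omega
  · have hne : cnt G (orderOf g) ≠ 0 := (cnt_ne_zero_iff _).2 ⟨g, rfl⟩
    rw [← hget _ h] at hne
    rcases gall _ h with ((e | e) | e) | e
    · omega
    · omega
    · omega
    · exact absurd e hne

end Cfsg.Lib.M22Nse
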