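import Cfsg.Agent.M22Nse.Pairing
import Cfsg.Agent.M22Nse.Spectrum
import Cfsg.Agent.M22Nse.Census
import Cfsg.Agent.M22Nse.TopCheck
import Cfsg.Agent.M22Nse.MidCheck

/-!
Two groups with the counts of the Mathieu group of degree twenty-two are isomorphic.
-/

set_option autoImplicit false
set_option synthInstance.maxSize 4000
set_option linter.unusedSectionVars false
set_option linter.style.haveILetI false

namespace Cfsg.Lib.M22Nse

open Subgroup Cfsg.Lib.SameOrder Cfsg.Lib.CosetCert

universe u v

section

variable {G : Type u} [Group G] (κ : A6 →* G) (e a : G)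

theorem wval_append (f : ℕ → G) (p q : List ℕ) : wval f (p ++ q) = wval f p * wval f q := by
  simp [wval, List.map_append, List.prod_append]

theorem wval_small : ∀ w : List ℕ, w.all (fun l => decide (l < 4)) = true → wval (im κ e a) w = κ (wv w)
  | [], _ => by simp [wval, wv]
  | l :: w, h => by
    rw [List.all_cons, Bool.and_eq_true, decide_eq_true_eq] at h
    have ih := wval_small w h.2
    simp only [wval, wv, List.map_cons, List.prod_cons, map_mul] at ih ⊢
    rw [ih]
    congr 1
    obtain ⟨h1, -⟩ := h
    interval_cases l <;> rfl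

theorem wval_four : wval (im κ e a) [4] = e := by simp [wval, im]

theorem wval_five : wval (im κ e a) [5] = a := by simp [wval, im]

theorem sq_small {w : List ℕ} (hw : w.all (fun l => decide (l < 4)) = true) (hv : wv w = 1) :
    wval (im κ e a) w = 1 := by rw [wval_small κ e a w hw, hv, map_one]

end

variable {G : Type u} [Group G] [Finite G] (H : Fields G)
include H

/-- generators satisfying the relators -/
theorem exists_gens : ∃ (κ : A6 →* G) (e a : G), (∀ r ∈ Top.rels, wval (im κ e a) r = 1) ∧
    closure (im κ e a '' Set.Iio 6) = ⊤ := by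
  classical
  obtain ⟨κ, e, a, A, B, hκ, sA, sB, hA, hB, hBA, he, he1, hef, hes, hea, ha, ha1, haf, has, haa, hd⟩ :=
    exists_points H
  refine ⟨κ, e, a, ?_, ?_⟩
  · have hsA : e⁻¹ = e := inv_eq_of_mul_eq_one_right (sA.sq e he)
    have hsB : a⁻¹ = a := inv_eq_of_mul_eq_one_right (sB.sq a ha)
    have comm_rel : ∀ (l : ℕ) (x : G) (D : CData), wval (im κ e a) [l] = x → x * x = 1 →
        (∀ τ ∈ D.hs, κ τ * x = x * κ τ) → ∀ (w w' : List ℕ), w.all (fun l => decide (l < 4)) = true →
        w'.all (fun l => decide (l < 4)) = true → wv w ∈ D.hs → wv w * wv w' = 1 →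
        wval (im κ e a) ([l] ++ w ++ [l] ++ w') = 1 := by
      intro l x D hl hx hfix w w' hw hw' hmem hinv
      rw [wval_append, wval_append, wval_append, hl, wval_small κ e a w hw, wval_small κ e a w' hw']
      calc x * κ (wv w) * x * κ (wv w') = x * (κ (wv w) * x) * κ (wv w') := by group
        _ = x * (x * κ (wv w)) * κ (wv w') := by rw [hfix _ hmem]
        _ = 1 := by rw [← mul_assoc x x, hx, one_mul, ← map_mul, hinv, map_one]
    have prod_rel : ∀ (l : ℕ) (x : G), wval (im κ e a) [l] = x → ∀ (w₁ w₁' w₂ w₂' : List ℕ),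
        w₁.all (fun l => decide (l < 4)) = true → w₁'.all (fun l => decide (l < 4)) = true →
        w₂.all (fun l => decide (l < 4)) = true → w₂'.all (fun l => decide (l < 4)) = true →
        wv w₁ * wv w₁' = 1 → wv w₂ * wv w₂' = 1 →
        x * (κ (wv w₁) * x * (κ (wv w₁))⁻¹) * (κ (wv w₂) * x * (κ (wv w₂))⁻¹) = 1 →
        wval (im κ e a) ([l] ++ w₁ ++ [l] ++ w₁' ++ w₂ ++ [l] ++ w₂') = 1 := by
      intro l x hl w₁ w₁' w₂ w₂' h1 h1' h2 h2' i1 i2 hprod
      simp only [wval_append]
      rw [hl, wval_small κ e a _ h1, wval_small κ e a _ h1', wval_small κ e a _ h2, wval_small κ e a _ h2',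
        eq_inv_of_mul_eq_one_right i1, eq_inv_of_mul_eq_one_right i2, map_inv, map_inv, ← hprod]
      group
    intro r hr
    simp only [Top.rels, List.mem_cons, List.not_mem_nil, or_false] at hr
    rcases hr with rfl | rfl | rfl | rfl | rfl | rfl | rfl | rfl | rfl | rfl | rfl | rfl | rfl | rfl | rfl |
      rfl | rfl | rfl | rfl | rfl | rfl | rfl | rfl | rfl | rfl | rfl | rfl
    · exact sq_small κ e a (by decide) (by decide +kernel)
    · exact sq_small κ e a (by decide) (by decide +kernel)
    · exact sq_small κ e a (by decide) (by decide +kernel)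
    · exact sq_small κ e a (by decide) (by decide +kernel)
    · show wval (im κ e a) ([4] ++ [4]) = 1
      rw [wval_append, wval_four, sA.sq e he]
    · show wval (im κ e a) ([5] ++ [5]) = 1
      rw [wval_append, wval_five, sB.sq a ha]
    · exact sq_small κ e a (by decide) (by decide +kernel)
    · exact sq_small κ e a (by decide) (by decide +kernel)
    · exact sq_small κ e a (by decide) (by decide +kernel)
    · exact sq_small κ e a (by decide) (by decide +kernel)
    · exact sq_small κ e a (by decide) (by decide +kernel)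
    · exact sq_small κ e a (by decide) (by decide +kernel)
    · exact comm_rel 4 e dP (wval_four κ e a) (sA.sq e he) hef [0] [0] (by decide) (by decide)
        (by decide +kernel) (by decide +kernel)
    · exact comm_rel 4 e dP (wval_four κ e a) (sA.sq e he) hef [3] [3] (by decide) (by decide)
        (by decide +kernel) (by decide +kernel)
    · exact comm_rel 4 e dP (wval_four κ e a) (sA.sq e he) hef [2,0,1,2,3,2,1,2] [2,1,2,3,2,1,0,2] (by decide)
        (by decide) (by decide +kernel) (by decide +kernel)
    · exact comm_rel 5 a dS (wval_five κ e a) (sB.sq a ha) haf [0] [0] (by decide) (by decide)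
        (by decide +kernel) (by decide +kernel)
    · exact comm_rel 5 a dS (wval_five κ e a) (sB.sq a ha) haf [1,3] [3,1] (by decide) (by decide)
        (by decide +kernel) (by decide +kernel)
    · exact comm_rel 5 a dS (wval_five κ e a) (sB.sq a ha) haf [3,2,1,2,3] [3,2,1,2,3] (by decide) (by decide)
        (by decide +kernel) (by decide +kernel)
    · exact prod_rel 4 e (wval_four κ e a) [3,2] [2,3] [2] [2] (by decide) (by decide) (by decide) (by decide)
        (by decide +kernel) (by decide +kernel) (hA.point_prod he he1 hef hes hea dP_tri)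
    · exact prod_rel 4 e (wval_four κ e a) [2,0,3,2] [2,3,0,2] [1,2,1,2] [2,1,2,1] (by decide) (by decide)
        (by decide) (by decide) (by decide +kernel) (by decide +kernel) (hA.point_prod he he1 hef hes hea dP_dis)
    · exact prod_rel 5 a (wval_five κ e a) [2,0,1,2] [2,1,0,2] [3] [3] (by decide) (by decide) (by decide)
        (by decide) (by decide +kernel) (by decide +kernel) (hB.point_prod ha ha1 haf has haa dS_one)
    · exact prod_rel 5 a (wval_five κ e a) [2,3] [3,2] [2,1,3,2] [2,3,1,2] (by decide) (by decide) (by decide)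
        (by decide) (by decide +kernel) (by decide +kernel) (hB.point_prod ha ha1 haf has haa dS_two)
    · show wval (im κ e a) ([4] ++ [5] ++ [4] ++ [5] ++ [0]) = 1
      simp only [wval_append]
      rw [wval_four, wval_five, wval_small κ e a [0] (by decide)]
      calc e * a * e * a * κ (wv [0]) = (e * a * (e * a)) * κ (wv [0]) := by group
        _ = 1 := by rw [hd, ← map_mul, show lp * wv [0] = 1 by decide +kernel, map_one]
    · exact sq_small κ e a (by decide) (by decide +kernel)
    · exact sq_small κ e a (by decide) (by decide +kernel)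
    · exact sq_small κ e a (by decide) (by decide +kernel)
    · exact sq_small κ e a (by decide) (by decide +kernel)
  · set L := closure (im κ e a '' Set.Iio 6)
    have hl : ∀ l, l < 6 → im κ e a l ∈ L := fun l hl => subset_closure ⟨l, hl, rfl⟩
    have hgl : ∀ l, κ (gl l) ∈ L := fun l => by
      match l with
      | 0 => exact hl 0 (by norm_num)
      | 1 => exact hl 1 (by norm_num)
      | 2 => exact hl 2 (by norm_num)
      | 3 => exact hl 3 (by norm_num)
      | (n + 4) => rw [show gl (n + 4) = 1 from rfl, map_one]; exact one_mem _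
    have hwv : ∀ w, κ (wv w) ∈ L := fun w => by
      induction w with
      | nil => simp [wv]
      | cons l w ih =>
        simp only [wv, List.map_cons, List.prod_cons, map_mul] at ih ⊢
        exact mul_mem (hgl l) ih
    have hhs : ∀ τ ∈ dP.hs, κ τ ∈ L := fun τ hτ => by
      simp only [CData.hs, List.mem_map] at hτ
      obtain ⟨w, -, rfl⟩ := hτ
      induction w with
      | nil => simp
      | cons k w ih =>
        rw [List.map_cons, List.prod_cons, map_mul]
        refine mul_mem ?_ ih
        by_cases hk : k < dP.gv.length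
        · rw [List.getD_eq_getElem _ _ hk]
          simp only [CData.gv, List.getElem_map]
          exact hwv _
        · rw [List.getD_eq_default _ _ (by omega), map_one]; exact one_mem _
    have hκL : ∀ σ, κ σ ∈ L := fun σ => by
      obtain ⟨i, hi⟩ := gens_top σ
      have := mul_mem (hwv (dP.reps.getD i [])) (hhs _ hi)
      rw [← map_mul] at this
      rwa [show wv (dP.reps.getD i []) = dP.rep i from rfl, mul_inv_cancel_left] at this
    have hAL : A ≤ L := fun v hv => by
      by_cases h1 : v = 1
      · rw [h1]; exact one_mem _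
      obtain ⟨i, rfl⟩ := hea v hv h1
      exact mul_mem (mul_mem (hκL _) (hl 4 (by norm_num))) (inv_mem (hκL _))
    have hBL : B ≤ L := fun v hv => by
      by_cases h1 : v = 1
      · rw [h1]; exact one_mem _
      obtain ⟨i, rfl⟩ := haa v hv h1
      exact mul_mem (mul_mem (hκL _) (hl 5 (by norm_num))) (inv_mem (hκL _))
    have hNL : normalizer (A : Set G) ≤ L := fun n hn => by
      obtain ⟨σ, hσ⟩ := sA.gen n hn
      have := mul_mem (hAL hσ) (hκL σ)
      rwa [inv_mul_cancel_right] at this
    have hbig : 16 * 5760 ≤ Nat.card ↥L := by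
      rw [← sB.card, ← sA.card_N, ← Nat.card_prod]
      refine Nat.card_le_card_of_injective
        (fun p : ↥B × ↥(normalizer (A : Set G)) => (⟨p.1.1 * p.2.1, mul_mem (hBL p.1.2) (hNL p.2.2)⟩ : ↥L)) ?_
      rintro ⟨⟨b, hb⟩, ⟨n, hn⟩⟩ ⟨⟨b', hb'⟩, ⟨n', hn'⟩⟩ h
      have h' : b * n = b' * n' := congrArg Subtype.val h
      have h1 : b'⁻¹ * b = n' * n⁻¹ := by rw [eq_mul_inv_iff_mul_eq, mul_assoc, h', inv_mul_cancel_left]
      have h2 := (Subgroup.eq_bot_iff_forall _).1 hBA (b'⁻¹ * b) ⟨B.mul_mem (B.inv_mem hb') hb,
        h1 ▸ (normalizer (A : Set G)).mul_mem hn' ((normalizer (A : Set G)).inv_mem hn)⟩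
      have hb2 : b = b' := (inv_mul_eq_one.1 h2).symm
      subst hb2
      obtain rfl := mul_left_cancel h'
      rfl
    have h77 : L.index ∣ 77 := by
      have h1 := Subgroup.card_mul_index L
      obtain ⟨k, hk⟩ : 5760 ∣ Nat.card ↥L := sA.card_N ▸ Subgroup.card_dvd_of_le hNL
      rw [H.card, hk] at h1
      exact ⟨k, Nat.eq_of_mul_eq_mul_left (by norm_num : 0 < 5760) (by rw [mul_comm L.index k, ← mul_assoc, h1])⟩
    have h1 := Subgroup.card_mul_index L
    rw [H.card] at h1
    have hle : L.index ≤ 4 := by
      have := Nat.mul_le_mul_right L.index hbig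
      omega
    have hone : L.index = 1 := by
      have : ∀ d ∈ Nat.divisors 77, d ≤ 4 → d = 1 := by decide +kernel
      exact this _ (Nat.mem_divisors.2 ⟨h77, by norm_num⟩) hle
    exact Subgroup.index_eq_one.1 hone

omit H

theorem im_map {X Y : Type*} [Group X] [Group Y] (f : X →* Y) (κ : A6 →* X) (e a : X) (l : ℕ) :
    f (im κ e a l) = im (f.comp κ) (f e) (f a) l := by
  rcases l with _ | _ | _ | _ | _ | _ | l <;> rfl

theorem wval_map {X Y : Type*} [Group X] [Group Y] (f : X →* Y) (g : ℕ → X) (w : List ℕ) :
    f (wval g w) = wval (fun l => f (g l)) w := by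
  simp [wval, map_list_prod, List.map_map, Function.comp_def]

/-- two groups with the same counts are isomorphic -/
theorem iso_of_fields {X : Type v} [Group X] [Finite X] (HX : Fields X) (HG : Fields G) : Nonempty (G ≃* X) := by
  classical
  obtain ⟨κ₁, e₁, a₁, r₁, g₁⟩ := exists_gens HG
  obtain ⟨κ₂, e₂, a₂, r₂, g₂⟩ := exists_gens HX
  set κ := κ₁.prod κ₂
  set f := im κ ((e₁, e₂) : G × X) (a₁, a₂) with hf
  have hfst : ∀ l, (f l).1 = im κ₁ e₁ a₁ l := fun l => by
    show (MonoidHom.fst G X) (f l) = _
    rw [hf, im_map]; rfl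
  have hsnd : ∀ l, (f l).2 = im κ₂ e₂ a₂ l := fun l => by
    show (MonoidHom.snd G X) (f l) = _
    rw [hf, im_map]; rfl
  have hR : ∀ r ∈ Top.rels, wval f r = 1 := fun r hr => by
    refine Prod.ext ?_ ?_
    · show (MonoidHom.fst G X) (wval f r) = 1
      rw [wval_map]
      simp only [MonoidHom.coe_fst, hfst]
      exact r₁ r hr
    · show (MonoidHom.snd G X) (wval f r) = 1
      rw [wval_map]
      simp only [MonoidHom.coe_snd, hsnd]
      exact r₂ r hr
  have hinv : ∀ l, l < 6 → f l * f l = 1 := fun l hl => by
    have h := hR [l, l] (by interval_cases l <;> decide)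
    simpa [wval] using h
  -- first certificate
  set K₀ := κ.range
  have hK₀ : Nat.card ↥K₀ ≤ 360 :=
    (Nat.card_le_card_of_surjective κ.rangeRestrict κ.rangeRestrict_surjective).trans_eq card_A6
  have hmid := CosetCert.card_le (C := Mid.cert) (im := f) (K := K₀) (L := closure (f '' Set.Iio 5)) Mid.valid
    (fun l hl => hinv l (by have : Mid.cert.ng = 5 := rfl; omega))
    (fun r hr => hR r (by revert r; decide))
    (fun r hr l hl => hinv l (by revert l; revert r; decide))
    (fun s hs => by
      have : s < 4 := by revert s; decide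
      interval_cases s <;> exact ⟨_, rfl⟩)
    (le_of_eq (by rfl))
  rw [Mid.fins_length] at hmid
  haveI := hmid.1
  have hL₁ : Nat.card ↥(closure (f '' Set.Iio 5)) ≤ 5760 :=
    hmid.2.trans (Nat.mul_le_mul_left 16 hK₀)
  -- second certificate
  have htop := CosetCert.card_le (C := Top.cert) (im := f) (K := closure (f '' Set.Iio 5))
    (L := closure (f '' Set.Iio 6)) Top.valid
    (fun l hl => hinv l (by have : Top.cert.ng = 6 := rfl; omega))
    hR
    (fun r hr l hl => hinv l (by revert l; revert r; decide))
    (fun s hs => subset_closure ⟨s, by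
      show s < 5
      revert s; decide, rfl⟩)
    (le_of_eq (by rfl))
  rw [Top.fins_length] at htop
  set L := closure (f '' Set.Iio 6) with hL
  haveI := htop.1
  have hcard : Nat.card ↥L ≤ 443520 := htop.2.trans (Nat.mul_le_mul_left 77 hL₁)
  let p : ↥L →* G := (MonoidHom.fst G X).comp L.subtype
  let q : ↥L →* X := (MonoidHom.snd G X).comp L.subtype
  have hp : Function.Surjective p := by
    rw [← MonoidHom.range_eq_top, eq_top_iff, ← g₁, closure_le]
    rintro _ ⟨l, hl, rfl⟩
    exact ⟨⟨f l, subset_closure ⟨l, hl, rfl⟩⟩, hfst l⟩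
  have hq : Function.Surjective q := by
    rw [← MonoidHom.range_eq_top, eq_top_iff, ← g₂, closure_le]
    rintro _ ⟨l, hl, rfl⟩
    exact ⟨⟨f l, subset_closure ⟨l, hl, rfl⟩⟩, hsnd l⟩
  have h1 := Nat.card_le_card_of_surjective p hp
  rw [HG.card] at h1
  have hp' : Function.Bijective p :=
    (Nat.bijective_iff_surjective_and_card p).2 ⟨hp, by rw [HG.card]; omega⟩
  have hq' : Function.Bijective q :=
    (Nat.bijective_iff_surjective_and_card q).2 ⟨hq, by rw [HX.card]; omega⟩
  exact ⟨(MulEquiv.ofBijective p hp').symm.trans (MulEquiv.ofBijective q hq')⟩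

/-- the counts give the fields -/
theorem Hyp.fields {X : Type u} [Group X] [Finite X] (H : Hyp X) : Fields X where
  card := H.card
  two := cnt_two H
  three := cnt_three H
  six := (spectrum H).1
  orders g := by
    have h := (spectrum H).2 g
    simp only [fieldOrders, List.mem_cons, List.not_mem_nil, or_false] at h ⊢
    tauto

theorem m22_fields : Fields ↥Cfsg.Spor.M22 := Hyp.fields ⟨card_M22, fun n => m22_count_mem n⟩

/-- The Mathieu group of degree twenty-two is determined by the fields. -/
theorem iso_M22_of_fields {G : Type u} [Group G] [Finite G] (H : Fields G) : Nonempty (G ≃* ↥Cfsg.Spor.M22) :=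
  iso_of_fields m22_fields H

/-- The Mathieu group of degree twenty-two is determined by its order and counts. -/
theorem iso_M22 {G : Type u} [Group G] [Finite G] (H : Hyp G) : Nonempty (G ≃* ↥Cfsg.Spor.M22) :=
  iso_M22_of_fields H.fields

end Cfsg.Lib.M22Nse
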