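import Cfsg.Agent.M22Nse.CensusThree
import Cfsg.Agent.M22Nse.CensusLemma
import Cfsg.Agent.M22Nse.Main
import Cfsg.Agent.Transfer.Basic

/-!
The census gives the fields: centralisers of elements of order three have order thirty-six.
-/

set_option autoImplicit false
set_option linter.unusedSectionVars false
set_option linter.style.haveILetI false
set_option maxRecDepth 100000

namespace Cfsg.Lib.M22Nse

open Subgroup Cfsg.Lib.SameOrder Cfsg.Lib.Small Cfsg.Lib.MathieuEleven

universe u

variable {G : Type u} [Group G] [Finite G]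

local instance fact_two_cf : Fact (Nat.Prime 2) := ⟨Nat.prime_two⟩
local instance fact_three_cf : Fact (Nat.Prime 3) := ⟨Nat.prime_three⟩

/-- the number of commuting elements of a given order is a class function -/
theorem card_comm_conj {a b : G} (h : IsConj a b) (n : ℕ) :
    Nat.card {y : G // orderOf y = n ∧ y * a = a * y} = Nat.card {y : G // orderOf y = n ∧ y * b = b * y} := by
  obtain ⟨g, rfl⟩ := isConj_iff.1 h
  refine Nat.card_congr ((MulAut.conj g).toEquiv.subtypeEquiv fun y => ?_)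
  show _ ↔ orderOf (MulAut.conj g y) = n ∧ MulAut.conj g y * MulAut.conj g a = MulAut.conj g a * MulAut.conj g y
  rw [MulEquiv.orderOf_eq, ← map_mul, ← map_mul, (MulAut.conj g).injective.eq_iff]

variable (H : Census G)

include H

theorem Census.conj_three {x y : G} (hx : orderOf x = 3) (hy : orderOf y = 3) : IsConj x y := by
  obtain ⟨S, hS⟩ := exists_sylow_three hx
  obtain ⟨R, hR⟩ := exists_sylow_three hy
  obtain ⟨c, hc⟩ := MulAction.exists_smul_eq G R S
  have hm : c * y * c⁻¹ ∈ (S : Subgroup G) := by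
    rw [← hc, Sylow.coe_subgroup_smul, Subgroup.mem_pointwise_smul_iff_inv_smul_mem]
    simp only [MulAut.smul_def, ← map_inv, MulAut.conj_apply]
    convert hR using 1
    group
  have hx1 : x ≠ 1 := fun e => by rw [e, orderOf_one] at hx; norm_num at hx
  have hy1 : c * y * c⁻¹ ≠ 1 := fun e => by
    have := (conjOrd c y).trans hy; rw [e, orderOf_one] at this; norm_num at this
  exact (((H.three_structure S).2 x hS hx1).2.2 _ hm hy1).trans (isConj_iff.2 ⟨c, rfl⟩).symm

/-- involutions commuting with an element of order three are conjugate by elements preserving it up to inversion -/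
theorem Census.invol_transfer {x t t' : G} (hx : orderOf x = 3) (ht : orderOf t = 2) (ht' : orderOf t' = 2)
    (hc : x * t = t * x) (hc' : x * t' = t' * x) :
    ∃ g : G, g * t * g⁻¹ = t' ∧ (g * x * g⁻¹ = x ∨ g * x * g⁻¹ = x⁻¹) := by
  obtain ⟨g, hg⟩ := isConj_iff.1 (H.conj t t' ht ht')
  have hgx : g * x * g⁻¹ ∈ centralizer ({t'} : Set G) := mem_centralizer_singleton_iff.2 (by
    rw [← hg, show g * x * g⁻¹ * (g * t * g⁻¹) = g * (x * t) * g⁻¹ by group, hc]; group)
  obtain ⟨h, hh, he⟩ := conj_or_inv_of_three (K := centralizer ({t'} : Set G)) (by rw [H.invol t' ht']; norm_num)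
    hgx (mem_centralizer_singleton_iff.2 hc') ((conjOrd g x).trans hx) hx
  refine ⟨h * g, ?_, ?_⟩
  · rw [show h * g * t * (h * g)⁻¹ = h * (g * t * g⁻¹) * h⁻¹ by group, hg,
      mem_centralizer_singleton_iff.1 hh, mul_inv_cancel_right]
  · rwa [show h * g * x * (h * g)⁻¹ = h * (g * x * g⁻¹) * h⁻¹ by group]

/-- the centraliser of an element of order three -/
theorem Census.cent_three {x : G} (hx : orderOf x = 3) :
    Nat.card ↥(centralizer ({x} : Set G)) = 36 ∧
      Nat.card {t : G // orderOf t = 2 ∧ t * x = x * t} = 3 ∧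
      ∀ u : G, u * x = x * u → ¬ 3 ∣ orderOf u → u * u = 1 := by
  classical
  have hx1 : x ≠ 1 := fun e => by rw [e, orderOf_one] at hx; norm_num at hx
  obtain ⟨S, hxS⟩ := exists_sylow_three hx
  obtain ⟨hmark, hNC, -⟩ := (H.three_structure S).2 x hxS hx1
  set C := centralizer ({x} : Set G) with hCdef
  have hle : (S : Subgroup G) ≤ C := H.sylow_le_cent S hxS
  set P : Sylow 3 ↥C := S.subtype hle with hP
  have hPc : (P : Subgroup ↥C) = (S : Subgroup G).subgroupOf C := Sylow.coe_subtype ..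
  have hburn : normalizer ((P : Subgroup ↥C) : Set ↥C) ≤ centralizer ((P : Subgroup ↥C) : Set ↥C) := by
    intro k hk
    rw [hPc] at hk ⊢
    have hkN : (k : G) ∈ normalizer ((S : Subgroup G) : Set G) := mem_normalizer_iff.2 fun a => by
      constructor
      · intro ha
        have := (mem_normalizer_iff.1 hk ⟨a, hle ha⟩).1 (Subgroup.mem_subgroupOf.2 ha)
        simpa [Subgroup.mem_subgroupOf] using this
      · intro ha
        have haC : a ∈ C := by
          have := mul_mem (mul_mem (inv_mem k.2) (hle ha)) k.2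
          simpa [mul_assoc] using this
        exact Subgroup.mem_subgroupOf.1 ((mem_normalizer_iff.1 hk ⟨a, haC⟩).2
          (by simpa [Subgroup.mem_subgroupOf] using ha))
    have hkS : (k : G) ∈ (S : Subgroup G) := hNC.le ⟨hkN, k.2⟩
    exact mem_centralizer_iff.2 fun a ha =>
      Subtype.ext (H.sylow_three_comm S (Subgroup.mem_subgroupOf.1 ha) hkS)
  have hcomp := MonoidHom.ker_transferSylow_isComplement' P hburn
  set N := (MonoidHom.transferSylow P hburn).ker with hN
  obtain ⟨hcop, k, hk⟩ := Cfsg.Lib.Transfer.complement_props hcomp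
  have hmemN : ∀ u : ↥C, u ∈ N ↔ (orderOf (u : G)).Coprime 3 := fun u => by
    rw [Cfsg.Lib.Transfer.mem_iff_coprime_orderOf hcop hk u, ← Subgroup.orderOf_coe]
  have hPcard : Nat.card ↥(P : Subgroup ↥C) = 9 := by
    rw [hPc, Nat.card_congr (Subgroup.subgroupOfEquivOfLe hle).toEquiv, H.card_sylow_three S]
  have hC : Nat.card ↥C = Nat.card ↥N * 9 := by rw [← hPcard, hcomp.card_mul_card]
  have hd : Nat.card ↥N ∣ 2 ^ 7 := by
    have h := H.cent_small (v := x) (Or.inr hx)
    rw [← hCdef, hC] at h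
    exact (Nat.dvd_of_mul_dvd_mul_right (by norm_num) (h.trans (by norm_num : 1152 ∣ 2 ^ 7 * 9)))
  obtain ⟨a, ha7, ha⟩ := (Nat.dvd_prime_pow Nat.prime_two).1 hd
  obtain ⟨t₀, ht₀, hxt₀⟩ := hmark.2
  have hmemI : ∀ t : G, orderOf t = 2 → ∀ h : x * t = t * x,
      (⟨t, mem_centralizer_singleton_iff.2 h.symm⟩ : ↥C) ∈ N := fun t ht _ => (hmemN _).2 (by
    show (orderOf t).Coprime 3
    rw [ht]; norm_num)
  have htwo : 2 ∣ Nat.card ↥N := by
    have := Subgroup.orderOf_dvd_natCard _ (hmemI t₀ ht₀ hxt₀)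
    rwa [Subgroup.orderOf_mk, ht₀] at this
  have hpT : IsPGroup 2 ↥N := IsPGroup.of_card ha
  haveI : Nontrivial ↥N := Finite.one_lt_card_iff_nontrivial.1 (Nat.le_of_dvd Nat.card_pos htwo)
  -- an involution of the centre
  obtain ⟨z, hz⟩ : ∃ z : ↥(center ↥N), orderOf z = 2 := by
    haveI := hpT.center_nontrivial
    obtain ⟨n, hn⟩ := (hpT.to_subgroup (center ↥N)).exists_card_eq
    refine exists_prime_orderOf_dvd_card' 2 ?_
    rw [hn]
    refine dvd_pow_self 2 fun e => ?_
    rw [e, pow_zero] at hn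
    exact absurd hn (Finite.one_lt_card_iff_nontrivial.2 inferInstance).ne'
  have hzo : orderOf (((z : ↥N) : ↥C) : G) = 2 := by rw [Subgroup.orderOf_coe, Subgroup.orderOf_coe, Subgroup.orderOf_coe, hz]
  have hzx : x * (((z : ↥N) : ↥C) : G) = (((z : ↥N) : ↥C) : G) * x :=
    (mem_centralizer_singleton_iff.1 ((z : ↥N) : ↥C).2).symm
  -- every involution of the centraliser is central in the complement
  have hZ : ∀ u : ↥N, u * u = 1 → u ∈ center ↥N := by
    intro u hu
    by_cases hu1 : u = 1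
    · rw [hu1]; exact one_mem _
    have huo : orderOf ((u : ↥C) : G) = 2 := by
      rw [Subgroup.orderOf_coe, Subgroup.orderOf_coe]
      exact orderOf_eq_prime (by rw [pow_two, hu]) hu1
    obtain ⟨g, hg, hgx⟩ := H.invol_transfer hx hzo huo hzx (mem_centralizer_singleton_iff.1 (u : ↥C).2).symm
    rw [Subgroup.mem_center_iff]
    intro w
    have hwC : g⁻¹ * ((w : ↥C) : G) * g ∈ C := by
      refine mem_centralizer_singleton_iff.2 ?_
      have hw : Commute ((w : ↥C) : G) x := mem_centralizer_singleton_iff.1 (w : ↥C).2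
      have hw' : Commute ((w : ↥C) : G) (g * x * g⁻¹) := by
        rcases hgx with e | e <;> rw [e]
        exacts [hw, hw.inv_right]
      calc g⁻¹ * ((w : ↥C) : G) * g * x = g⁻¹ * (((w : ↥C) : G) * (g * x * g⁻¹)) * g := by group
        _ = g⁻¹ * ((g * x * g⁻¹) * ((w : ↥C) : G)) * g := by rw [hw'.eq]
        _ = x * (g⁻¹ * ((w : ↥C) : G) * g) := by group
    have hwN : (⟨_, hwC⟩ : ↥C) ∈ N := (hmemN _).2 (by
      show (orderOf (g⁻¹ * ((w : ↥C) : G) * g)).Coprime 3
      have e := conjOrd g⁻¹ ((w : ↥C) : G)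
      rw [inv_inv] at e
      rw [e]
      exact (hmemN _).1 w.2)
    have hc := congrArg (fun v : ↥N => ((v : ↥C) : G)) (Subgroup.mem_center_iff.1 z.2 ⟨_, hwN⟩)
    simp only [Subgroup.coe_mul] at hc
    apply Subtype.ext; apply Subtype.ext
    simp only [Subgroup.coe_mul]
    rw [← hg]
    calc ((w : ↥C) : G) * (g * (((z : ↥N) : ↥C) : G) * g⁻¹)
        = g * (g⁻¹ * ((w : ↥C) : G) * g * (((z : ↥N) : ↥C) : G)) * g⁻¹ := by group
      _ = g * ((((z : ↥N) : ↥C) : G) * (g⁻¹ * ((w : ↥C) : G) * g)) * g⁻¹ := by rw [hc]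
      _ = g * (((z : ↥N) : ↥C) : G) * g⁻¹ * ((w : ↥C) : G) := by group
  -- the involutions
  let W : Subgroup ↥N :=
    { carrier := {u : ↥N | u * u = 1}
      one_mem' := one_mul 1
      mul_mem' := fun {u v} hu hv => by
        show u * v * (u * v) = 1
        have := Subgroup.mem_center_iff.1 (hZ v hv) u
        rw [mul_assoc, ← mul_assoc v, ← this, mul_assoc u v v, hv, mul_one, hu]
      inv_mem' := fun {u} hu => by
        show u⁻¹ * u⁻¹ = 1
        rw [← mul_inv_rev, (hu : u * u = 1), inv_one] }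
  obtain ⟨w, hwa, hw⟩ := (Nat.dvd_prime_pow Nat.prime_two).1 (ha ▸ Subgroup.card_subgroup_dvd_card W)
  have hI : Nat.card {t : G // orderOf t = 2 ∧ t * x = x * t} = 2 ^ w - 1 := by
    have e1 : Nat.card {t : G // orderOf t = 2 ∧ t * x = x * t} = Nat.card {u : ↥N // u * u = 1 ∧ u ≠ 1} := by
      refine Nat.card_congr
        { toFun := fun t => ⟨⟨⟨t.1, mem_centralizer_singleton_iff.2 t.2.2⟩, hmemI t.1 t.2.1 t.2.2.symm⟩,
            Subtype.ext (Subtype.ext (mul_self_one t.2.1)), fun e => by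
              have := congrArg (fun v : ↥N => ((v : ↥C) : G)) e
              have h2 := t.2.1
              simp only [OneMemClass.coe_one] at this
              rw [this, orderOf_one] at h2
              norm_num at h2⟩
          invFun := fun u => ⟨((u.1 : ↥C) : G), by
            rw [Subgroup.orderOf_coe, Subgroup.orderOf_coe]
            exact orderOf_eq_prime (by rw [pow_two, u.2.1]) u.2.2, mem_centralizer_singleton_iff.1 (u.1 : ↥C).2⟩
          left_inv := fun t => rfl
          right_inv := fun u => rfl }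
    rw [e1, show {u : ↥N // u * u = 1 ∧ u ≠ 1} = ↥((W : Set ↥N) \ {1}) from rfl, Nat.card_coe_set_eq,
      Set.ncard_sdiff (Set.singleton_subset_iff.2 (one_mem W)) (Set.toFinite _), Set.ncard_singleton,
      ← Nat.card_coe_set_eq]
    show Nat.card ↥W - 1 = _
    rw [hw]
  -- double count
  have hcnt : cnt G 3 * (2 ^ a * 9) = 443520 := by
    have h := M12Nse.card_isConj_mul x
    rw [H.card, ← hCdef, hC, ha] at h
    rw [show cnt G 3 = Nat.card {y : G // IsConj x y} from Nat.card_congr (Equiv.subtypeEquivRight fun y =>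
      ⟨fun hy => H.conj_three hx hy, fun hy => (M12Nse.conj_orderOf hy).trans hx⟩)]
    exact h
  obtain ⟨n, hn, hn128, hn3⟩ : ∃ n, Nat.card {y : G // orderOf y = 3 ∧ y * t₀ = t₀ * y} = n * 2 ∧ n ∣ 128 ∧ n % 3 = 1 := by
    set D := centralizer ({t₀} : Set G)
    have hS3 : ∀ R : Sylow 3 ↥D, Nat.card ↥(R : Subgroup ↥D) = 3 := fun R => by
      simpa using card_sylow_of_factor R (a := 1) (m := 128) (by rw [H.invol t₀ ht₀]; norm_num) (by norm_num)
    refine ⟨Nat.card (Sylow 3 ↥D), ?_, ?_, ?_⟩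
    · rw [show Nat.card {y : G // orderOf y = 3 ∧ y * t₀ = t₀ * y} = cnt ↥D 3 from Nat.card_congr
        { toFun := fun y => ⟨⟨y.1, mem_centralizer_singleton_iff.2 y.2.2⟩, by rw [Subgroup.orderOf_mk]; exact y.2.1⟩
          invFun := fun y => ⟨y.1.1, by rw [Subgroup.orderOf_coe]; exact y.2, mem_centralizer_singleton_iff.1 y.1.2⟩
          left_inv := fun y => rfl
          right_inv := fun y => rfl }, M12Nse.cnt_prime hS3, mul_comm]
    · obtain ⟨R⟩ : Nonempty (Sylow 3 ↥D) := inferInstance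
      have h := R.card_dvd_index
      have hi := (R : Subgroup ↥D).index_mul_card
      rw [hS3 R, H.invol t₀ ht₀] at hi
      rwa [show (R : Subgroup ↥D).index = 128 by omega] at h
    · have := card_sylow_modEq_one 3 ↥D; rw [Nat.ModEq] at this; simpa using this
  have hsum : cnt G 3 * (2 ^ w - 1) = 1155 * (n * 2) := by
    have := Fintype.ofFinite G
    have h1 := Nat.card_congr (sixEquiv (G := G))
    have h2 := Nat.card_congr (sixEquiv' (G := G))
    rw [Nat.card_sigma, Finset.sum_congr rfl (g := fun _ => 2 ^ w - 1) fun y _ => ?_, Finset.sum_const,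
      Finset.card_univ, ← Nat.card_eq_fintype_card, smul_eq_mul] at h1
    · rw [Nat.card_sigma, Finset.sum_congr rfl (g := fun _ => n * 2) fun t _ => ?_, Finset.sum_const,
        Finset.card_univ, ← Nat.card_eq_fintype_card, smul_eq_mul] at h2
      · rw [← H.cnt_two]
        exact h1.symm.trans h2
      · exact (card_comm_conj (H.conj t.1 t₀ t.2 ht₀) 3).trans hn
    · exact (card_comm_conj (H.conj_three y.2 hx) 2).trans hI
  obtain ⟨hw2, ha6⟩ : w = 2 ∧ a ≤ 6 := by
    have hnd : n ∈ Nat.divisors 128 := Nat.mem_divisors.2 ⟨hn128, by norm_num⟩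
    have key : ∀ a < 8, ∀ w < 8, ∀ n ∈ Nat.divisors 128, n % 3 = 1 →
        64 * (2 ^ w - 1) = 3 * 2 ^ a * n → w = 2 ∧ a ≤ 6 := by decide +kernel
    refine key a (by omega) w (by omega) n hnd hn3 ?_
    have e : cnt G 3 * 2 ^ a = 49280 := by
      rw [← mul_assoc] at hcnt; omega
    have e2 : cnt G 3 * (2 ^ w - 1) * 2 ^ a = 1155 * (n * 2) * 2 ^ a := by rw [hsum]
    have e3 : 49280 * (2 ^ w - 1) = 2310 * (2 ^ a * n) := by
      rw [← e]
      linarith [e2, (by ring : cnt G 3 * (2 ^ w - 1) * 2 ^ a = cnt G 3 * 2 ^ a * (2 ^ w - 1)),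
        (by ring : 1155 * (n * 2) * 2 ^ a = 2310 * (2 ^ a * n))]
    rw [show 3 * 2 ^ a * n = 3 * (2 ^ a * n) by ring]
    omega
  -- the automorphism of order three
  obtain ⟨y, hyS, hyx⟩ := SetLike.exists_of_lt (lt_of_le_of_ne (zpowers_le.2 hxS) (fun e => by
    have := congrArg (fun K : Subgroup G => Nat.card ↥K) e
    simp only [Nat.card_zpowers, hx, H.card_sylow_three S] at this
    omega) : zpowers x < (S : Subgroup G))
  have hy1 : y ≠ 1 := fun e => hyx (e ▸ one_mem _)
  set σ : MulAut ↥N := MulAut.conjNormal (⟨y, hle hyS⟩ : ↥C) with hσ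
  have hσap : ∀ u : ↥N, ((σ u : ↥C) : G) = y * ((u : ↥C) : G) * y⁻¹ := fun u => by
    rw [hσ, MulAut.conjNormal_apply]; rfl
  have h3 : σ ^ 3 = 1 := by
    rw [hσ, ← map_pow]
    convert map_one (MulAut.conjNormal (H := N)) using 2
    exact Subtype.ext (cube_one (H.sylow_three_elem S hyS hy1))
  have hfix : ∀ u, σ u = u → u = 1 := by
    intro u hu
    have e : y * ((u : ↥C) : G) * y⁻¹ = ((u : ↥C) : G) := by rw [← hσap, hu]
    have hS := H.mem_of_two S hxS hx1 hyS hyx (mem_centralizer_singleton_iff.1 (u : ↥C).2).symm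
      (mul_inv_eq_iff_eq_mul.1 e)
    by_contra hu1
    have h := (hmemN _).1 u.2
    rw [H.sylow_three_elem S hS (fun e' => hu1 (Subtype.ext (Subtype.ext e')))] at h
    norm_num at h
  -- square roots
  have hr : ∀ t : ↥N, t * t = 1 → t ≠ 1 → 3 ∣ {u : ↥N | u * u = t}.ncard := by
    intro t ht ht1
    have hto : orderOf ((t : ↥C) : G) = 2 := by
      rw [Subgroup.orderOf_coe, Subgroup.orderOf_coe]
      exact orderOf_eq_prime (by rw [pow_two, ht]) ht1
    set tt := ((t : ↥C) : G) with htt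
    have hxt : x * tt = tt * x := (mem_centralizer_singleton_iff.1 (t : ↥C).2).symm
    have hR : 3 ∣ {u : G | u * u = tt}.ncard := by rw [← Nat.card_coe_set_eq]; exact H.roots tt hto
    have hfixm := ncard_conj_mod (p := 3) (x := x) (k := 1) (by rw [pow_one]; exact cube_one hx)
      (s := {u : G | u * u = tt}) fun u hu => by
        show x * u * x⁻¹ * (x * u * x⁻¹) = tt
        rw [show x * u * x⁻¹ * (x * u * x⁻¹) = x * (u * u) * x⁻¹ by group, (hu : u * u = tt), hxt,
          mul_inv_cancel_right]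
    have e : {u ∈ {u : G | u * u = tt} | x * u = u * x} = (fun v : ↥N => ((v : ↥C) : G)) '' {v : ↥N | v * v = t} := by
      ext u
      simp only [Set.mem_ofPred_eq, Set.mem_image]
      constructor
      · rintro ⟨hu, hux⟩
        have hu4 : orderOf u ∣ 4 := orderOf_dvd_iff_pow_eq_one.2 (by
          rw [show 4 = 2 + 2 from rfl, pow_add, pow_two, hu]; exact mul_self_one hto)
        refine ⟨⟨⟨u, mem_centralizer_singleton_iff.2 hux.symm⟩, (hmemN _).2 ?_⟩, Subtype.ext (Subtype.ext hu), rfl⟩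
        exact Nat.Coprime.coprime_dvd_left hu4 (by norm_num)
      · rintro ⟨v, hv, rfl⟩
        exact ⟨congrArg (fun v : ↥N => ((v : ↥C) : G)) hv, (mem_centralizer_singleton_iff.1 (v : ↥C).2).symm⟩
    rw [e, Set.ncard_image_of_injective _ (fun v v' h => Subtype.ext (Subtype.ext h))] at hfixm
    omega
  have hW4 : {u : ↥N | u * u = 1}.ncard = 4 := by
    rw [← Nat.card_coe_set_eq]
    show Nat.card ↥W = 4
    rw [hw, hw2]
    norm_num
  have h4 : Nat.card ↥N = 4 := CensusLemma.card_four σ h3 hfix ha ha6 hW4 hZ hr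
  refine ⟨by rw [hC, h4], by rw [hI, hw2]; norm_num, fun u hu hu3 => ?_⟩
  have hWtop : W = ⊤ := Subgroup.eq_top_of_card_eq W (by rw [h4, hw, hw2]; norm_num)
  have hmem : (⟨⟨u, mem_centralizer_singleton_iff.2 hu⟩, (hmemN _).2
      ((Nat.Prime.coprime_iff_not_dvd Nat.prime_three).2 hu3).symm⟩ : ↥N) ∈ W := hWtop ▸ Subgroup.mem_top _
  exact congrArg (fun v : ↥N => ((v : ↥C) : G)) hmem

theorem Census.cnt_three : cnt G 3 = 12320 := by
  obtain ⟨x, hx⟩ := exists_prime_orderOf_dvd_card' (G := G) 3 (by rw [H.card]; norm_num)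
  have h := M12Nse.card_isConj_mul x
  rw [H.card, (H.cent_three hx).1] at h
  rw [show cnt G 3 = Nat.card {y : G // IsConj x y} from Nat.card_congr (Equiv.subtypeEquivRight fun y =>
    ⟨fun hy => H.conj_three hx hy, fun hy => (M12Nse.conj_orderOf hy).trans hx⟩)]
  omega

theorem Census.cnt_six : cnt G 6 = 36960 := by
  have := Fintype.ofFinite G
  rw [cnt, Nat.card_congr sixEquiv, Nat.card_sigma,
    Finset.sum_congr rfl (g := fun _ => 3) fun y _ => (H.cent_three y.2).2.1, Finset.sum_const, Finset.card_univ,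
    ← Nat.card_eq_fintype_card, show Nat.card {x : G // orderOf x = 3} = 12320 from H.cnt_three]
  rfl

theorem Census.orders (g : G) : orderOf g ∈ fieldOrders := by
  by_cases hb : 5 ∣ orderOf g ∨ 7 ∣ orderOf g ∨ 11 ∣ orderOf g
  · rcases hb with h | h | h
    · rw [H.order_big (Or.inl rfl) h]; decide
    · rw [H.order_big (Or.inr (Or.inl rfl)) h]; decide
    · rw [H.order_big (Or.inr (Or.inr rfl)) h]; decide
  push Not at hb
  have hd : orderOf g ∣ 1152 := not_big_dvd_eq (H.card ▸ orderOf_dvd_natCard g) hb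
  have h9 : ¬ 9 ∣ orderOf g := fun h => H.no_nine _ (orderOf_pow_orderOf_div (orderOf_pos g).ne' h)
  by_cases h3 : 3 ∣ orderOf g
  · set x := g ^ (orderOf g / 3) with hxd
    have hx : orderOf x = 3 := orderOf_pow_orderOf_div (orderOf_pos g).ne' h3
    have hu : (g ^ 3) * x = x * g ^ 3 := (Commute.pow_pow_self g 3 (orderOf g / 3)).eq
    have ho : orderOf (g ^ 3) = orderOf g / 3 := by
      rw [orderOf_pow' _ (by norm_num), Nat.gcd_eq_right h3]
    have h := (H.cent_three hx).2.2 _ hu (by
      rw [ho]; exact fun h => h9 ((show (9 : ℕ) = 3 * 3 by norm_num) ▸ (Nat.dvd_div_iff_mul_dvd h3).1 h))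
    have h2 : orderOf (g ^ 3) ∣ 2 := orderOf_dvd_iff_pow_eq_one.2 (by rw [pow_two]; exact h)
    rw [ho] at h2
    rcases (Nat.dvd_prime Nat.prime_two).1 h2 with e | e
    · rw [show orderOf g = 3 by omega]; decide
    · rw [show orderOf g = 6 by omega]; decide
  · have h128 : orderOf g ∣ 2 ^ 7 :=
      (((Nat.Prime.coprime_iff_not_dvd Nat.prime_three).2 h3).symm.pow_right 2).dvd_of_dvd_mul_right
        (by simpa using hd)
    obtain ⟨k, hk, e⟩ := (Nat.dvd_prime_pow Nat.prime_two).1 h128
    rw [e]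
    interval_cases k <;> decide

/-- the census gives the fields -/
theorem Census.fields : Fields G where
  card := H.card
  two := H.cnt_two
  three := H.cnt_three
  six := H.cnt_six
  orders := H.orders

/-- the Mathieu group of degree twenty-two is determined by the census -/
theorem Census.iso_M22 : Nonempty (G ≃* ↥Cfsg.Spor.M22) := iso_M22_of_fields H.fields

end Cfsg.Lib.M22Nse
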