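import Cfsg.Agent.M22Nse.CensusBase

/-!
Elements of order three under the census: one class, normaliser of a Sylow subgroup of order seventy-two.
-/

set_option autoImplicit false
set_option linter.unusedSectionVars false
set_option linter.style.haveILetI false
set_option maxRecDepth 100000

namespace Cfsg.Lib.M22Nse

open Subgroup Cfsg.Lib.SameOrder Cfsg.Lib.Small Cfsg.Lib.MathieuEleven

universe u

variable {G : Type u} [Group G] [Finite G]

local instance fact_two_ct : Fact (Nat.Prime 2) := ⟨Nat.prime_two⟩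
local instance fact_three_ct : Fact (Nat.Prime 3) := ⟨Nat.prime_three⟩

/-- an element of order three commuting with an involution -/
def Marked (x : G) : Prop := orderOf x = 3 ∧ ∃ t : G, orderOf t = 2 ∧ x * t = t * x

theorem conjOrd (g x : G) : orderOf (g * x * g⁻¹) = orderOf x := by
  rw [← MulAut.conj_apply, MulEquiv.orderOf_eq]

theorem Marked.conj {x : G} (h : Marked x) (g : G) : Marked (g * x * g⁻¹) := by
  obtain ⟨h3, t, ht, hc⟩ := h
  exact ⟨(conjOrd g x).trans h3, g * t * g⁻¹, (conjOrd g t).trans ht, by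
    rw [show g * x * g⁻¹ * (g * t * g⁻¹) = g * (x * t) * g⁻¹ by group, hc]; group⟩

theorem Marked.inv {x : G} (h : Marked x) : Marked x⁻¹ := by
  obtain ⟨h3, t, ht, hc⟩ := h
  exact ⟨(orderOf_inv x).trans h3, t, ht, (show Commute x t from hc).inv_left.eq⟩

/-- two commuting conjugation targets in a subgroup with Sylow subgroups of order three -/
theorem conj_or_inv_of_three {K : Subgroup G} (hK : ¬ 9 ∣ Nat.card ↥K) {a b : G} (ha : a ∈ K) (hb : b ∈ K)
    (hao : orderOf a = 3) (hbo : orderOf b = 3) : ∃ h ∈ K, h * a * h⁻¹ = b ∨ h * a * h⁻¹ = b⁻¹ := by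
  classical
  have mk : ∀ c : ↥K, orderOf c = 3 → ∀ S : Sylow 3 ↥K, c ∈ (S : Subgroup ↥K) → (S : Subgroup ↥K) = zpowers c := by
    intro c hc S hcS
    refine (Subgroup.eq_of_le_of_card_ge (zpowers_le.2 hcS) ?_).symm
    obtain ⟨n, hn⟩ := S.2.exists_card_eq
    have hd : Nat.card ↥(S : Subgroup ↥K) ∣ Nat.card ↥K := Subgroup.card_subgroup_dvd_card _
    rw [hn] at hd ⊢
    rw [Nat.card_zpowers, hc]
    rcases Nat.lt_or_ge n 2 with h | h
    · calc 3 ^ n ≤ 3 ^ 1 := Nat.pow_le_pow_right (by norm_num) (by omega)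
        _ = 3 := pow_one 3
    · exact absurd ((show 9 ∣ 3 ^ n from (show (9 : ℕ) = 3 ^ 2 by norm_num) ▸ pow_dvd_pow 3 h).trans hd) hK
  have ex : ∀ c : ↥K, orderOf c = 3 → ∃ S : Sylow 3 ↥K, c ∈ (S : Subgroup ↥K) := fun c hc => by
    obtain ⟨S, hS⟩ := (IsPGroup.of_card (p := 3) (n := 1) (by rw [Nat.card_zpowers, hc]; norm_num) :
      IsPGroup 3 ↥(zpowers c)).exists_le_sylow
    exact ⟨S, hS (mem_zpowers c)⟩
  set a' : ↥K := ⟨a, ha⟩
  set b' : ↥K := ⟨b, hb⟩
  have hao' : orderOf a' = 3 := by rw [Subgroup.orderOf_mk, hao]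
  have hbo' : orderOf b' = 3 := by rw [Subgroup.orderOf_mk, hbo]
  obtain ⟨A, hA⟩ := ex a' hao'
  obtain ⟨B, hB⟩ := ex b' hbo'
  obtain ⟨h, hh⟩ := MulAction.exists_smul_eq ↥K A B
  have hm : h * a' * h⁻¹ ∈ (B : Subgroup ↥K) := by
    rw [← hh, Sylow.coe_subgroup_smul, Subgroup.mem_pointwise_smul_iff_inv_smul_mem]
    simp only [MulAut.smul_def, ← map_inv, MulAut.conj_apply]
    convert hA using 1
    group
  rw [mk b' hbo' B hB] at hm
  obtain ⟨k, hk⟩ := mem_zpowers_iff.1 hm
  rw [← zpow_mod_orderOf, hbo'] at hk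
  have h0 : k % ((3 : ℕ) : ℤ) = 0 ∨ k % ((3 : ℕ) : ℤ) = 1 ∨ k % ((3 : ℕ) : ℤ) = 2 := by omega
  refine ⟨(h : G), h.2, ?_⟩
  rcases h0 with e | e | e <;> rw [e] at hk <;> have hk' := congrArg (Subtype.val : ↥K → G) hk <;>
    simp only [Subgroup.coe_mul, InvMemClass.coe_inv, zpow_zero, zpow_one, zpow_ofNat, SubmonoidClass.coe_pow,
      OneMemClass.coe_one, a', b'] at hk'
  · exact absurd ((congrArg orderOf hk').trans ((conjOrd _ a).trans hao)) (by rw [pow_zero, orderOf_one]; norm_num)
  · rw [pow_one] at hk'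
    exact Or.inl hk'.symm
  · refine Or.inr (hk'.symm.trans (eq_inv_of_mul_eq_one_left ?_))
    rw [← pow_succ, show 2 + 1 = orderOf b from hbo.symm, pow_orderOf_eq_one]

omit [Finite G] in
theorem mem_sylow_of_normalizer (S : Sylow 3 G) {z : G} (hz : z ∈ normalizer ((S : Subgroup G) : Set G))
    (h : z ^ 9 = 1) : z ∈ (S : Subgroup G) := by
  have hp : IsPGroup 3 ↥(zpowers z) := by
    rintro ⟨w, hw⟩
    obtain ⟨i, rfl⟩ := mem_zpowers_iff.1 hw
    exact ⟨2, Subtype.ext (by
      show (z ^ i) ^ (3 ^ 2) = 1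
      rw [← zpow_natCast, ← zpow_mul, mul_comm, zpow_mul, zpow_natCast, show 3 ^ 2 = 9 by norm_num, h, one_zpow])⟩
  exact ((hp.inf_normalizer_sylow S).le ⟨mem_zpowers z, hz⟩).2

variable (H : Census G)

include H

theorem Census.sylow_three_elem (S : Sylow 3 G) {a : G} (ha : a ∈ (S : Subgroup G)) (ha1 : a ≠ 1) :
    orderOf a = 3 := by
  have hd := Subgroup.orderOf_dvd_natCard _ ha
  rw [H.card_sylow_three S] at hd
  have : orderOf a ∈ Nat.divisors 9 := Nat.mem_divisors.2 ⟨hd, by norm_num⟩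
  rw [show Nat.divisors 9 = {1, 3, 9} by decide] at this
  simp only [Finset.mem_insert, Finset.mem_singleton] at this
  rcases this with e | e | e
  · exact absurd (orderOf_eq_one_iff.1 e) ha1
  · exact e
  · exact absurd e (H.no_nine a)

theorem Census.sylow_three_comm (S : Sylow 3 G) {a b : G} (ha : a ∈ (S : Subgroup G)) (hb : b ∈ (S : Subgroup G)) :
    a * b = b * a := by
  have h := IsPGroup.commutative_of_card_eq_prime_sq (p := 3) (G := ↥(S : Subgroup G))
    (by rw [H.card_sylow_three S]; norm_num) ⟨a, ha⟩ ⟨b, hb⟩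
  exact congrArg Subtype.val h

omit H in
theorem exists_sylow_three {x : G} (hx : orderOf x = 3) : ∃ S : Sylow 3 G, x ∈ (S : Subgroup G) := by
  obtain ⟨S, hS⟩ := (IsPGroup.of_card (p := 3) (n := 1) (by rw [Nat.card_zpowers, hx]; norm_num) :
    IsPGroup 3 ↥(zpowers x)).exists_le_sylow
  exact ⟨S, hS (mem_zpowers x)⟩

theorem Census.sylow_le_cent (S : Sylow 3 G) {x : G} (hx : x ∈ (S : Subgroup G)) :
    (S : Subgroup G) ≤ centralizer ({x} : Set G) :=
  fun _ ha => mem_centralizer_singleton_iff.2 (H.sylow_three_comm S ha hx)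

/-- a Sylow subgroup for three is self-centralising -/
theorem Census.cent_sylow (S : Sylow 3 G) {g : G} (hg : ∀ a ∈ (S : Subgroup G), a * g = g * a) :
    g ∈ (S : Subgroup G) := by
  set C := centralizer ((S : Subgroup G) : Set G)
  have hle : (S : Subgroup G) ≤ C := fun a ha =>
    mem_centralizer_iff.2 fun b hb => H.sylow_three_comm S hb ha
  obtain ⟨x, hxS, hx1⟩ := (Subgroup.nontrivial_iff_exists_ne_one _).1
    (Finite.one_lt_card_iff_nontrivial.1 (by rw [H.card_sylow_three S]; norm_num) : Nontrivial ↥(S : Subgroup G))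
  have hx := H.sylow_three_elem S hxS hx1
  have hd : Nat.card ↥C ∣ 1152 := (Subgroup.card_dvd_of_le (fun c hc =>
    mem_centralizer_singleton_iff.2 (mem_centralizer_iff.1 hc x hxS).symm :
    C ≤ centralizer ({x} : Set G))).trans (H.cent_small (Or.inr hx))
  have hodd : ¬ 2 ∣ Nat.card ↥C := fun h2 => by
    obtain ⟨⟨t, ht⟩, hto⟩ := exists_prime_orderOf_dvd_card' (G := ↥C) 2 h2
    rw [Subgroup.orderOf_mk] at hto
    exact H.sylow_no_invol (K := (S : Subgroup G)) (by rw [H.card_sylow_three S]) hto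
      fun a ha => mem_centralizer_iff.1 ht a ha
  have h9 : 9 ∣ Nat.card ↥C := H.card_sylow_three S ▸ Subgroup.card_dvd_of_le hle
  have key : ∀ d ∈ Nat.divisors 1152, ¬ 2 ∣ d → 9 ∣ d → d = 9 := by decide +kernel
  have hC : (S : Subgroup G) = C := Subgroup.eq_of_le_of_card_ge hle
    (by rw [key _ (Nat.mem_divisors.2 ⟨hd, by norm_num⟩) hodd h9, H.card_sylow_three S])
  rw [hC]
  exact mem_centralizer_iff.2 hg

/-- an element centralising two independent elements of a Sylow subgroup lies in it -/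
theorem Census.mem_of_two (S : Sylow 3 G) {x y : G} (hx : x ∈ (S : Subgroup G)) (hx1 : x ≠ 1)
    (hy : y ∈ (S : Subgroup G)) (hyx : y ∉ zpowers x) {g : G} (hgx : x * g = g * x) (hgy : y * g = g * y) :
    g ∈ (S : Subgroup G) := by
  set K := (S : Subgroup G) ⊓ centralizer ({g} : Set G)
  have hxK : x ∈ K := ⟨hx, mem_centralizer_singleton_iff.2 hgx⟩
  have hK : K = (S : Subgroup G) := by
    refine Subgroup.eq_of_le_of_card_ge inf_le_left ?_
    rw [H.card_sylow_three S]
    have hd : Nat.card ↥K ∈ Nat.divisors 9 :=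
      Nat.mem_divisors.2 ⟨H.card_sylow_three S ▸ Subgroup.card_dvd_of_le inf_le_left, by norm_num⟩
    have h3 : 3 ≤ Nat.card ↥K := by
      rw [← H.sylow_three_elem S hx hx1, ← Nat.card_zpowers]
      exact Subgroup.card_le_of_le (zpowers_le.2 hxK)
    rw [show Nat.divisors 9 = {1, 3, 9} by decide] at hd
    simp only [Finset.mem_insert, Finset.mem_singleton] at hd
    rcases hd with e | e | e
    · omega
    · exfalso
      refine hyx ?_
      rw [Subgroup.eq_of_le_of_card_ge (zpowers_le.2 hxK) (by rw [e, Nat.card_zpowers, H.sylow_three_elem S hx hx1])]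
      exact ⟨hy, mem_centralizer_singleton_iff.2 hgy⟩
    · omega
  exact H.cent_sylow S fun a ha => mem_centralizer_singleton_iff.1 ((hK ▸ ha : a ∈ K)).2

/-- marked elements are conjugate up to inversion -/
theorem Census.marked_conj {a b : G} (ha : Marked a) (hb : Marked b) :
    ∃ g : G, g * a * g⁻¹ = b ∨ g * a * g⁻¹ = b⁻¹ := by
  obtain ⟨ha3, t, ht, hat⟩ := ha
  obtain ⟨hb3, s, hs, hbs⟩ := hb
  obtain ⟨g, hg⟩ := isConj_iff.1 (H.conj t s ht hs)
  have hga : g * a * g⁻¹ ∈ centralizer ({s} : Set G) := mem_centralizer_singleton_iff.2 (by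
    rw [← hg, show g * a * g⁻¹ * (g * t * g⁻¹) = g * (a * t) * g⁻¹ by group, hat]; group)
  obtain ⟨h, -, hh⟩ := conj_or_inv_of_three (K := centralizer ({s} : Set G)) (by rw [H.invol s hs]; norm_num)
    hga (mem_centralizer_singleton_iff.2 hbs) ((conjOrd g a).trans ha3) hb3
  refine ⟨h * g, ?_⟩
  rwa [show h * g * a * (h * g)⁻¹ = h * (g * a * g⁻¹) * h⁻¹ by group]

/-- every Sylow subgroup for three has a marked element -/
theorem Census.exists_marked (S : Sylow 3 G) : ∃ x ∈ (S : Subgroup G), Marked x := by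
  obtain ⟨t, ht⟩ := exists_prime_orderOf_dvd_card' (G := G) 2 (by rw [H.card]; norm_num)
  obtain ⟨⟨x, hx⟩, hxo⟩ := exists_prime_orderOf_dvd_card' (G := ↥(centralizer ({t} : Set G))) 3
    (by rw [H.invol t ht]; norm_num)
  rw [Subgroup.orderOf_mk] at hxo
  have hm : Marked x := ⟨hxo, t, ht, mem_centralizer_singleton_iff.1 hx⟩
  obtain ⟨R, hR⟩ := exists_sylow_three hxo
  obtain ⟨c, hc⟩ := MulAction.exists_smul_eq G R S
  refine ⟨c * x * c⁻¹, ?_, hm.conj c⟩
  rw [← hc, Sylow.coe_subgroup_smul, Subgroup.mem_pointwise_smul_iff_inv_smul_mem]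
  simp only [MulAut.smul_def, ← map_inv, MulAut.conj_apply]
  convert hR using 1
  group

/-- fusion inside a Sylow subgroup -/
theorem Census.fusion (S : Sylow 3 G) {a b : G} (ha : a ∈ (S : Subgroup G)) (hb : b ∈ (S : Subgroup G))
    {g : G} (hg : g * a * g⁻¹ = b) : ∃ n ∈ normalizer ((S : Subgroup G) : Set G), n * a * n⁻¹ = b := by
  have hcen : ∀ c ∈ (S : Subgroup G), c ∈ centralizer ((S : Subgroup G) : Set G) := fun c hc =>
    mem_centralizer_iff.2 fun d hd => H.sylow_three_comm S hd hc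
  obtain ⟨n, hn, he⟩ := S.conj_eq_normalizer_conj_of_mem_centralizer a g⁻¹ (hcen a ha)
    (by rw [inv_inv, hg]; exact hcen b hb)
  rw [inv_inv, hg] at he
  exact ⟨n⁻¹, inv_mem hn, by rw [inv_inv, he]⟩

/-- the number of elements outside a cyclic subgroup reached from one of them is at most two -/
theorem Census.second_le (S : Sylow 3 G) {x y : G} (hx : x ∈ (S : Subgroup G)) (hx1 : x ≠ 1)
    (hy : y ∈ (S : Subgroup G)) (hyx : y ∉ zpowers x) :
    (Set.range fun k : ↥(normalizer ((S : Subgroup G) : Set G) ⊓ centralizer ({x} : Set G) : Subgroup G) =>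
      (k : G) * y * (k : G)⁻¹).ncard ≤ 2 := by
  classical
  have hx3 := H.sylow_three_elem S hx hx1
  set K := normalizer ((S : Subgroup G) : Set G) ⊓ centralizer ({x} : Set G)
  set O := Set.range fun k : ↥K => (k : G) * y * (k : G)⁻¹
  have hfx : ∀ k : ↥K, (k : G) * x * (k : G)⁻¹ = x := fun k => by
    rw [mem_centralizer_singleton_iff.1 k.2.2, mul_inv_cancel_right]
  have hmem : ∀ o ∈ O, o ∈ (S : Subgroup G) ∧ o ∉ zpowers x := by
    rintro o ⟨k, rfl⟩
    refine ⟨(mem_normalizer_iff.1 k.2.1 y).1 hy, fun h => hyx ?_⟩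
    obtain ⟨i, hi⟩ := mem_zpowers_iff.1 h
    refine mem_zpowers_iff.2 ⟨i, ?_⟩
    have e : ((k : G) * x * (k : G)⁻¹) ^ i = (k : G) * y * (k : G)⁻¹ := by rw [hfx k, hi]
    rw [← MulAut.conj_apply, ← MulAut.conj_apply, ← map_zpow] at e
    exact (MulAut.conj (k : G)).injective e
  -- conjugates in the same coset coincide
  have hcoset : ∀ o ∈ O, ∀ d ∈ zpowers x, o * d ∈ O → d = 1 := by
    rintro o ⟨k, rfl⟩ d hd ⟨l, hl⟩
    set c := k⁻¹ * l with hc
    have hdx : Commute (c : G) d := by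
      obtain ⟨i, rfl⟩ := mem_zpowers_iff.1 hd
      exact (show Commute (c : G) x from mem_centralizer_singleton_iff.1 c.2.2).zpow_right i
    have hkd : Commute (k : G) d := by
      obtain ⟨i, rfl⟩ := mem_zpowers_iff.1 hd
      exact (show Commute (k : G) x from mem_centralizer_singleton_iff.1 k.2.2).zpow_right i
    have hcy : (c : G) * y * (c : G)⁻¹ = y * d := by
      simp only [hc, Subgroup.coe_mul, InvMemClass.coe_inv]
      have hl' : (l : G) * y * (l : G)⁻¹ = (k : G) * y * (k : G)⁻¹ * d := hl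
      calc _ = (k : G)⁻¹ * ((l : G) * y * (l : G)⁻¹) * (k : G) := by group
        _ = y * ((k : G)⁻¹ * d * (k : G)) := by rw [hl']; group
        _ = y * d := by rw [hkd.inv_left.eq, inv_mul_cancel_right]
    have hpow : ∀ n : ℕ, (c : G) ^ n * y * ((c : G) ^ n)⁻¹ = y * d ^ n := by
      intro n
      induction n with
      | zero => simp
      | succ n ih =>
        calc (c : G) ^ (n + 1) * y * ((c : G) ^ (n + 1))⁻¹
            = (c : G) * ((c : G) ^ n * y * ((c : G) ^ n)⁻¹) * (c : G)⁻¹ := by rw [pow_succ']; group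
          _ = (c : G) * y * (c : G)⁻¹ * ((c : G) * d ^ n * (c : G)⁻¹) := by rw [ih]; group
          _ = y * d ^ (n + 1) := by rw [hcy, (hdx.pow_right n).eq, mul_inv_cancel_right, pow_succ', ← mul_assoc]
    -- a power of two kills the exponent
    have h1152 : orderOf (c : G) ∣ 128 * 9 :=
      (Subgroup.orderOf_dvd_natCard _ c.2.2).trans (by simpa using H.cent_small (Or.inr hx3))
    have hsmall : ((c : G) ^ 128) ^ 9 = 1 := by rw [← pow_mul]; exact orderOf_dvd_iff_pow_eq_one.1 h1152
    have hcS : (c : G) ^ 128 ∈ (S : Subgroup G) := mem_sylow_of_normalizer S (pow_mem c.2.1 128) hsmall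
    have := hpow 128
    rw [show (c : G) ^ 128 * y * ((c : G) ^ 128)⁻¹ = y by
      rw [H.sylow_three_comm S hcS hy, mul_inv_cancel_right]] at this
    have hd128 : d ^ 128 = 1 := left_eq_mul.1 this
    have hd3 : d ^ 3 = 1 := by
      obtain ⟨i, rfl⟩ := mem_zpowers_iff.1 hd
      rw [← zpow_natCast, ← zpow_mul, mul_comm, zpow_mul, zpow_natCast, ← hx3, pow_orderOf_eq_one, one_zpow]
    simpa using pow_gcd_eq_one.2 ⟨hd128, hd3⟩
  -- three translates fit outside the cyclic subgroup
  let F : O × ↥(zpowers x) → {a : G // a ∈ (S : Subgroup G) ∧ a ∉ zpowers x} := fun p =>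
    ⟨p.1.1 * p.2.1, mul_mem (hmem _ p.1.2).1 ((zpowers_le.2 hx) p.2.2),
      fun h => (hmem _ p.1.2).2 ((Subgroup.mul_mem_cancel_right _ p.2.2).1 h)⟩
  have hF : Function.Injective F := by
    rintro ⟨o, d⟩ ⟨o', d'⟩ h
    have h' : o.1 * d.1 = o'.1 * d'.1 := congrArg Subtype.val h
    have e : o'.1 = o.1 * (d.1 * d'.1⁻¹) := by rw [← mul_assoc, h', mul_inv_cancel_right]
    have h1 := hcoset _ o.2 _ (mul_mem d.2 (inv_mem d'.2)) (e ▸ o'.2)
    rw [h1, mul_one] at e
    exact Prod.ext (Subtype.ext e.symm) (Subtype.ext (mul_inv_eq_one.1 h1))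
  have hle := Nat.card_le_card_of_injective F hF
  have hcard : Nat.card {a : G // a ∈ (S : Subgroup G) ∧ a ∉ zpowers x} = 6 := by
    show Nat.card ↥({a | a ∈ (S : Subgroup G) ∧ a ∉ zpowers x} : Set G) = 6
    rw [Nat.card_coe_set_eq, show ({a | a ∈ (S : Subgroup G) ∧ a ∉ zpowers x} : Set G) =
      ((S : Subgroup G) : Set G) \ (zpowers x : Set G) from rfl,
      Set.ncard_sdiff (fun a ha => (zpowers_le.2 hx) ha) (Set.toFinite _), ← Nat.card_coe_set_eq,
      ← Nat.card_coe_set_eq]
    show Nat.card ↥(S : Subgroup G) - Nat.card ↥(zpowers x) = 6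
    rw [H.card_sylow_three S, Nat.card_zpowers, hx3]
  rw [Nat.card_prod, hcard, Nat.card_zpowers, hx3, Nat.card_coe_set_eq] at hle
  omega

/-- the order of the normaliser -/
theorem Census.card_normalizer_three (S : Sylow 3 G) :
    ∃ m, Nat.card ↥(normalizer ((S : Subgroup G) : Set G)) = 9 * m ∧ m * Nat.card (Sylow 3 G) = 49280 ∧
      m ∈ ({2, 8} : Finset ℕ) := by
  classical
  set N := normalizer ((S : Subgroup G) : Set G) with hN
  have h9 : 9 ∣ Nat.card ↥N := H.card_sylow_three S ▸ Subgroup.card_dvd_of_le le_normalizer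
  obtain ⟨m, hm⟩ := h9
  have hmul := card_normalizer_mul S
  rw [← hN, H.card, hm, mul_assoc] at hmul
  have hmn : m * Nat.card (Sylow 3 G) = 49280 := by omega
  have hn1 : Nat.card (Sylow 3 G) % 3 = 1 := by
    have := card_sylow_modEq_one 3 G; rw [Nat.ModEq] at this; simpa using this
  -- the orbit bounds
  obtain ⟨x, hxS, hx1⟩ := (Subgroup.nontrivial_iff_exists_ne_one _).1
    (Finite.one_lt_card_iff_nontrivial.1 (by rw [H.card_sylow_three S]; norm_num) : Nontrivial ↥(S : Subgroup G))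
  obtain ⟨y, hyS, hyx⟩ := SetLike.exists_of_lt (lt_of_le_of_ne (zpowers_le.2 hxS) (fun e => by
    have := congrArg (fun K : Subgroup G => Nat.card ↥K) e
    simp only [Nat.card_zpowers, H.sylow_three_elem S hxS hx1, H.card_sylow_three S] at this
    omega) : zpowers x < (S : Subgroup G))
  set K := N ⊓ centralizer ({x} : Set G)
  have h1 := ncard_conj_orbit N x
  have h2 := ncard_conj_orbit K y
  have hO1 : (Set.range fun k : ↥N => (k : G) * x * (k : G)⁻¹).ncard ≤ 8 := by
    refine (Set.ncard_le_ncard (t := ((S : Subgroup G) : Set G) \ {1}) ?_ (Set.toFinite _)).trans ?_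
    · rintro a ⟨k, rfl⟩
      refine ⟨(mem_normalizer_iff.1 k.2 x).1 hxS, fun h => hx1 ?_⟩
      simpa using h
    · rw [Set.ncard_sdiff (Set.singleton_subset_iff.2 (one_mem _)) (Set.toFinite _), Set.ncard_singleton,
        ← Nat.card_coe_set_eq]
      show Nat.card ↥(S : Subgroup G) - 1 ≤ 8
      rw [H.card_sylow_three S]
  have hO2 := H.second_le S hxS hx1 hyS hyx
  have hstab : Nat.card ↥(K ⊓ centralizer ({y} : Set G)) ≤ 9 := by
    rw [← H.card_sylow_three S]
    exact Subgroup.card_le_of_le fun g hg => H.mem_of_two S hxS hx1 hyS hyx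
      (mem_centralizer_singleton_iff.1 hg.1.2).symm (mem_centralizer_singleton_iff.1 hg.2).symm
  have hm16 : m ≤ 16 := by
    have hK : Nat.card ↥K ≤ 18 := h2 ▸ (Nat.mul_le_mul hO2 hstab)
    have : 9 * m ≤ 8 * 18 := hm ▸ h1 ▸ (Nat.mul_le_mul hO1 hK)
    omega
  have hno : ∀ p, (p = 5 ∨ p = 7 ∨ p = 11) → ¬ p ∣ m := by
    intro p hp hd
    have hpp : p.Prime := by rcases hp with rfl | rfl | rfl <;> norm_num
    haveI := Fact.mk hpp
    obtain ⟨⟨z, hz⟩, hzo⟩ := exists_prime_orderOf_dvd_card' (G := ↥N) p (hm ▸ dvd_mul_of_dvd_right hd 9)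
    rw [Subgroup.orderOf_mk] at hzo
    have hfix := ncard_conj_mod (p := p) (x := z) (k := 1) (by rw [pow_one, ← hzo, pow_orderOf_eq_one])
      (s := ((S : Subgroup G) : Set G)) fun a ha => (mem_normalizer_iff.1 hz a).1 ha
    rw [← Nat.card_coe_set_eq] at hfix
    change Nat.card ↥(S : Subgroup G) % p = _ at hfix
    rw [H.card_sylow_three S] at hfix
    obtain ⟨a, ⟨haS, hac⟩, ha1⟩ := Set.exists_ne_of_one_lt_ncard (s := {a ∈ ((S : Subgroup G) : Set G) | z * a = a * z})
      (by
        by_contra hlt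
        rcases hp with rfl | rfl | rfl <;> omega) 1
    have := H.prime_cent hp hzo ▸ M12Nse.dvd_centralizer_orderOf hac.symm
    rw [H.sylow_three_elem S haS ha1] at this
    rcases hp with rfl | rfl | rfl <;> norm_num at this
  refine ⟨m, hm, hmn, ?_⟩
  have hd : m ∈ (Nat.divisors 49280).filter (fun m => m ≤ 16 ∧ ¬ 5 ∣ m ∧ ¬ 7 ∣ m ∧ ¬ 11 ∣ m) :=
    Finset.mem_filter.2 ⟨Nat.mem_divisors.2 ⟨hmn ▸ dvd_mul_right _ _, by norm_num⟩,
      hm16, hno 5 (by simp), hno 7 (by simp), hno 11 (by simp)⟩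
  have hm' : m ∈ ({1, 2, 4, 8, 16} : Finset ℕ) := by
    revert hd
    generalize m = k
    intro hd
    have : k ≤ 16 ∧ ¬ 5 ∣ k ∧ ¬ 7 ∣ k ∧ ¬ 11 ∣ k ∧ k ∣ 49280 := by
      have h := Finset.mem_filter.1 hd
      exact ⟨h.2.1, h.2.2.1, h.2.2.2.1, h.2.2.2.2, Nat.dvd_of_mem_divisors h.1⟩
    obtain ⟨hk, h5, h7, h11, hk'⟩ := this
    interval_cases k <;> simp_all
  simp only [Finset.mem_insert, Finset.mem_singleton] at hm' ⊢
  rcases hm' with rfl | rfl | rfl | rfl | rfl <;> omega

/-- a conjugate of an element of a Sylow subgroup by the normaliser -/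
theorem Census.unmarked_stab (S : Sylow 3 G) {u : G} (hu : u ∈ (S : Subgroup G)) (hu1 : u ≠ 1) (hum : ¬ Marked u) :
    centralizer ({u} : Set G) = (S : Subgroup G) := by
  have hu3 := H.sylow_three_elem S hu hu1
  have hle := H.sylow_le_cent S hu
  have hd := H.cent_small (v := u) (Or.inr hu3)
  have hodd : ¬ 2 ∣ Nat.card ↥(centralizer ({u} : Set G)) := fun h2 => by
    obtain ⟨⟨t, ht⟩, hto⟩ := exists_prime_orderOf_dvd_card' (G := ↥(centralizer ({u} : Set G))) 2 h2
    rw [Subgroup.orderOf_mk] at hto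
    exact hum ⟨hu3, t, hto, (mem_centralizer_singleton_iff.1 ht).symm⟩
  have h9 : 9 ∣ Nat.card ↥(centralizer ({u} : Set G)) := H.card_sylow_three S ▸ Subgroup.card_dvd_of_le hle
  have key : ∀ d ∈ Nat.divisors 1152, ¬ 2 ∣ d → 9 ∣ d → d = 9 := by decide +kernel
  exact (Subgroup.eq_of_le_of_card_ge hle
    (by rw [key _ (Nat.mem_divisors.2 ⟨hd, by norm_num⟩) hodd h9, H.card_sylow_three S])).symm

omit H in
/-- the unmarked elements of Sylow subgroups inject into the elements of order three -/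
theorem Census.unmarked_count (H : Census G) (S : Sylow 3 G) :
    Nat.card (Sylow 3 G) * Nat.card {u : G // u ∈ (S : Subgroup G) ∧ u ≠ 1 ∧ ¬ Marked u} ≤ 146300 := by
  let c : Sylow 3 G → G := fun P => (MulAction.exists_smul_eq G S P).choose
  have hc : ∀ P, c P • S = P := fun P => (MulAction.exists_smul_eq G S P).choose_spec
  let f : Sylow 3 G × {u : G // u ∈ (S : Subgroup G) ∧ u ≠ 1 ∧ ¬ Marked u} → {g : G // orderOf g = 3} := fun p =>
    ⟨c p.1 * p.2.1 * (c p.1)⁻¹, (conjOrd _ _).trans (H.sylow_three_elem S p.2.2.1 p.2.2.2.1)⟩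
  have hf : Function.Injective f := by
    rintro ⟨P, a⟩ ⟨Q, b⟩ h
    have hv : c P * a.1 * (c P)⁻¹ = c Q * b.1 * (c Q)⁻¹ := congrArg Subtype.val h
    have key : ∀ (P : Sylow 3 G) (a : {u : G // u ∈ (S : Subgroup G) ∧ u ≠ 1 ∧ ¬ Marked u}),
        centralizer ({c P * a.1 * (c P)⁻¹} : Set G) = (P : Subgroup G) := fun P a => by
      refine H.unmarked_stab P ?_ (fun e => a.2.2.1 ?_) (fun hm => a.2.2.2 ?_)
      · have hmem : c P * a.1 * (c P)⁻¹ ∈ ((c P • S : Sylow 3 G) : Subgroup G) := by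
          rw [Sylow.coe_subgroup_smul, Subgroup.mem_pointwise_smul_iff_inv_smul_mem]
          simp only [MulAut.smul_def, ← map_inv, MulAut.conj_apply]
          convert a.2.1 using 1
          group
        rwa [hc] at hmem
      · simpa using e
      · have := hm.conj (c P)⁻¹
        simpa [mul_assoc] using this
    have hPQ : P = Q := Sylow.ext ((key P a).symm.trans (hv ▸ key Q b))
    subst hPQ
    exact Prod.ext rfl (Subtype.ext (mul_left_cancel (mul_right_cancel hv)))
  have := (Nat.card_le_card_of_injective f hf).trans (H.cnt_le (k := 3) (by decide))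
  rwa [Nat.card_prod] at this

/-- one class of elements of order three, with centraliser in the normaliser the Sylow subgroup -/
theorem Census.three_structure (S : Sylow 3 G) :
    Nat.card ↥(normalizer ((S : Subgroup G) : Set G)) = 72 ∧
      ∀ x ∈ (S : Subgroup G), x ≠ 1 → Marked x ∧
        normalizer ((S : Subgroup G) : Set G) ⊓ centralizer ({x} : Set G) = (S : Subgroup G) ∧
        ∀ y ∈ (S : Subgroup G), y ≠ 1 → IsConj x y := by
  classical
  obtain ⟨m, hm, hmn, hm'⟩ := H.card_normalizer_three S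
  set N := normalizer ((S : Subgroup G) : Set G) with hN
  simp only [Finset.mem_insert, Finset.mem_singleton] at hm'
  obtain ⟨x, hxS, hxm⟩ := H.exists_marked S
  have hx1 : x ≠ 1 := fun e => by have := hxm.1; rw [e, orderOf_one] at this; norm_num at this
  set O : G → Set G := fun a => Set.range fun k : ↥N => (k : G) * a * (k : G)⁻¹ with hO
  have hOS : ∀ a ∈ (S : Subgroup G), a ≠ 1 → O a ⊆ ((S : Subgroup G) : Set G) \ {1} := by
    rintro a ha ha1 b ⟨k, rfl⟩
    refine ⟨(mem_normalizer_iff.1 k.2 a).1 ha, fun h => ha1 ?_⟩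
    simpa using h
  have hP8 : (((S : Subgroup G) : Set G) \ {1}).ncard = 8 := by
    rw [Set.ncard_sdiff (Set.singleton_subset_iff.2 (one_mem _)) (Set.toFinite _), Set.ncard_singleton,
      ← Nat.card_coe_set_eq]
    show Nat.card ↥(S : Subgroup G) - 1 = 8
    rw [H.card_sylow_three S]
  have hfour : ∀ b ∈ (S : Subgroup G), Marked b → b ∈ O x ∨ b⁻¹ ∈ O x := by
    intro b hb hbm
    obtain ⟨g, hg | hg⟩ := H.marked_conj hxm hbm
    · obtain ⟨n, hn, e⟩ := H.fusion S hxS hb hg
      exact Or.inl ⟨⟨n, hn⟩, e⟩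
    · obtain ⟨n, hn, e⟩ := H.fusion S hxS (inv_mem hb) hg
      exact Or.inr ⟨⟨n, hn⟩, e⟩
  rcases hm' with rfl | rfl
  · -- an index of two leaves too many unmarked elements
    exfalso
    obtain ⟨⟨s, hs⟩, hso⟩ := exists_prime_orderOf_dvd_card' (G := ↥N) 2 (hm ▸ by norm_num)
    rw [Subgroup.orderOf_mk] at hso
    have hdec : ∀ k ∈ N, k ∈ (S : Subgroup G) ∨ k * s ∈ (S : Subgroup G) := by
      intro k hk
      have hi : ((S : Subgroup G).subgroupOf N).index = 2 := by
        have h := ((S : Subgroup G).subgroupOf N).index_mul_card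
        rw [Nat.card_congr (Subgroup.subgroupOfEquivOfLe (hN ▸ le_normalizer : (S : Subgroup G) ≤ N)).toEquiv,
          H.card_sylow_three S, hm] at h
        omega
      have hns : (⟨s, hs⟩ : ↥N) ∉ (S : Subgroup G).subgroupOf N := fun h => by
        have h2 := Subgroup.orderOf_dvd_natCard _ (Subgroup.mem_subgroupOf.1 h)
        rw [H.card_sylow_three S, hso] at h2
        norm_num at h2
      have h := Subgroup.mul_mem_iff_of_index_two hi (a := (⟨k, hk⟩ : ↥N)) (b := ⟨s, hs⟩)
      by_cases hkS : k ∈ (S : Subgroup G)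
      · exact Or.inl hkS
      · exact Or.inr (Subgroup.mem_subgroupOf.1 (h.2 (iff_of_false (fun h' => hkS (Subgroup.mem_subgroupOf.1 h')) hns)))
    have hss : s * s = 1 := by rw [← pow_two, ← hso, pow_orderOf_eq_one]
    set x' := s * x * s⁻¹ with hx'
    have hx'S : x' ∈ (S : Subgroup G) := (mem_normalizer_iff.1 hs x).1 hxS
    have hsO : O x ⊆ {x, x'} := by
      rintro b ⟨⟨k, hk⟩, rfl⟩
      rcases hdec k hk with h | h
      · left
        show k * x * k⁻¹ = x
        rw [H.sylow_three_comm S h hxS, mul_inv_cancel_right]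
      · right
        show k * x * k⁻¹ = x'
        have e := H.sylow_three_comm S h hx'S
        calc k * x * k⁻¹ = (k * s) * x' * (k * s)⁻¹ := by
              rw [hx', inv_eq_of_mul_eq_one_right hss]
              calc k * x * k⁻¹ = k * (s * s) * x * (s * s) * k⁻¹ := by rw [hss]; group
                _ = _ := by rw [mul_inv_rev, inv_eq_of_mul_eq_one_right hss]; group
          _ = x' := by rw [e, mul_inv_cancel_right]
    set M : Set G := {b | b ∈ (S : Subgroup G) ∧ Marked b}
    have hM : M ⊆ {x, x⁻¹, x', x'⁻¹} := by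
      rintro b ⟨hb, hbm⟩
      rcases hfour b hb hbm with h | h <;> rcases hsO h with e | e
      · exact Or.inl e
      · exact Or.inr (Or.inr (Or.inl e))
      · exact Or.inr (Or.inl (inv_eq_iff_eq_inv.1 e))
      · exact Or.inr (Or.inr (Or.inr (inv_eq_iff_eq_inv.1 e)))
    have hM2 : M.ncard ≤ 2 := by
      have hxx : x * x = x⁻¹ := eq_inv_of_mul_eq_one_left (by rw [← pow_three', ← hxm.1, pow_orderOf_eq_one])
      by_cases h1 : x' = x ∨ x' = x⁻¹
      · refine (Set.ncard_le_ncard (t := {x, x⁻¹}) ?_ (Set.toFinite _)).trans ((Set.ncard_insert_le _ _).trans (by simp))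
        intro b hb
        rcases h1 with e | e <;> have := hM hb <;> rw [e] at this <;> simpa [or_comm, or_assoc, or_left_comm] using this
      · -- the product of the two is fixed by the involution
        exfalso
        push Not at h1
        have hz : Marked (x * x') := by
          have hz1 : x * x' ≠ 1 := fun e => h1.2 (eq_inv_of_mul_eq_one_right e)
          refine ⟨H.sylow_three_elem S (mul_mem hxS hx'S) hz1, s, hso, ?_⟩
          have e : s * (x * x') * s⁻¹ = x * x' := by
            rw [show s * (x * x') * s⁻¹ = x' * (s * x' * s⁻¹) by rw [hx']; group,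
              show s * x' * s⁻¹ = x by
                rw [hx', inv_eq_of_mul_eq_one_right hss, show s * (s * x * s) * s = (s * s) * x * (s * s) by group, hss]
                group]
            exact H.sylow_three_comm S hx'S hxS
          exact (mul_inv_eq_iff_eq_mul.1 e).symm
        rcases hM ⟨mul_mem hxS hx'S, hz⟩ with e | e | e | e
        · exact absurd (mul_eq_left.1 e) (fun e' => hx1 (by
            have := congrArg (fun w => s⁻¹ * w * s) e'
            simpa [hx', mul_assoc] using this))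
        · exact h1.1 (mul_left_cancel (e.trans hxx.symm))
        · exact hx1 (mul_eq_right.1 e)
        · refine h1.1 ?_
          have hx'3 : x' * (x' * x') = 1 := by
            rw [← pow_three, ← (conjOrd s x).trans hxm.1, pow_orderOf_eq_one]
          have e2 : x' * x' = x'⁻¹ := eq_inv_of_mul_eq_one_right hx'3
          exact (mul_right_cancel (e.trans e2.symm)).symm
    have hU : 6 ≤ Nat.card {u : G // u ∈ (S : Subgroup G) ∧ u ≠ 1 ∧ ¬ Marked u} := by
      have hsub : ({u | u ∈ (S : Subgroup G) ∧ u ≠ 1 ∧ ¬ Marked u} : Set G) = (((S : Subgroup G) : Set G) \ {1}) \ M := by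
        ext u
        simp only [M, Set.mem_ofPred_eq, Set.mem_sdiff, SetLike.mem_coe, Set.mem_singleton_iff]
        tauto
      show 6 ≤ Nat.card ↥({u | u ∈ (S : Subgroup G) ∧ u ≠ 1 ∧ ¬ Marked u} : Set G)
      rw [Nat.card_coe_set_eq, hsub]
      have := Set.ncard_le_ncard_sdiff_add_ncard (((S : Subgroup G) : Set G) \ {1}) M (Set.toFinite _)
      omega
    have := H.unmarked_count S
    have : Nat.card (Sylow 3 G) = 24640 := by omega
    have := Nat.mul_le_mul_left (Nat.card (Sylow 3 G)) hU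
    omega
  · -- an index of eight
    refine ⟨hm, ?_⟩
    have hallm : ∀ u ∈ (S : Subgroup G), u ≠ 1 → Marked u := by
      intro u hu hu1
      by_contra hum
      have h := ncard_conj_orbit N u
      rw [H.unmarked_stab S hu hu1 hum, inf_eq_right.2 (hN ▸ le_normalizer : (S : Subgroup G) ≤ N),
        H.card_sylow_three S, hm] at h
      have : O u = ((S : Subgroup G) : Set G) \ {1} := Set.eq_of_subset_of_ncard_le (hOS u hu hu1)
        (by rw [hP8]; show 8 ≤ (O u).ncard; simp only [hO]; omega) (Set.toFinite _)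
      obtain ⟨k, hk⟩ := (this ▸ (⟨hxS, hx1⟩ : x ∈ ((S : Subgroup G) : Set G) \ {1}) : x ∈ O u)
      apply hum
      have := hxm.conj (k : G)⁻¹
      rw [← hk] at this
      simpa [mul_assoc] using this
    -- no element fixes one and moves another
    have hfixed : ∀ a ∈ (S : Subgroup G), a ≠ 1 → N ⊓ centralizer ({a} : Set G) = (S : Subgroup G) := by
      intro a ha ha1
      refine le_antisymm (fun k hk => ?_) (le_inf (hN ▸ le_normalizer) (H.sylow_le_cent S ha))
      obtain ⟨y, hyS, hya⟩ := SetLike.exists_of_lt (lt_of_le_of_ne (zpowers_le.2 ha) (fun e => by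
        have := congrArg (fun K : Subgroup G => Nat.card ↥K) e
        simp only [Nat.card_zpowers, H.sylow_three_elem S ha ha1, H.card_sylow_three S] at this
        omega) : zpowers a < (S : Subgroup G))
      refine H.mem_of_two S ha ha1 hyS hya (mem_centralizer_singleton_iff.1 hk.2).symm ?_
      by_contra hne
      set y' := k * y * k⁻¹ with hy'
      have hy'S : y' ∈ (S : Subgroup G) := (mem_normalizer_iff.1 hk.1 y).1 hyS
      have hyy : y' ≠ y := fun e => hne (mul_inv_eq_iff_eq_mul.1 e).symm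
      -- the orbit of the second element has just these two members
      have hpair := H.second_le S ha ha1 hyS hya
      have hmem : ∀ j ∈ N ⊓ centralizer ({a} : Set G), j * y * j⁻¹ = y ∨ j * y * j⁻¹ = y' := by
        intro j hj
        have hsub : ({y, y'} : Set G) ⊆ Set.range fun l : ↥(N ⊓ centralizer ({a} : Set G) : Subgroup G) =>
            (l : G) * y * (l : G)⁻¹ := by
          rintro b (rfl | rfl)
          · exact ⟨⟨1, one_mem _⟩, by simp⟩
          · exact ⟨⟨k, hk⟩, rfl⟩
        have he := Set.eq_of_subset_of_ncard_le hsub (by rw [Set.ncard_pair hyy.symm]; exact hpair) (Set.toFinite _)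
        have : j * y * j⁻¹ ∈ ({y, y'} : Set G) := he ▸ ⟨⟨j, hj⟩, rfl⟩
        exact this
      have hk2 : k * y' * k⁻¹ = y := by
        rcases hmem (k * k) (mul_mem hk hk) with e | e
        · rw [← e, hy']; group
        · exfalso
          apply hyy
          have e' : k * y' * k⁻¹ = k * y * k⁻¹ := by
            calc k * y' * k⁻¹ = k * k * y * (k * k)⁻¹ := by simp only [hy']; group
              _ = y' := e
              _ = k * y * k⁻¹ := hy'
          exact mul_left_cancel (mul_right_cancel e')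
      set z := y * y'⁻¹ with hz
      have hzS : z ∈ (S : Subgroup G) := mul_mem hyS (inv_mem hy'S)
      have hz1 : z ≠ 1 := fun e => hyy (mul_inv_eq_one.1 e).symm
      have hkz : k * z * k⁻¹ = z⁻¹ := by
        calc k * z * k⁻¹ = (k * y * k⁻¹) * (k * y' * k⁻¹)⁻¹ := by simp only [hz]; group
          _ = y' * y⁻¹ := by rw [hk2]
          _ = z⁻¹ := by rw [hz, mul_inv_rev, inv_inv]
      have both : z ∈ O x ∧ z⁻¹ ∈ O x := by
        rcases hfour z hzS (hallm z hzS hz1) with ⟨l, hl⟩ | ⟨l, hl⟩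
        · refine ⟨⟨l, hl⟩, ⟨⟨k * l, mul_mem hk.1 l.2⟩, ?_⟩⟩
          rw [← hkz, ← hl]; group
        · refine ⟨⟨⟨k * l, mul_mem hk.1 l.2⟩, ?_⟩, ⟨l, hl⟩⟩
          have : k * z⁻¹ * k⁻¹ = z := by rw [show k * z⁻¹ * k⁻¹ = (k * z * k⁻¹)⁻¹ by group, hkz, inv_inv]
          rw [← this, ← hl]; group
      -- the two orbits meet, so there is only one
      have hinv : ∀ b ∈ O x, b⁻¹ ∈ O x := by
        obtain ⟨⟨p, hp⟩, ⟨q, hq⟩⟩ := both
        rintro b ⟨l, rfl⟩
        refine ⟨⟨l * (p : G)⁻¹ * q, mul_mem (mul_mem l.2 (inv_mem p.2)) q.2⟩, ?_⟩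
        simp only at hp hq ⊢
        calc l * (p : G)⁻¹ * q * x * (l * (p : G)⁻¹ * q)⁻¹
            = l * (p : G)⁻¹ * ((q : G) * x * (q : G)⁻¹) * ((l : G) * (p : G)⁻¹)⁻¹ := by group
          _ = l * (p : G)⁻¹ * ((p : G) * x * (p : G)⁻¹)⁻¹ * ((l : G) * (p : G)⁻¹)⁻¹ := by rw [hq, hp]
          _ = ((l : G) * x * (l : G)⁻¹)⁻¹ := by group
      have hall : ((S : Subgroup G) : Set G) \ {1} ⊆ O x := by
        rintro b ⟨hb, hb1⟩
        rcases hfour b hb (hallm b hb hb1) with h | h
        · exact h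
        · exact inv_inv b ▸ hinv _ h
      have h := ncard_conj_orbit N x
      have h8 : (O x).ncard = 8 := by rw [Set.Subset.antisymm (hOS x hxS hx1) hall, hP8]
      simp only [hO] at h8
      rw [h8, hm] at h
      have h9 : N ⊓ centralizer ({x} : Set G) = (S : Subgroup G) := (Subgroup.eq_of_le_of_card_ge
        (le_inf (hN ▸ le_normalizer) (H.sylow_le_cent S hxS)) (by rw [H.card_sylow_three S]; omega)).symm
      obtain ⟨⟨r, hr⟩, hr'⟩ := hall ⟨ha, ha1⟩
      have hka : r⁻¹ * k * r ∈ N ⊓ centralizer ({x} : Set G) := by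
        refine Subgroup.mem_inf.2 ⟨mul_mem (mul_mem (inv_mem hr) hk.1) hr, mem_centralizer_singleton_iff.2 ?_⟩
        have e := mem_centralizer_singleton_iff.1 hk.2
        simp only at hr'
        rw [← hr'] at e
        calc r⁻¹ * k * r * x = r⁻¹ * (k * (r * x * r⁻¹)) * r := by group
          _ = r⁻¹ * (r * x * r⁻¹ * k) * r := by rw [e]
          _ = x * (r⁻¹ * k * r) := by group
      rw [h9] at hka
      have := (mem_normalizer_iff.1 hr _).1 hka
      rw [show r * (r⁻¹ * k * r) * r⁻¹ = k by group] at this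
      exact hne (H.sylow_three_comm S hyS this)
    intro a ha ha1
    refine ⟨hallm a ha ha1, hfixed a ha ha1, fun b hb hb1 => ?_⟩
    have h := ncard_conj_orbit N a
    rw [hfixed a ha ha1, H.card_sylow_three S, hm] at h
    have : O a = ((S : Subgroup G) : Set G) \ {1} := Set.eq_of_subset_of_ncard_le (hOS a ha ha1)
      (by rw [hP8]; show 8 ≤ (O a).ncard; simp only [hO]; omega) (Set.toFinite _)
    obtain ⟨k, hk⟩ := (this ▸ (⟨hb, hb1⟩ : b ∈ ((S : Subgroup G) : Set G) \ {1}) : b ∈ O a)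
    exact isConj_iff.2 ⟨k, hk⟩

end Cfsg.Lib.M22Nse
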