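import Mathlib

/-!
The two actions of the alternating group of degree six on fifteen points: on pairs, and on partitions
into three pairs.
-/

set_option autoImplicit false
set_option synthInstance.maxSize 4000

namespace Cfsg.Lib.M22Nse

/-- the alternating group of degree six -/
abbrev A6 : Type := ↥(alternatingGroup (Fin 6))

/-- first generating involution -/
def lp : A6 := ⟨Equiv.swap 2 3 * Equiv.swap 4 5, Equiv.Perm.mem_alternatingGroup.2 (by decide +kernel)⟩
/-- second generating involution -/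
def lq : A6 := ⟨Equiv.swap 0 1 * Equiv.swap 2 4, Equiv.Perm.mem_alternatingGroup.2 (by decide +kernel)⟩
/-- third generating involution -/
def lr : A6 := ⟨Equiv.swap 1 2 * Equiv.swap 4 5, Equiv.Perm.mem_alternatingGroup.2 (by decide +kernel)⟩
/-- fourth generating involution -/
def ls : A6 := ⟨Equiv.swap 0 1 * Equiv.swap 3 5, Equiv.Perm.mem_alternatingGroup.2 (by decide +kernel)⟩

/-- the letters -/
def gl : ℕ → A6
  | 0 => lp
  | 1 => lq
  | 2 => lr
  | 3 => ls
  | _ => 1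

/-- value of a word in the letters -/
def wv (w : List ℕ) : A6 := (w.map gl).prod

/-- combinatorial data of one action -/
structure CData where
  /-- a fixed element of order three -/
  t : A6
  /-- a second one, generating with the first a subgroup of order twelve -/
  t' : A6
  /-- an involution in the subgroup they generate -/
  u : A6
  /-- the class is given by the presence of a fixed point -/
  fixd : Bool
  /-- generators of the stabiliser -/
  gens : List (List ℕ)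
  /-- the stabiliser, as words in its generators -/
  stab : List (List ℕ)
  /-- coset representatives -/
  reps : List (List ℕ)

namespace CData

variable (D : CData)

/-- the class of elements of order three -/
def Cls (σ : A6) : Prop := σ * σ * σ = 1 ∧ σ ≠ 1 ∧ (decide (∃ i : Fin 6, σ.1 i = i) = D.fixd)

instance (σ : A6) : Decidable (D.Cls σ) := inferInstanceAs (Decidable (_ ∧ _ ∧ _))

/-- the generators of the stabiliser -/
def gv : List A6 := D.gens.map wv

/-- the elements of the stabiliser -/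
def hs : List A6 := D.stab.map fun w => (w.map fun k => D.gv.getD k 1).prod

/-- a coset representative -/
def rep (i : ℕ) : A6 := wv (D.reps.getD i [])

/-- short products of the two chosen elements -/
def small : List A6 :=
  [1, D.t, D.t * D.t].flatMap fun a => [1, D.t', D.t' * D.t'].flatMap fun b => [1, D.t, D.t * D.t].map fun c => a * b * c

/-- the checked facts -/
structure OK : Prop where
  cls_t : D.Cls D.t
  cls_t' : D.Cls D.t'
  conj : ∀ σ : A6, D.Cls σ → ∃ g : A6, g * σ * g⁻¹ = D.t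
  pair : ∀ τ : A6, D.Cls τ → τ = D.t ∨ τ = D.t * D.t ∨ (D.t * τ) ^ 5 = 1 ∨ (D.t * (τ * τ)) ^ 5 = 1 ∨
    D.t * τ = τ * D.t ∨ ∃ g : A6, (g * D.t * g⁻¹ = D.t ∨ g * D.t * g⁻¹ = D.t * D.t) ∧
      (g * τ * g⁻¹ = D.t' ∨ g * τ * g⁻¹ = D.t' * D.t')
  norm : (Finset.univ.filter fun σ : A6 => σ * D.t * σ⁻¹ = D.t ∨ σ * D.t * σ⁻¹ = D.t * D.t).card = 18
  invol : D.u * D.u = 1 ∧ D.u ≠ 1 ∧ D.u ∈ D.small
  gens_ok : ∀ g ∈ D.gv, g⁻¹ * D.t * g ∈ D.small ∧ g⁻¹ * D.t' * g ∈ D.small
  one_mem : (1 : A6) ∈ D.hs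
  len : D.reps.length = 15
  rep_zero : D.rep 0 = 1
  cover : ∀ σ : A6, ∃ i : Fin 15, (D.rep i)⁻¹ * σ ∈ D.hs

/-- a product of two points is the only third point it can be -/
def ProdOK (w₁ w₂ : List ℕ) : Prop :=
  wv w₁ ∉ D.hs ∧ ∀ i : Fin 15, (∀ τ ∈ D.hs, (wv w₁)⁻¹ * τ * wv w₁ ∈ D.hs → (D.rep i)⁻¹ * τ * D.rep i ∈ D.hs) →
    D.rep i ∈ D.hs ∨ (wv w₁)⁻¹ * D.rep i ∈ D.hs ∨ (wv w₂)⁻¹ * D.rep i ∈ D.hs

end CData

/-- the action on pairs -/
def dP : CData where
  t := wv [2, 0, 1, 2, 3, 2, 1, 2, 0]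
  t' := wv [2, 1, 2, 3, 2, 0, 3, 2, 0]
  u := wv [2, 0, 1, 2, 3, 2, 1, 2, 0] * wv [2, 1, 2, 3, 2, 0, 3, 2, 0]
  fixd := true
  gens := [[0], [3], [2, 0, 1, 2, 3, 2, 1, 2]]
  stab := [[], [0], [1], [2], [0,1], [0,2], [1,0], [1,2], [2,0], [2,1], [2,2], [0,1,0], [0,1,2], [0,2,0], [0,2,1],
    [0,2,2], [1,0,1], [1,0,2], [1,2,2], [2,0,2], [2,1,0], [2,2,0], [0,1,0,1], [0,1,0,2]]
  reps := [[], [2], [0,2], [1,3,2], [0,1,3,2], [3,2], [0,3,2], [1,2], [0,1,2], [2,0,3,2], [2,0,1,2], [2,1,2],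
    [0,2,1,2], [0,2,0,1,2], [1,2,1,2]]

/-- the action on partitions into three pairs -/
def dS : CData where
  t := wv [0, 3, 2, 1, 2, 0, 3]
  t' := wv [0, 3, 2, 1, 2, 1]
  u := wv [0, 3, 2, 1, 2, 0, 3] * (wv [0, 3, 2, 1, 2, 1] * wv [0, 3, 2, 1, 2, 1])
  fixd := false
  gens := [[0], [1, 3], [3, 2, 1, 2, 3]]
  stab := [[], [0], [1], [2], [0,1], [0,2], [1,2], [2,0], [2,1], [0,1,2], [0,2,0], [0,2,1], [1,2,0], [1,2,1],
    [2,0,1], [2,0,2], [0,1,2,0], [0,1,2,1], [0,2,0,1], [0,2,0,2], [1,2,0,1], [1,2,0,2], [2,0,1,2], [2,0,2,1]]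
  reps := [[], [2,0,1,2], [3], [2], [2,3], [0,1,2], [0,2], [1,2], [0,2,3], [2,3,2], [0,3,2], [1,3,2], [3,2],
    [2,1,3,2], [0,1,3,2]]

theorem dP_ok : dP.OK where
  cls_t := by decide +kernel
  cls_t' := by decide +kernel
  conj := by decide +kernel
  pair := by decide +kernel
  norm := by decide +kernel
  invol := by decide +kernel
  gens_ok := by decide +kernel
  one_mem := by decide +kernel
  len := rfl
  rep_zero := rfl
  cover := by decide +kernel

theorem dS_ok : dS.OK where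
  cls_t := by decide +kernel
  cls_t' := by decide +kernel
  conj := by decide +kernel
  pair := by decide +kernel
  norm := by decide +kernel
  invol := by decide +kernel
  gens_ok := by decide +kernel
  one_mem := by decide +kernel
  len := rfl
  rep_zero := rfl
  cover := by decide +kernel

theorem dP_tri : dP.ProdOK [3, 2] [2] := by unfold CData.ProdOK; decide +kernel
theorem dP_dis : dP.ProdOK [2, 0, 3, 2] [1, 2, 1, 2] := by unfold CData.ProdOK; decide +kernel
theorem dS_one : dS.ProdOK [2, 0, 1, 2] [3] := by unfold CData.ProdOK; decide +kernel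
theorem dS_two : dS.ProdOK [2, 3] [2, 1, 3, 2] := by unfold CData.ProdOK; decide +kernel

/-- the lines of a Sylow 3-subgroup have both types -/
theorem cls_lines : ∀ σ : A6, dS.Cls σ → ∀ τ : A6, τ * τ * τ = 1 → σ * τ = τ * σ → τ ≠ 1 → τ ≠ σ → τ ≠ σ * σ →
    dP.Cls τ ∨ dP.Cls (σ * τ) ∨ dP.Cls (σ * (τ * τ)) := by decide +kernel

theorem cls_lines' : ∀ σ : A6, dP.Cls σ → ∀ τ : A6, τ * τ * τ = 1 → σ * τ = τ * σ → τ ≠ 1 → τ ≠ σ → τ ≠ σ * σ →
    dS.Cls (σ * τ) ∨ dS.Cls (σ * (τ * τ)) := by decide +kernel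

/-- the centraliser of the common stabiliser -/
theorem cent_common : ∀ σ : A6, (∀ τ ∈ dP.hs, τ ∈ dS.hs → σ * τ = τ * σ) → σ = 1 ∨ σ = lp := by decide +kernel

theorem common_fix_S : ∀ i : Fin 15, (∀ τ ∈ dP.hs, τ ∈ dS.hs → (dS.rep i)⁻¹ * τ * dS.rep i ∈ dS.hs) →
    dS.rep i ∈ dS.hs := by decide +kernel

theorem common_fix_P : ∀ i : Fin 15, (∀ τ ∈ dP.hs, τ ∈ dS.hs → (dP.rep i)⁻¹ * τ * dP.rep i ∈ dP.hs) →
    dP.rep i ∈ dP.hs := by decide +kernel

/-- two orbits of a stabiliser on the other fifteen points -/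
theorem orbits_ok : ∀ i : Fin 15, (∃ τ ∈ dS.hs, τ * dP.rep i ∈ dP.hs) ∨
    ∀ j : Fin 15, (∀ τ ∈ dS.hs, τ * dP.rep j ∉ dP.hs) → ∃ τ ∈ dS.hs, (dP.rep j)⁻¹ * (τ * dP.rep i) ∈ dP.hs := by
  decide +kernel

/-- the points outside the short orbit -/
def far : Finset (Fin 15) := Finset.univ.filter fun i => ∀ τ ∈ dS.hs, τ * dP.rep i ∉ dP.hs

theorem far_card : far.card = 12 := by decide +kernel

/-- the letters generate -/
theorem gens_top : ∀ σ : A6, ∃ i : Fin 15, (dP.rep i)⁻¹ * σ ∈ dP.hs := dP_ok.cover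

end Cfsg.Lib.M22Nse
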