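import Cfsg.Agent.M12Nse.Facts

/-!
Counting lemmas for the recognition of the Mathieu group of degree twenty-two by its order and the
numbers of elements of each order.
-/

set_option autoImplicit false
set_option linter.unusedSectionVars false
set_option linter.style.haveILetI false

namespace Cfsg.Lib.M22Nse

open Subgroup Cfsg.Lib.SameOrder Cfsg.Lib.Small Cfsg.Lib.MathieuEleven

/-- the possible numbers of elements of a given order -/
def nseVals : List ℕ := [0, 1, 1155, 12320, 36960, 41580, 55440, 80640, 88704, 126720]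

/-- the hypothesis -/
structure Hyp (G : Type*) [Group G] : Prop where
  card : Nat.card G = 443520
  mem : ∀ n, cnt G n ∈ nseVals

universe u

variable {G : Type u} [Group G] [Finite G]

/-- A centraliser of prime-order element that is cyclic gives a congruence. -/
theorem cnt_mod_totient {p : ℕ} [Fact p.Prime] {x g : G} (hx : orderOf x = p) (hc : g * x = x * g)
    (hC : Nat.card ↥(centralizer ({x} : Set G)) = orderOf g) :
    cnt G (orderOf g) % p = Nat.totient (orderOf g) % p := by
  classical
  set C := centralizer ({x} : Set G) with hCd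
  have hgC : g ∈ C := mem_centralizer_singleton_iff.2 hc
  have : IsCyclic ↥C := isCyclic_of_orderOf_eq_card ⟨g, hgC⟩ (by rw [Subgroup.orderOf_mk, hC])
  have := Fintype.ofFinite ↥C
  have hfix : {a ∈ {a : G | orderOf a = orderOf g} | x * a = a * x}.ncard = Nat.totient (orderOf g) := by
    have e : {a ∈ {a : G | orderOf a = orderOf g} | x * a = a * x} =
        Subtype.val '' ((Finset.univ.filter fun a : ↥C => orderOf a = orderOf g : Finset ↥C) : Set ↥C) := by
      ext a
      simp only [Set.mem_ofPred_eq, Finset.coe_filter, Finset.mem_univ, true_and, Set.mem_image]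
      constructor
      · rintro ⟨h1, h2⟩
        exact ⟨⟨a, mem_centralizer_singleton_iff.2 h2.symm⟩, by rw [Subgroup.orderOf_mk, h1], rfl⟩
      · rintro ⟨⟨b, hb⟩, h1, rfl⟩
        exact ⟨by rwa [Subgroup.orderOf_mk] at h1, (mem_centralizer_singleton_iff.1 hb).symm⟩
    rw [e, Set.ncard_image_of_injective _ Subtype.val_injective, Set.ncard_coe_finset]
    exact IsCyclic.card_orderOf_eq_totient (dvd_of_eq (by rw [← Nat.card_eq_fintype_card, hC]))
  have hmod := ncard_conj_mod (p := p) (x := x) (k := 1) (by rw [pow_one, ← hx, pow_orderOf_eq_one])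
    (s := {a : G | orderOf a = orderOf g}) fun a ha => by
      show orderOf (x * a * x⁻¹) = orderOf g
      rw [← MulAut.conj_apply, MulEquiv.orderOf_eq]
      exact ha
  rw [hfix, ← Nat.card_coe_set_eq] at hmod
  exact hmod

variable (H : Hyp G) {p : ℕ} [Fact p.Prime]

include H

theorem card_sylow {m : ℕ} (hm : 443520 = p * m) (hp : ¬ p ∣ m) (P : Sylow p G) :
    Nat.card ↥(P : Subgroup G) = p := by
  simpa using card_sylow_of_factor P (a := 1) (m := m) (by rw [H.card, pow_one, hm]) hp

/-- An element of prime order has centraliser of order dividing that of the normalizer of its Sylow subgroup. -/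
theorem cent_dvd (hS : ∀ P : Sylow p G, Nat.card ↥(P : Subgroup G) = p) {x : G} (hx : orderOf x = p) :
    Nat.card (Sylow p G) * Nat.card ↥(centralizer ({x} : Set G)) ∣ 443520 := by
  obtain ⟨P, hP⟩ := M12Nse.exists_sylow_zpowers hS hx
  have hle : centralizer ({x} : Set G) ≤ normalizer ((P : Subgroup G) : Set G) := by
    rw [hP]
    exact fun c hc => mem_normalizer_zpowers (by
      rw [mem_centralizer_singleton_iff.1 hc, mul_inv_cancel_right]; exact mem_zpowers x)
  have h := card_normalizer_mul P
  rw [H.card] at h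
  rw [← h, mul_comm (Nat.card ↥(normalizer _))]
  exact Nat.mul_dvd_mul_left _ (Subgroup.card_dvd_of_le hle)

theorem cnt_prime_value (hS : ∀ P : Sylow p G, Nat.card ↥(P : Subgroup G) = p) {m v : ℕ} (hm : 443520 = p * m)
    (hall : ∀ c ∈ nseVals, c ≠ 0 → (1 + c) % p = 0 → c = v) : cnt G p = v ∧ (p - 1) * Nat.card (Sylow p G) = v := by
  have hd : p ∣ Nat.card G := ⟨m, by rw [H.card, hm]⟩
  have hz := dvd_sum_divisors (G := G) (n := p) hd
  rw [Nat.Prime.divisors (Fact.out : p.Prime), Finset.sum_pair (Fact.out : p.Prime).ne_one.symm, cnt_one] at hz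
  have hv := hall _ (H.mem p) (cnt_prime_ne_zero Fact.out hd) (Nat.mod_eq_zero_of_dvd hz)
  exact ⟨hv, by rw [← M12Nse.cnt_prime hS, hv]⟩

end Cfsg.Lib.M22Nse
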