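import Cfsg.Agent.M22Nse.Facts

/-!
The facts about counts and element orders from which the Mathieu group of degree twenty-two is recognised.
-/

set_option autoImplicit false

namespace Cfsg.Lib.M22Nse

open Cfsg.Lib.SameOrder

/-- the possible element orders, allowing all powers of two -/
def fieldOrders : List ℕ := [1, 2, 3, 4, 5, 6, 7, 8, 11, 16, 32, 64, 128]

/-- the fields used by the local analysis -/
structure Fields (G : Type*) [Group G] : Prop where
  card : Nat.card G = 443520
  two : cnt G 2 = 1155
  three : cnt G 3 = 12320
  six : cnt G 6 = 36960
  orders : ∀ g : G, orderOf g ∈ fieldOrders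

end Cfsg.Lib.M22Nse
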