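import Cfsg.Agent.M22Nse.Local6
import Cfsg.Agent.M22Nse.Combi

/-!
The two elementary groups as the two modules of fifteen points.
-/

set_option autoImplicit false
set_option linter.unusedSectionVars false
set_option linter.unusedVariables false
set_option linter.style.haveILetI false

namespace Cfsg.Lib.M22Nse

open Subgroup Cfsg.Lib.SameOrder

universe u

local instance fact_three_halves : Fact (Nat.Prime 3) := ⟨Nat.prime_three⟩

theorem card_A6 : Nat.card A6 = 360 := by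
  rw [nat_card_alternatingGroup, Nat.card_fin]; rfl

theorem CData.cls_conj {D : CData} {σ : A6} (h : D.Cls σ) (g : A6) : D.Cls (g * σ * g⁻¹) := by
  obtain ⟨h1, h2, h3⟩ := h
  refine ⟨?_, fun e => h2 (conj_eq_one_iff.1 e), ?_⟩
  · rw [show g * σ * g⁻¹ * (g * σ * g⁻¹) * (g * σ * g⁻¹) = g * (σ * σ * σ) * g⁻¹ by group, h1]; group
  · rw [← h3]
    refine decide_eq_decide.2 ⟨fun ⟨i, hi⟩ => ⟨g.1⁻¹ i, ?_⟩, fun ⟨i, hi⟩ => ⟨g.1 i, ?_⟩⟩
    · have e : g.1 (σ.1 (g.1⁻¹ i)) = i := hi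
      apply g.1.injective
      rw [e]
      exact (Equiv.apply_symm_apply g.1 i).symm
    · show g.1 (σ.1 (g.1⁻¹ (g.1 i))) = g.1 i
      rw [show g.1⁻¹ (g.1 i) = i from Equiv.symm_apply_apply g.1 i, hi]

variable {G : Type u} [Group G] [Finite G]

/-- one elementary group with its action of the alternating group -/
structure Half (D : CData) (κ : A6 →* G) (E : Subgroup G) : Prop where
  card : Nat.card ↥E = 16
  sq : ∀ g ∈ E, g * g = 1
  comm : ∀ g ∈ E, ∀ k ∈ E, g * k = k * g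
  inj : Function.Injective κ
  conj_mem : ∀ σ, ∀ v ∈ E, κ σ * v * (κ σ)⁻¹ ∈ E
  trans : ∀ v ∈ E, ∀ w ∈ E, v ≠ 1 → w ≠ 1 → ∃ σ, κ σ * v * (κ σ)⁻¹ = w
  free : ∀ σ, κ σ ∈ E → σ = 1
  Rt : R (κ D.t) = E

variable (H : Fields G)
include H

/-- the base point -/
theorem Half.exists_point {D : CData} {κ : A6 →* G} {E : Subgroup G} (hD : D.OK) (hE : Half D κ E) :
    ∃ e₀ ∈ E, e₀ ≠ 1 ∧ (∀ τ ∈ D.hs, κ τ * e₀ = e₀ * κ τ) ∧
      (∀ σ, κ σ * e₀ = e₀ * κ σ → σ ∈ D.hs) ∧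
      ∀ v ∈ E, v ≠ 1 → ∃ i : Fin 15, κ (D.rep i) * e₀ * (κ (D.rep i))⁻¹ = v := by
  classical
  have ord3 : ∀ {σ}, D.Cls σ → orderOf (κ σ) = 3 := fun {σ} hσ => by
    refine orderOf_eq_prime ?_ fun e => hσ.2.1 (hE.inj (by rw [e, map_one]))
    rw [← map_pow, pow_succ, pow_two, hσ.1, map_one]
  set y := κ D.t with hy
  have hyo : orderOf y = 3 := ord3 hD.cls_t
  have hVE : V y ≤ E := hE.Rt ▸ V_le_R H hyo hyo fun _ hu _ hv => V_comm H hyo hu hv
  obtain ⟨z, hz, hz1⟩ := V_ne_bot H hyo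
  have hzE := hVE hz
  have ht2 : D.t * D.t = D.t⁻¹ := eq_inv_of_mul_eq_one_left hD.cls_t.1
  have ht'2 : D.t' * D.t' = D.t'⁻¹ := eq_inv_of_mul_eq_one_left hD.cls_t'.1
  -- the stabiliser of `z`
  set U : Subgroup A6 := (centralizer ({z} : Set G)).comap κ with hU
  have hmemU : ∀ {σ}, σ ∈ U ↔ κ σ * z = z * κ σ := fun {σ} => mem_comap.trans mem_centralizer_singleton_iff
  have hU24 : Nat.card ↥U = 24 := by
    have h15 : Nat.card {v : ↥E // v ≠ 1} = 15 := by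
      have := Fintype.ofFinite ↥E
      rw [Nat.card_eq_fintype_card, Fintype.card_subtype_compl, Fintype.card_subtype_eq,
        ← Nat.card_eq_fintype_card, hE.card]
    let f : A6 → {v : ↥E // v ≠ 1} := fun σ => ⟨⟨κ σ * z * (κ σ)⁻¹, hE.conj_mem σ z hzE⟩, fun e =>
      hz1 (conj_eq_one_iff.1 (congrArg Subtype.val e))⟩
    have hff : ∀ σ τ, σ⁻¹ * τ ∈ U ↔ f σ = f τ := fun σ τ => by
      rw [hmemU, map_mul, map_inv]
      constructor
      · intro h
        refine Subtype.ext (Subtype.ext ?_)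
        show κ σ * z * (κ σ)⁻¹ = κ τ * z * (κ τ)⁻¹
        calc κ σ * z * (κ σ)⁻¹ = κ σ * (z * ((κ σ)⁻¹ * κ τ)) * (κ τ)⁻¹ := by group
          _ = κ τ * z * (κ τ)⁻¹ := by rw [← h]; group
      · intro h
        have e : κ σ * z * (κ σ)⁻¹ = κ τ * z * (κ τ)⁻¹ := congrArg (fun p => ((p.1 : ↥E) : G)) h
        calc (κ σ)⁻¹ * κ τ * z = (κ σ)⁻¹ * (κ τ * z * (κ τ)⁻¹) * κ τ := by group
          _ = z * ((κ σ)⁻¹ * κ τ) := by rw [← e]; group
    have hidx : U.index = 15 := by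
      rw [Subgroup.index_eq_card, ← h15]
      refine Nat.card_eq_of_bijective (Quotient.lift f fun σ τ h =>
        (hff σ τ).1 (QuotientGroup.leftRel_apply.1 h)) ⟨?_, ?_⟩
      · rintro ⟨σ⟩ ⟨τ⟩ h
        exact QuotientGroup.eq.2 ((hff σ τ).2 h)
      · rintro ⟨⟨v, hv⟩, hv1⟩
        obtain ⟨σ, hσ⟩ := hE.trans z hzE v hv hz1 fun e => hv1 (Subtype.ext e)
        exact ⟨QuotientGroup.mk σ, Subtype.ext (Subtype.ext hσ)⟩
    have := Subgroup.card_mul_index U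
    rw [hidx, card_A6] at this
    omega
  have htU : D.t ∈ U := hmemU.2 ((mem_V H hyo).1 hz).2.symm
  obtain ⟨u, huU, hu⟩ : ∃ u ∈ U, ¬ (u * D.t * u⁻¹ = D.t ∨ u * D.t * u⁻¹ = D.t * D.t) := by
    by_contra! h
    have hle : Nat.card ↥U ≤ (Finset.univ.filter fun σ : A6 =>
        σ * D.t * σ⁻¹ = D.t ∨ σ * D.t * σ⁻¹ = D.t * D.t).card := by
      rw [← Nat.card_eq_finsetCard]
      exact Nat.card_le_card_of_injective
        (fun s : ↥U => (⟨s.1, Finset.mem_filter.2 ⟨Finset.mem_univ _, h s.1 s.2⟩⟩ :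
          {σ // σ ∈ Finset.univ.filter fun σ : A6 => σ * D.t * σ⁻¹ = D.t ∨ σ * D.t * σ⁻¹ = D.t * D.t}))
        fun a b e => Subtype.ext (congrArg (fun p => p.1) e)
    rw [hU24, hD.norm] at hle
    omega
  set τ := u * D.t * u⁻¹
  have hτU : τ ∈ U := mul_mem (mul_mem huU htU) (inv_mem huU)
  have hτc : D.Cls τ := CData.cls_conj hD.cls_t u
  have h5 : ∀ w ∈ U, w ^ 5 = 1 → w = 1 := fun w hw h => by
    have h1 : orderOf w ∣ 5 := orderOf_dvd_of_pow_eq_one h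
    have h2 : orderOf w ∣ 24 := hU24 ▸ Subgroup.orderOf_dvd_natCard U hw
    exact orderOf_eq_one_iff.1 (Nat.dvd_one.1 (by simpa using Nat.dvd_gcd h1 h2))
  obtain ⟨g, hg1, hg2⟩ : ∃ g : A6, (g * D.t * g⁻¹ = D.t ∨ g * D.t * g⁻¹ = D.t * D.t) ∧
      (g * τ * g⁻¹ = D.t' ∨ g * τ * g⁻¹ = D.t' * D.t') := by
    rcases hD.pair τ hτc with e | e | e | e | e | e
    · exact absurd (Or.inl e) hu
    · exact absurd (Or.inr e) hu
    · refine absurd (Or.inr ?_) hu
      exact (eq_inv_of_mul_eq_one_right (h5 _ (mul_mem htU hτU) e)).trans ht2.symm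
    · refine absurd (Or.inl ?_) hu
      have h := eq_inv_of_mul_eq_one_right (h5 _ (mul_mem htU (mul_mem hτU hτU)) e)
      rw [eq_inv_of_mul_eq_one_left hτc.1] at h
      exact inv_injective h
    · exfalso
      -- two commuting elements of order three
      have h3 : ∀ {w : ↥U}, w * w * w = 1 → w ≠ 1 → Nat.card ↥(zpowers w) = 3 := fun {w} hw hw1 => by
        rw [Nat.card_zpowers]
        exact orderOf_eq_prime (by rw [pow_succ, pow_two, hw]) hw1
      set t₁ : ↥U := ⟨D.t, htU⟩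
      set τ₁ : ↥U := ⟨τ, hτU⟩
      have c1 : Nat.card ↥(zpowers t₁) = 3 :=
        h3 (Subtype.ext hD.cls_t.1) fun e' => hD.cls_t.2.1 (congrArg Subtype.val e')
      obtain ⟨P, hP⟩ := (IsPGroup.of_card (p := 3) (n := 1) (by rw [c1, pow_one]) :
        IsPGroup 3 ↥(zpowers t₁)).exists_le_sylow
      have hP3 : Nat.card ↥(P : Subgroup ↥U) = 3 := by
        simpa using Cfsg.Lib.Small.card_sylow_of_factor P (a := 1) (m := 8) (by rw [hU24]; norm_num) (by norm_num)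
      have hPe := Subgroup.eq_of_le_of_card_ge hP (by rw [hP3, c1])
      have hn : τ₁ ∈ normalizer (P : Set ↥U) := by
        show τ₁ ∈ normalizer ((P : Subgroup ↥U) : Set ↥U)
        refine mem_normalizer_of_conj _ fun v hv => ?_
        obtain ⟨k, rfl⟩ := mem_zpowers_iff.1 (hPe ▸ hv : v ∈ zpowers t₁)
        have hc : Commute τ₁ t₁ := Subtype.ext e.symm
        rw [(hc.zpow_right k).eq, mul_inv_cancel_right]
        exact hv
      have hτ3 := h3 (w := τ₁) (Subtype.ext hτc.1) fun e' => hτc.2.1 (congrArg Subtype.val e')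
      have hmem : τ₁ ∈ zpowers τ₁ ⊓ normalizer (P : Set ↥U) := ⟨mem_zpowers _, hn⟩
      rw [(IsPGroup.of_card (p := 3) (n := 1) (by rw [hτ3, pow_one]) :
        IsPGroup 3 ↥(zpowers τ₁)).inf_normalizer_sylow] at hmem
      obtain ⟨k, hk⟩ := mem_zpowers_iff.1 (hPe ▸ hmem.2 : τ₁ ∈ zpowers t₁)
      have hk' : D.t ^ k = τ := by simpa [t₁, τ₁] using congrArg Subtype.val hk
      have ho : orderOf D.t = 3 := orderOf_eq_prime (by rw [pow_succ, pow_two, hD.cls_t.1]) hD.cls_t.2.1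
      rw [← zpow_mod_orderOf, ho] at hk'
      rcases (show k % 3 = 0 ∨ k % 3 = 1 ∨ k % 3 = 2 by omega) with h | h | h <;> norm_num [h] at hk'
      · exact hτc.2.1 hk'.symm
      · exact hu (Or.inl hk'.symm)
      · exact hu (Or.inr (by rw [← hk', pow_two]))
    · exact e
  set y' := κ D.t' with hy'
  have hy'o : orderOf y' = 3 := ord3 hD.cls_t'
  set e₀ := κ g * z * (κ g)⁻¹ with he₀
  have hV : ∀ {σ τ' : A6}, D.Cls σ → (g * σ * g⁻¹ = τ' ∨ g * σ * g⁻¹ = τ' * τ') → τ' * τ' * τ' = 1 →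
      orderOf (κ τ') = 3 → σ ∈ U → e₀ ∈ V (κ τ') := by
    intro σ τ' hσ hg h3 ho hσU
    have hzV : z ∈ V (κ σ) := (mem_V H (ord3 hσ)).2 ⟨((mem_V H hyo).1 hz).1, (hmemU.1 hσU).symm⟩
    have h := conj_mem_V H (ord3 hσ) (κ g) hzV
    rw [← map_inv, ← map_mul, ← map_mul, map_inv] at h
    rcases hg with e | e <;> rw [e] at h
    · exact h
    · rw [show τ' * τ' = τ'⁻¹ from eq_inv_of_mul_eq_one_left h3, map_inv, V_inv H ho] at h
      exact h
  have he1 : e₀ ∈ V y := hV hD.cls_t hg1 hD.cls_t.1 hyo htU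
  have he2 : e₀ ∈ V y' := hV hτc hg2 hD.cls_t'.1 hy'o hτU
  have hne : e₀ ≠ 1 := fun e => hz1 (conj_eq_one_iff.1 e)
  have huniq : ∀ v, v ∈ V y → v ∈ V y' → v ≠ 1 → v = e₀ := by
    intro v hv hv' hv1
    by_contra hve
    set I := V y ⊓ V y'
    have h3 : 3 ≤ Nat.card ↥I := by
      have hs : ({1, e₀, v} : Set G) ⊆ (I : Set G) := by
        rintro w (rfl | rfl | rfl)
        exacts [one_mem _, ⟨he1, he2⟩, ⟨hv, hv'⟩]
      have h := Set.ncard_le_ncard hs (Set.toFinite _)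
      rw [Set.ncard_eq_three.2 ⟨1, e₀, v, hne.symm, hv1.symm, Ne.symm hve, rfl⟩, ← Nat.card_coe_set_eq] at h
      exact h
    have h4 : Nat.card ↥I ∣ 4 := card_V H hyo ▸ Subgroup.card_dvd_of_le inf_le_left
    have hI4 : Nat.card ↥I = 4 := by
      have : ∀ d ∈ Nat.divisors 4, 3 ≤ d → d = 4 := by decide +kernel
      exact this _ (Nat.mem_divisors.2 ⟨h4, by norm_num⟩) h3
    have e1 : I = V y := Subgroup.eq_of_le_of_card_ge inf_le_left (by rw [hI4, card_V H hyo])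
    have hsub : V y ≤ V y' := e1 ▸ inf_le_right
    have hu0 : κ D.u ∈ R y := by
      refine (mem_R H hyo).2 ⟨fun w hw => ?_, ?_⟩
      · have c1 : Commute y w := ((mem_V H hyo).1 hw).2.symm
        have c2 : Commute y' w := ((mem_V H hy'o).1 (hsub hw)).2.symm
        have hm := hD.invol.2.2
        simp only [CData.small, List.mem_flatMap, List.mem_map] at hm
        obtain ⟨p, hp, q, hq, r, hr, e⟩ := hm
        have hcp : ∀ p ∈ [1, D.t, D.t * D.t], Commute (κ p) w := fun p hp => by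
          simp only [List.mem_cons, List.not_mem_nil, or_false] at hp
          rcases hp with rfl | rfl | rfl
          · rw [map_one]; exact Commute.one_left w
          · exact c1
          · rw [map_mul]; exact c1.mul_left c1
        have hcq : Commute (κ q) w := by
          simp only [List.mem_cons, List.not_mem_nil, or_false] at hq
          rcases hq with rfl | rfl | rfl
          · rw [map_one]; exact Commute.one_left w
          · exact c2
          · rw [map_mul]; exact c2.mul_left c2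
        rw [← e, map_mul, map_mul]
        exact (((hcp p hp).mul_left hcq).mul_left (hcp r hr)).eq
      · rw [← map_pow, show 128 = 2 * 64 from rfl, pow_mul, pow_two, hD.invol.1, one_pow, map_one]
    rw [hE.Rt] at hu0
    exact hD.invol.2.1 (hE.free _ hu0)
  have hsmall : ∀ s ∈ D.small, κ s * e₀ = e₀ * κ s := by
    intro s hs
    have c1 : Commute y e₀ := ((mem_V H hyo).1 he1).2.symm
    have c2 : Commute y' e₀ := ((mem_V H hy'o).1 he2).2.symm
    simp only [CData.small, List.mem_flatMap, List.mem_map] at hs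
    obtain ⟨p, hp, q, hq, r, hr, rfl⟩ := hs
    have hcp : ∀ p ∈ [1, D.t, D.t * D.t], Commute (κ p) e₀ := fun p hp => by
      simp only [List.mem_cons, List.not_mem_nil, or_false] at hp
      rcases hp with rfl | rfl | rfl
      · rw [map_one]; exact Commute.one_left e₀
      · exact c1
      · rw [map_mul]; exact c1.mul_left c1
    have hcq : Commute (κ q) e₀ := by
      simp only [List.mem_cons, List.not_mem_nil, or_false] at hq
      rcases hq with rfl | rfl | rfl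
      · rw [map_one]; exact Commute.one_left e₀
      · exact c2
      · rw [map_mul]; exact c2.mul_left c2
    rw [map_mul, map_mul]
    exact (((hcp p hp).mul_left hcq).mul_left (hcp r hr)).eq
  have hgens : ∀ k ∈ D.gv, κ k * e₀ = e₀ * κ k := by
    intro k hk
    obtain ⟨h1, h2⟩ := hD.gens_ok k hk
    have hval : ∀ {s : A6}, k⁻¹ * s * k ∈ D.small →
        κ k * e₀ * (κ k)⁻¹ * κ s = κ s * (κ k * e₀ * (κ k)⁻¹) := fun {s} hs => by
      have e := hsmall _ hs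
      rw [map_mul, map_mul, map_inv] at e
      calc κ k * e₀ * (κ k)⁻¹ * κ s = κ k * (e₀ * ((κ k)⁻¹ * κ s * κ k)) * (κ k)⁻¹ := by group
        _ = κ s * (κ k * e₀ * (κ k)⁻¹) := by rw [← e]; group
    have hsq : κ k * e₀ * (κ k)⁻¹ * (κ k * e₀ * (κ k)⁻¹) = 1 := by
      rw [show κ k * e₀ * (κ k)⁻¹ * (κ k * e₀ * (κ k)⁻¹) = κ k * (e₀ * e₀) * (κ k)⁻¹ by group,
        ((mem_V H hyo).1 he1).1]
      group
    have := huniq _ ((mem_V H hyo).2 ⟨hsq, hval h1⟩) ((mem_V H hy'o).2 ⟨hsq, hval h2⟩)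
      fun e => hne (conj_eq_one_iff.1 e)
    exact mul_inv_eq_iff_eq_mul.1 this
  have hstab : ∀ τ ∈ D.hs, κ τ * e₀ = e₀ * κ τ := by
    intro τ hτ
    simp only [CData.hs, List.mem_map] at hτ
    obtain ⟨w, -, rfl⟩ := hτ
    induction w with
    | nil => simp
    | cons k w ih =>
      rw [List.map_cons, List.prod_cons, map_mul]
      refine ((show Commute (κ (D.gv.getD k 1)) e₀ from ?_).mul_left ih).eq
      by_cases hk : k < D.gv.length
      · rw [List.getD_eq_getElem _ _ hk]; exact hgens _ (List.getElem_mem hk)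
      · rw [List.getD_eq_default _ _ (by omega), map_one]; exact Commute.one_left e₀
  have he0E : e₀ ∈ E := hVE he1
  have h15 : Nat.card {v : ↥E // v ≠ 1} = 15 := by
    have := Fintype.ofFinite ↥E
    rw [Nat.card_eq_fintype_card, Fintype.card_subtype_compl, Fintype.card_subtype_eq,
      ← Nat.card_eq_fintype_card, hE.card]
  let f : Fin 15 → {v : ↥E // v ≠ 1} := fun i =>
    ⟨⟨κ (D.rep i) * e₀ * (κ (D.rep i))⁻¹, hE.conj_mem _ e₀ he0E⟩, fun e =>
      hne (conj_eq_one_iff.1 (congrArg Subtype.val e))⟩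
  have hconj : ∀ σ (i : Fin 15), (D.rep i)⁻¹ * σ ∈ D.hs →
      κ σ * e₀ * (κ σ)⁻¹ = κ (D.rep i) * e₀ * (κ (D.rep i))⁻¹ := fun σ i h => by
    have e := hstab _ h
    rw [map_mul, map_inv] at e
    calc κ σ * e₀ * (κ σ)⁻¹ = κ (D.rep i) * (((κ (D.rep i))⁻¹ * κ σ) * e₀) * (κ σ)⁻¹ := by group
      _ = κ (D.rep i) * e₀ * (κ (D.rep i))⁻¹ := by rw [e]; group
  have hsur : Function.Surjective f := by
    rintro ⟨⟨v, hv⟩, hv1⟩
    obtain ⟨σ, hσ⟩ := hE.trans e₀ he0E v hv hne fun e => hv1 (Subtype.ext e)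
    obtain ⟨i, hi⟩ := hD.cover σ
    exact ⟨i, Subtype.ext (Subtype.ext ((hconj σ i hi).symm.trans hσ))⟩
  have hinjf := ((Nat.bijective_iff_surjective_and_card f).2 ⟨hsur, by rw [Nat.card_fin, h15]⟩).1
  refine ⟨e₀, he0E, hne, hstab, fun σ hσ => ?_, fun v hv hv1 => ?_⟩
  · obtain ⟨i, hi⟩ := hD.cover σ
    have h0 : i = ⟨0, by norm_num⟩ := hinjf (Subtype.ext (Subtype.ext (by
      show κ (D.rep i) * e₀ * (κ (D.rep i))⁻¹ = κ (D.rep 0) * e₀ * (κ (D.rep 0))⁻¹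
      rw [← hconj σ i hi, hσ, mul_inv_cancel_right, hD.rep_zero, map_one]
      group)))
    subst h0
    simpa [hD.rep_zero] using hi
  · obtain ⟨i, hi⟩ := hsur ⟨⟨v, hv⟩, fun e => hv1 (congrArg Subtype.val e)⟩
    exact ⟨i, congrArg (fun p => ((p.1 : ↥E) : G)) hi⟩

omit H

/-- a product of two points -/
theorem Half.point_prod {D : CData} {κ : A6 →* G} {E : Subgroup G} (hE : Half D κ E) {e₀ : G}
    (he : e₀ ∈ E) (he1 : e₀ ≠ 1) (hfix : ∀ τ ∈ D.hs, κ τ * e₀ = e₀ * κ τ)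
    (hstab : ∀ σ, κ σ * e₀ = e₀ * κ σ → σ ∈ D.hs)
    (hall : ∀ v ∈ E, v ≠ 1 → ∃ i : Fin 15, κ (D.rep i) * e₀ * (κ (D.rep i))⁻¹ = v)
    {w₁ w₂ : List ℕ} (h : D.ProdOK w₁ w₂) :
    e₀ * (κ (wv w₁) * e₀ * (κ (wv w₁))⁻¹) * (κ (wv w₂) * e₀ * (κ (wv w₂))⁻¹) = 1 := by
  obtain ⟨h1, h2⟩ := h
  set r₁ := wv w₁
  have hf1 : κ r₁ * e₀ * (κ r₁)⁻¹ ∈ E := hE.conj_mem _ e₀ he
  set v := e₀ * (κ r₁ * e₀ * (κ r₁)⁻¹) with hv
  have hv1 : v ≠ 1 := fun e => h1 (hstab _ (mul_inv_eq_iff_eq_mul.1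
    ((eq_inv_of_mul_eq_one_right e).trans (inv_eq_of_mul_eq_one_right (hE.sq e₀ he)))))
  obtain ⟨i, hi⟩ := hall v (mul_mem he hf1) hv1
  have key : ∀ r : A6, r⁻¹ * D.rep i ∈ D.hs → v = κ r * e₀ * (κ r)⁻¹ := fun r hr => by
    have e := hfix _ hr
    rw [map_mul, map_inv] at e
    rw [← hi]
    calc κ (D.rep i) * e₀ * (κ (D.rep i))⁻¹ = κ r * ((κ r)⁻¹ * κ (D.rep i) * e₀) * (κ (D.rep i))⁻¹ := by group
      _ = κ r * e₀ * (κ r)⁻¹ := by rw [e]; group
  have hcond : ∀ τ ∈ D.hs, r₁⁻¹ * τ * r₁ ∈ D.hs → (D.rep i)⁻¹ * τ * D.rep i ∈ D.hs := by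
    intro τ hτ hτ'
    refine hstab _ ?_
    have e1 : Commute (κ τ) e₀ := hfix τ hτ
    have e2 : Commute (κ τ) (κ r₁ * e₀ * (κ r₁)⁻¹) := by
      have e := hfix _ hτ'
      rw [map_mul, map_mul, map_inv] at e
      show κ τ * (κ r₁ * e₀ * (κ r₁)⁻¹) = κ r₁ * e₀ * (κ r₁)⁻¹ * κ τ
      calc κ τ * (κ r₁ * e₀ * (κ r₁)⁻¹) = κ r₁ * (((κ r₁)⁻¹ * κ τ * κ r₁) * e₀) * (κ r₁)⁻¹ := by group
        _ = κ r₁ * e₀ * (κ r₁)⁻¹ * κ τ := by rw [e]; group
    have e3 : κ τ * v = v * κ τ := (e1.mul_right e2).eq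
    rw [← hi] at e3
    rw [map_mul, map_mul, map_inv]
    calc (κ (D.rep i))⁻¹ * κ τ * κ (D.rep i) * e₀
        = (κ (D.rep i))⁻¹ * (κ τ * (κ (D.rep i) * e₀ * (κ (D.rep i))⁻¹)) * κ (D.rep i) := by group
      _ = e₀ * ((κ (D.rep i))⁻¹ * κ τ * κ (D.rep i)) := by rw [e3]; group
  rcases h2 i hcond with hc | hc | hc
  · exfalso
    have := key 1 (by simpa using hc)
    rw [map_one, inv_one, one_mul, mul_one, hv] at this
    exact he1 (conj_eq_one_iff.1 (mul_eq_left.1 this))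
  · exfalso
    exact he1 (mul_eq_right.1 (hv ▸ key r₁ hc))
  · rw [← key (wv w₂) hc]
    exact hE.sq v (mul_mem he hf1)

end Cfsg.Lib.M22Nse
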