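import Cfsg.Agent.M22Nse.Fields

/-!
The centralisers of the elements of orders two and three.
-/

set_option autoImplicit false
set_option linter.unusedSectionVars false
set_option linter.style.haveILetI false

namespace Cfsg.Lib.M22Nse

open Subgroup Cfsg.Lib.SameOrder

universe u

variable {G : Type u} [Group G] [Finite G] (H : Fields G)

local instance fact_two_local : Fact (Nat.Prime 2) := ⟨Nat.prime_two⟩
local instance fact_three_local : Fact (Nat.Prime 3) := ⟨Nat.prime_three⟩

theorem orderOf_mul_coprime {a b : G} {m n : ℕ} (h : a * b = b * a) (ha : orderOf a = m) (hb : orderOf b = n)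
    (hc : Nat.Coprime m n) : orderOf (a * b) = m * n := by
  rw [(show Commute a b from h).orderOf_mul_eq_mul_orderOf_of_coprime (by rw [ha, hb]; exact hc), ha, hb]

theorem mul_self_one {t : G} (h : orderOf t = 2) : t * t = 1 := by
  rw [← pow_two, ← h, pow_orderOf_eq_one]

theorem cube_one {x : G} (h : orderOf x = 3) : x ^ 3 = 1 := by rw [← h, pow_orderOf_eq_one]

/-- elements of order six against pairs of commuting elements of orders three and two -/
def sixEquiv : {g : G // orderOf g = 6} ≃ Σ x : {x : G // orderOf x = 3}, {t : G // orderOf t = 2 ∧ t * x.1 = x.1 * t} where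
  toFun g := ⟨⟨g.1 ^ 4, by rw [orderOf_pow' _ (by norm_num), g.2]; decide⟩,
    ⟨g.1 ^ 3, by rw [orderOf_pow' _ (by norm_num), g.2]; decide, (Commute.pow_pow_self g.1 3 4).eq⟩⟩
  invFun p := ⟨p.1.1 * p.2.1, orderOf_mul_coprime p.2.2.2.symm p.1.2 p.2.2.1 (by norm_num)⟩
  left_inv g := Subtype.ext (by
    show g.1 ^ 4 * g.1 ^ 3 = g.1
    have h6 := pow_orderOf_eq_one g.1
    rw [g.2] at h6
    rw [← pow_add, show 4 + 3 = 6 + 1 from rfl, pow_succ, h6, one_mul])
  right_inv p := by
    obtain ⟨⟨x, hx⟩, ⟨t, ht, hc⟩⟩ := p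
    have h4 : (x * t) ^ 4 = x := by
      rw [(show Commute x t from hc.symm).mul_pow, show 4 = 3 + 1 from rfl, pow_succ x, cube_one hx, one_mul,
        show 3 + 1 = 2 * 2 from rfl, pow_mul, pow_two t, mul_self_one ht, one_pow, mul_one]
    refine Sigma.subtype_ext (Subtype.ext h4) ?_
    show (x * t) ^ 3 = t
    rw [(show Commute x t from hc.symm).mul_pow, cube_one hx, one_mul, show 3 = 2 + 1 from rfl, pow_succ,
      pow_two, mul_self_one ht, one_mul]

/-- elements of order six against pairs of commuting elements of orders two and three -/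
def sixEquiv' : {g : G // orderOf g = 6} ≃ Σ t : {t : G // orderOf t = 2}, {x : G // orderOf x = 3 ∧ x * t.1 = t.1 * x} where
  toFun g := ⟨⟨g.1 ^ 3, by rw [orderOf_pow' _ (by norm_num), g.2]; decide⟩,
    ⟨g.1 ^ 4, by rw [orderOf_pow' _ (by norm_num), g.2]; decide, (Commute.pow_pow_self g.1 4 3).eq⟩⟩
  invFun p := ⟨p.2.1 * p.1.1, orderOf_mul_coprime p.2.2.2 p.2.2.1 p.1.2 (by norm_num)⟩
  left_inv g := Subtype.ext (by
    show g.1 ^ 4 * g.1 ^ 3 = g.1
    have h6 := pow_orderOf_eq_one g.1
    rw [g.2] at h6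
    rw [← pow_add, show 4 + 3 = 6 + 1 from rfl, pow_succ, h6, one_mul])
  right_inv p := by
    obtain ⟨⟨t, ht⟩, ⟨x, hx, hc⟩⟩ := p
    have h3 : (x * t) ^ 3 = t := by
      rw [(show Commute x t from hc).mul_pow, cube_one hx, one_mul, show 3 = 2 + 1 from rfl, pow_succ,
        pow_two, mul_self_one ht, one_mul]
    refine Sigma.subtype_ext (Subtype.ext h3) ?_
    show (x * t) ^ 4 = x
    rw [(show Commute x t from hc).mul_pow, show 4 = 3 + 1 from rfl, pow_succ x, cube_one hx, one_mul,
      show 3 + 1 = 2 * 2 from rfl, pow_mul, pow_two t, mul_self_one ht, one_pow, mul_one]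

theorem card_class_le {n : ℕ} {v : G} (hv : orderOf v = n) :
    Nat.card G ≤ cnt G n * Nat.card ↥(centralizer ({v} : Set G)) := by
  rw [← M12Nse.card_isConj_mul v]
  exact Nat.mul_le_mul_right _ (Nat.card_le_card_of_injective
    (fun x : {x : G // IsConj v x} => (⟨x.1, (M12Nse.conj_orderOf x.2).trans hv⟩ : {g : G // orderOf g = n}))
    fun a b h => Subtype.ext (congrArg (fun y : {g : G // orderOf g = n} => y.1) h))

include H

theorem order_mem (g : G) : orderOf g ∈ ([1, 2, 3, 4, 5, 6, 7, 8, 11, 16, 32, 64, 128] : List ℕ) := H.orders g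

theorem prime_dvd_card {q : ℕ} (hq : q.Prime) (h : q ∣ Nat.card G) : q ∈ ([2, 3, 5, 7, 11] : List ℕ) := by
  haveI := Fact.mk hq
  obtain ⟨g, hg⟩ := exists_prime_orderOf_dvd_card' (G := G) q h
  have := order_mem H g
  rw [hg] at this
  simp only [List.mem_cons, List.not_mem_nil, or_false] at this ⊢
  rcases this with rfl | rfl | rfl | rfl | rfl | rfl | rfl | rfl | rfl | rfl | rfl | rfl | rfl <;> first | omega | (norm_num at hq)

/-- the prime divisors of a centraliser of an element of order two or three -/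
theorem cent_shape {v : G} (hv : orderOf v = 2 ∨ orderOf v = 3) :
    ∃ a b, Nat.card ↥(centralizer ({v} : Set G)) = 2 ^ a * 3 ^ b ∧ a ≤ 7 ∧ b ≤ 2 := by
  set C := centralizer ({v} : Set G)
  have hdG : Nat.card ↥C ∣ 443520 := H.card ▸ Subgroup.card_subgroup_dvd_card C
  have hnot : ∀ q ∈ [5, 7, 11], ¬ q ∣ Nat.card ↥C := by
    intro q hq hd
    have hqp : q.Prime := by
      simp only [List.mem_cons, List.not_mem_nil, or_false] at hq; rcases hq with rfl | rfl | rfl <;> norm_num
    haveI := Fact.mk hqp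
    obtain ⟨⟨w, hw⟩, hwo⟩ := exists_prime_orderOf_dvd_card' (G := ↥C) q hd
    rw [← Subgroup.orderOf_coe] at hwo
    change orderOf w = q at hwo
    have hc := (mem_centralizer_singleton_iff.1 hw)
    simp only [List.mem_cons, List.not_mem_nil, or_false] at hq
    have hmem := order_mem H (v * w)
    rcases hv with hv | hv <;> rcases hq with rfl | rfl | rfl <;>
      rw [orderOf_mul_coprime hc.symm hv hwo (by norm_num)] at hmem <;> simp at hmem
  have hall : ∀ d ∈ Nat.divisors 443520, ¬ 5 ∣ d → ¬ 7 ∣ d → ¬ 11 ∣ d →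
      ∃ a : Fin 8, ∃ b : Fin 3, d = 2 ^ a.val * 3 ^ b.val := by
    intro d hd h5 h7 h11
    have h1 : d ∣ 1152 * 385 := (Nat.mem_divisors.1 hd).1
    have hcop : Nat.Coprime d (5 * 7 * 11) := Nat.Coprime.mul_right (Nat.Coprime.mul_right
      ((Nat.Prime.coprime_iff_not_dvd (by norm_num)).2 h5).symm ((Nat.Prime.coprime_iff_not_dvd (by norm_num)).2 h7).symm)
      ((Nat.Prime.coprime_iff_not_dvd (by norm_num)).2 h11).symm
    have h2 : d ∈ Nat.divisors 1152 :=
      Nat.mem_divisors.2 ⟨hcop.dvd_of_dvd_mul_right (by simpa using h1), by norm_num⟩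
    revert h2
    have : ∀ e ∈ Nat.divisors 1152, ∃ a : Fin 8, ∃ b : Fin 3, e = 2 ^ a.val * 3 ^ b.val := by decide +kernel
    exact this d
  obtain ⟨a, b, h⟩ := hall _ (Nat.mem_divisors.2 ⟨hdG, by norm_num⟩) (hnot 5 (by simp)) (hnot 7 (by simp))
    (hnot 11 (by simp))
  exact ⟨a, b, h, by omega, by omega⟩

theorem card_sylow_three (S : Sylow 3 G) : Nat.card ↥(S : Subgroup G) = 9 := by
  simpa using Cfsg.Lib.Small.card_sylow_of_factor S (a := 2) (m := 49280) (by rw [H.card]; norm_num) (by norm_num)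

theorem sylow_three_elem (S : Sylow 3 G) {a : G} (ha : a ∈ (S : Subgroup G)) (ha1 : a ≠ 1) : orderOf a = 3 := by
  have h9 : orderOf a ∣ 9 := card_sylow_three H S ▸ Subgroup.orderOf_dvd_natCard _ ha
  have hne : orderOf a ≠ 1 := fun e => ha1 (orderOf_eq_one_iff.1 e)
  have hm := order_mem H a
  have : ∀ j ∈ Nat.divisors 9, j = 1 ∨ j = 3 ∨ j = 9 := by decide +kernel
  rcases this _ (Nat.mem_divisors.2 ⟨h9, by norm_num⟩) with e | e | e
  · exact absurd e hne
  · exact e
  · rw [e] at hm; simp at hm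

theorem sylow_three_comm (S : Sylow 3 G) {a b : G} (ha : a ∈ (S : Subgroup G)) (hb : b ∈ (S : Subgroup G)) :
    a * b = b * a := by
  have := IsPGroup.isMulCommutative_of_card_eq_prime_sq (p := 3) (G := ↥(S : Subgroup G)) (by rw [card_sylow_three H S]; norm_num)
  exact congrArg Subtype.val (this.is_comm.comm ⟨a, ha⟩ ⟨b, hb⟩)

theorem exists_sylow_mem {x : G} (hx : orderOf x = 3) : ∃ S : Sylow 3 G, x ∈ (S : Subgroup G) := by
  obtain ⟨S, hS⟩ := IsPGroup.exists_le_sylow
    (IsPGroup.of_card (p := 3) (n := 1) (by rw [Nat.card_zpowers, hx, pow_one]) : IsPGroup 3 ↥(zpowers x))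
  exact ⟨S, hS (mem_zpowers x)⟩

theorem nine_dvd_cent {x : G} (hx : orderOf x = 3) : 9 ∣ Nat.card ↥(centralizer ({x} : Set G)) := by
  obtain ⟨S, hS⟩ := exists_sylow_mem H hx
  exact card_sylow_three H S ▸ Subgroup.card_dvd_of_le fun a ha =>
    mem_centralizer_singleton_iff.2 (sylow_three_comm H S ha hS)

/-- the centraliser of an element of order three -/
theorem cent_three {x : G} (hx : orderOf x = 3) :
    Nat.card ↥(centralizer ({x} : Set G)) = 36 ∧ Nat.card {t : G // orderOf t = 2 ∧ t * x = x * t} = 3 := by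
  classical
  have := Fintype.ofFinite G
  have key : ∀ y : {y : G // orderOf y = 3}, ∃ a, 2 ≤ a ∧ Nat.card ↥(centralizer ({y.1} : Set G)) = 2 ^ a * 9 ∧
      2 ^ a ≤ Nat.card {t : G // orderOf t = 2 ∧ t * y.1 = y.1 * t} + 1 := by
    rintro ⟨y, hy⟩
    obtain ⟨a, b, hC, -, hb⟩ := cent_shape H (Or.inr hy)
    have h9 := nine_dvd_cent H hy
    rw [hC] at h9
    have hb2 : b = 2 := by
      have hc : Nat.Coprime 9 (2 ^ a) := Nat.Coprime.pow_right a (by norm_num)
      have := Nat.le_of_dvd (by positivity) (hc.dvd_of_dvd_mul_left h9)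
      interval_cases b <;> simp_all
    subst hb2
    have hle := card_class_le hy
    rw [H.card, H.three, hC] at hle
    refine ⟨a, ?_, by rw [hC]; norm_num, ?_⟩
    · by_contra! ha
      interval_cases a <;> omega
    obtain ⟨T, hT⟩ := Sylow.exists_subgroup_card_pow_prime (G := ↥(centralizer ({y} : Set G))) 2 (n := a)
      (by rw [hC]; exact dvd_mul_right _ _)
    set T' := T.map (centralizer ({y} : Set G)).subtype with hT'
    have hTc : Nat.card ↥T' = 2 ^ a := by
      rw [hT', Subgroup.card_map_of_injective (centralizer ({y} : Set G)).subtype_injective, hT]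
    have hsub : (T' : Set G) ⊆ insert 1 {t : G | orderOf t = 2 ∧ t * y = y * t} := by
      rintro t ht
      by_cases h1 : t = 1
      · exact Or.inl h1
      obtain ⟨c, hcT, rfl⟩ := ht
      have hc := mem_centralizer_singleton_iff.1 c.2
      obtain ⟨k, -, hk⟩ := (Nat.dvd_prime_pow Nat.prime_two).1 (hTc ▸ Subgroup.orderOf_dvd_natCard T' ⟨c, hcT, rfl⟩)
      refine Or.inr ⟨?_, hc⟩
      have hk0 : k ≠ 0 := fun e => h1 (orderOf_eq_one_iff.1 (by rw [hk, e, pow_zero]))
      have hm := order_mem H (y * (c : G))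
      rw [orderOf_mul_coprime hc.symm hy hk (Nat.Coprime.pow_right k (by norm_num))] at hm
      simp only [List.mem_cons, List.not_mem_nil, or_false] at hm
      rcases k with _ | _ | k
      · exact absurd rfl hk0
      · simpa using hk
      · exfalso
        have : 4 ≤ 2 ^ (k + 2) := by
          rw [pow_add]; have := Nat.one_le_two_pow (n := k); omega
        omega
    have hc := (Set.ncard_le_ncard hsub (Set.toFinite _)).trans (Set.ncard_insert_le _ _)
    rw [← Nat.card_coe_set_eq, ← Nat.card_coe_set_eq, show Nat.card ↥(T' : Set G) = 2 ^ a from hTc] at hc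
    exact hc
  set f : {y : G // orderOf y = 3} → ℕ := fun y => Nat.card {t : G // orderOf t = 2 ∧ t * y.1 = y.1 * t} with hf
  have hsum : ∑ y, f y = 36960 := by
    rw [← H.six, cnt, Nat.card_congr sixEquiv, Nat.card_sigma]
  have h3 : ∀ y, 3 ≤ f y := fun y => by
    obtain ⟨a, ha, -, hle⟩ := key y
    have : 4 ≤ 2 ^ a := le_trans (by norm_num) (Nat.pow_le_pow_right (n := 2) (by norm_num) ha)
    simp only [hf]; omega
  have hall : ∀ y, 3 = f y := by
    have hc : (Finset.univ : Finset {y : G // orderOf y = 3}).card = 12320 := by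
      rw [Finset.card_univ, ← Nat.card_eq_fintype_card]; exact H.three
    have := (Finset.sum_eq_sum_iff_of_le (s := Finset.univ) (f := fun _ => 3) (g := f) fun y _ => h3 y).1
      (by rw [hsum, Finset.sum_const, hc]; rfl)
    exact fun y => this y (Finset.mem_univ y)
  obtain ⟨a, ha, hC, hle⟩ := key ⟨x, hx⟩
  have h3x : (3 : ℕ) = Nat.card {t : G // orderOf t = 2 ∧ t * x = x * t} := hall ⟨x, hx⟩
  refine ⟨?_, h3x.symm⟩
  rw [← h3x] at hle
  have : a = 2 := by
    by_contra hne
    have : 8 ≤ 2 ^ a := le_trans (by norm_num) (Nat.pow_le_pow_right (n := 2) (by norm_num) (show 3 ≤ a by omega))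
    omega
  subst this
  exact hC

theorem conj_three {x y : G} (hx : orderOf x = 3) (hy : orderOf y = 3) : IsConj x y := by
  by_contra hn
  have h := M12Nse.card_isConj_mul x
  rw [H.card, (cent_three H hx).1] at h
  have hlt : Nat.card {z : G // IsConj x z} < cnt G 3 := by
    rw [cnt, ← Set.coe_setOf, ← Set.coe_setOf, Nat.card_coe_set_eq, Nat.card_coe_set_eq]
    exact Set.ncard_lt_ncard ⟨fun z hz => (M12Nse.conj_orderOf hz).trans hx, fun hsub => hn (hsub hy)⟩ (Set.toFinite _)
  rw [H.three] at hlt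
  omega

end Cfsg.Lib.M22Nse
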