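import Cfsg.Agent.M22Nse.Local1

/-!
Involutions, and the normaliser of a Sylow 3-subgroup.
-/

set_option autoImplicit false
set_option linter.unusedSectionVars false
set_option linter.style.haveILetI false

namespace Cfsg.Lib.M22Nse

open Subgroup Cfsg.Lib.SameOrder

universe u

variable {G : Type u} [Group G] [Finite G] (H : Fields G)

local instance fact_two_local2 : Fact (Nat.Prime 2) := ⟨Nat.prime_two⟩
local instance fact_three_local2 : Fact (Nat.Prime 3) := ⟨Nat.prime_three⟩

/-- the four-group attached to an element of order three -/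
def V (x : G) : Subgroup G := closure {a : G | a * a = 1 ∧ a * x = x * a}

theorem orderOf_eq_two {a : G} (h : a * a = 1) (h1 : a ≠ 1) : orderOf a = 2 :=
  orderOf_eq_prime (by rw [pow_two, h]) h1

include H

theorem eq_one_of_sylow (S : Sylow 3 G) {a : G} (ha : a ∈ (S : Subgroup G)) (h : a * a = 1) : a = 1 := by
  by_contra h1
  have := sylow_three_elem H S ha h1
  rw [orderOf_eq_two h h1] at this
  omega

/-- a Sylow 3-subgroup centralised by an involution is determined by any of its nontrivial elements -/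
theorem sylow_ti (S S' : Sylow 3 G) {x t : G} (hx : orderOf x = 3) (hxS : x ∈ (S : Subgroup G))
    (hxS' : x ∈ (S' : Subgroup G)) (ht : orderOf t = 2) (htS : ∀ a ∈ (S : Subgroup G), a * t = t * a) : S = S' := by
  set C := centralizer ({x} : Set G)
  have hS : (S : Subgroup G) ≤ C := fun a ha => mem_centralizer_singleton_iff.2 (sylow_three_comm H S ha hxS)
  have hS' : (S' : Subgroup G) ≤ C := fun a ha => mem_centralizer_singleton_iff.2 (sylow_three_comm H S' ha hxS')
  set P : Sylow 3 ↥C := S.subtype hS with hP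
  have hN : (normalizer (P : Set ↥C)).index * Nat.card ↥(normalizer (P : Set ↥C)) = 36 :=
    ((mul_comm _ _).trans (Subgroup.card_mul_index _)).trans (cent_three H hx).1
  have h9 : 9 ∣ Nat.card ↥(normalizer (P : Set ↥C)) := by
    have : Nat.card ↥(P : Subgroup ↥C) = 9 := by
      rw [hP, Sylow.coe_subtype, Nat.card_congr (Subgroup.subgroupOfEquivOfLe hS).toEquiv, card_sylow_three H S]
    exact this ▸ Subgroup.card_dvd_of_le le_normalizer
  have h2 : 2 ∣ Nat.card ↥(normalizer (P : Set ↥C)) := by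
    have htc : t ∈ C := mem_centralizer_singleton_iff.2 (htS x hxS).symm
    rw [← show orderOf (⟨t, htc⟩ : ↥C) = 2 by rw [orderOf_mk, ht]]
    refine Subgroup.orderOf_dvd_natCard _ ?_
    show _ ∈ normalizer ((P : Subgroup ↥C) : Set ↥C)
    rw [mem_normalizer_iff]
    rintro ⟨a, haC⟩
    simp only [hP, Sylow.coe_subtype, mem_subgroupOf]
    show a ∈ (S : Subgroup G) ↔ t * a * t⁻¹ ∈ (S : Subgroup G)
    constructor
    · intro ha
      rw [← htS a ha, mul_inv_cancel_right]
      exact ha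
    · intro ha
      have := htS _ ha
      rw [show t * a * t⁻¹ * t = t * a by group] at this
      have he : a = t * a * t⁻¹ := mul_left_cancel this
      rwa [he]
  haveI : Subsingleton (Sylow 3 ↥C) := by
    refine (Nat.card_eq_one_iff_unique.1 ?_).1
    have hmod : Nat.card (Sylow 3 ↥C) % 3 = 1 := by
      have := card_sylow_modEq_one 3 ↥C; rw [Nat.ModEq] at this; simpa using this
    rw [Sylow.card_eq_index_normalizer P] at hmod ⊢
    obtain ⟨k, hk⟩ := Nat.Coprime.mul_dvd_of_dvd_of_dvd (by norm_num : Nat.Coprime 9 2) h9 h2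
    rw [hk] at hN
    have : (normalizer (P : Set ↥C)).index ∣ 2 := ⟨k, by nlinarith⟩
    rcases (Nat.dvd_prime Nat.prime_two).1 this with e | e
    · exact e
    · rw [e] at hmod; simp at hmod
  exact Sylow.subtype_injective (Subsingleton.elim P (S'.subtype hS'))

theorem not_nine_dvd_cent {t : G} (ht : orderOf t = 2) : ¬ 9 ∣ Nat.card ↥(centralizer ({t} : Set G)) := by
  classical
  intro h9
  set C := centralizer ({t} : Set G)
  obtain ⟨a, b, hC, ha7, hb⟩ := cent_shape H (Or.inl ht)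
  have hb2 : b = 2 := by
    rw [hC] at h9
    have := Nat.le_of_dvd (by positivity)
      ((Nat.Coprime.pow_right a (by norm_num : Nat.Coprime 9 2)).dvd_of_dvd_mul_left h9)
    interval_cases b <;> simp_all
  subst hb2
  have hle := card_class_le ht
  rw [H.card, H.two, hC] at hle
  have ha6 : 6 ≤ a := by
    by_contra! ha; interval_cases a <;> omega
  have hcard : ∀ P : Sylow 3 ↥C, Nat.card ↥((P : Subgroup ↥C).map C.subtype) = 9 := fun P => by
    rw [Subgroup.card_map_of_injective C.subtype_injective,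
      Cfsg.Lib.Small.card_sylow_of_factor P (a := 2) (m := 2 ^ a) (by rw [hC]; ring)
        (fun h => absurd (Nat.Prime.dvd_of_dvd_pow Nat.prime_three h) (by norm_num))]
    norm_num
  have hsyl : ∀ P : Sylow 3 ↥C, ∃ S : Sylow 3 G, (P : Subgroup ↥C).map C.subtype = (S : Subgroup G) := fun P => by
    obtain ⟨S, hS⟩ := (P.isPGroup'.map C.subtype).exists_le_sylow
    exact ⟨S, Subgroup.eq_of_le_of_card_ge hS (le_of_eq (by rw [card_sylow_three H S, hcard P]))⟩
  choose σ hσ using hsyl
  have hcent : ∀ P, ∀ y ∈ ((σ P : Sylow 3 G) : Subgroup G), y * t = t * y := fun P y hy => by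
    rw [← hσ P] at hy; obtain ⟨c, -, rfl⟩ := hy; exact mem_centralizer_singleton_iff.1 c.2
  have hinj : ∀ P P' : Sylow 3 ↥C, σ P = σ P' → P = P' := fun P P' h =>
    Sylow.ext (Subgroup.map_injective C.subtype_injective (by rw [hσ, hσ, h]))
  have hti : ∀ P P' : Sylow 3 ↥C, ∀ y : ↥C, y ≠ 1 → y ∈ (P : Subgroup ↥C) → y ∈ (P' : Subgroup ↥C) → P = P' :=
    fun P P' y hy1 hy hy' => by
      have h1 : (y : G) ∈ ((σ P : Sylow 3 G) : Subgroup G) := hσ P ▸ mem_map_of_mem C.subtype hy
      have h2 : (y : G) ∈ ((σ P' : Sylow 3 G) : Subgroup G) := hσ P' ▸ mem_map_of_mem C.subtype hy'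
      exact hinj _ _ (sylow_ti H _ _ (sylow_three_elem H _ h1 fun e => hy1 (Subtype.ext e)) h1 h2 ht (hcent P))
  have hord : ∀ (P : Sylow 3 ↥C) (y : ↥C), y ∈ (P : Subgroup ↥C) → y ≠ 1 → orderOf (y : G) = 3 := fun P y hy hy1 =>
    sylow_three_elem H (σ P) (hσ P ▸ mem_map_of_mem C.subtype hy) fun e => hy1 (Subtype.ext e)
  obtain ⟨P⟩ : Nonempty (Sylow 3 ↥C) := inferInstance
  -- the number of Sylow 3-subgroups
  have hn : Nat.card (Sylow 3 ↥C) = 1 ∨ Nat.card (Sylow 3 ↥C) = 4 := by
    have hdvd : Nat.card (Sylow 3 ↥C) ∣ 2 ^ a := by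
      have hi : (P : Subgroup ↥C).index = 2 ^ a := by
        have := Subgroup.card_mul_index (P : Subgroup ↥C)
        rw [← Subgroup.card_map_of_injective C.subtype_injective, hcard P, hC] at this
        omega
      exact hi ▸ P.card_dvd_index
    have hmod : Nat.card (Sylow 3 ↥C) % 3 = 1 := by
      have := card_sylow_modEq_one 3 ↥C; rw [Nat.ModEq] at this; simpa using this
    have hbound : Nat.card (Sylow 3 ↥C) ≤ 12 := by
      have hfib : ∀ y : {y : G // IsConj t y},
          8 * Nat.card (Sylow 3 ↥C) ≤ Nat.card {x : G // orderOf x = 3 ∧ x * y.1 = y.1 * x} := by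
        rintro ⟨y, hy⟩
        obtain ⟨g, rfl⟩ := isConj_iff.1 hy
        let f : (Σ Q : Sylow 3 ↥C, {z : ↥(Q : Subgroup ↥C) // z ≠ 1}) →
            {x : G // orderOf x = 3 ∧ x * (g * t * g⁻¹) = g * t * g⁻¹ * x} := fun p =>
          ⟨g * (p.2.1.1.1) * g⁻¹, by
            rw [show g * (p.2.1.1.1 : G) * g⁻¹ = MulAut.conj g p.2.1.1.1 from rfl, MulEquiv.orderOf_eq]
            exact hord p.1 _ p.2.1.2 fun e => p.2.2 (Subtype.ext e), by
            have hc : (p.2.1.1.1 : G) * t = t * p.2.1.1.1 := mem_centralizer_singleton_iff.1 p.2.1.1.2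
            rw [show g * (p.2.1.1.1 : G) * g⁻¹ * (g * t * g⁻¹) = g * ((p.2.1.1.1 : G) * t) * g⁻¹ by group, hc]
            group⟩
        have hf : Function.Injective f := by
          rintro ⟨Q, ⟨z, hz⟩, hz1⟩ ⟨Q', ⟨z', hz'⟩, hz1'⟩ h
          have he : z = z' := Subtype.ext (mul_left_cancel (mul_right_cancel (congrArg Subtype.val h)))
          subst he
          obtain rfl := hti Q Q' z (fun e => hz1 (Subtype.ext e)) hz hz'
          rfl
        refine le_trans (le_of_eq ?_) (Nat.card_le_card_of_injective f hf)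
        have := Fintype.ofFinite (Sylow 3 ↥C)
        rw [Nat.card_sigma]
        have h8 : ∀ Q : Sylow 3 ↥C, Nat.card {z : ↥(Q : Subgroup ↥C) // z ≠ 1} = 8 := fun Q => by
          have h1 := hcard Q
          rw [Subgroup.card_map_of_injective C.subtype_injective] at h1
          have := Fintype.ofFinite ↥(Q : Subgroup ↥C)
          rw [Nat.card_eq_fintype_card, Fintype.card_subtype_compl, Fintype.card_subtype_eq,
            ← Nat.card_eq_fintype_card, h1]
        simp only [h8, Finset.sum_const, Finset.card_univ, smul_eq_mul, Nat.card_eq_fintype_card (α := Sylow 3 ↥C)]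
        ring
      have := Fintype.ofFinite G
      have hclass : 385 ≤ Nat.card {y : G // IsConj t y} := by
        have h := M12Nse.card_isConj_mul t
        rw [H.card, hC] at h
        interval_cases a <;> omega
      have h1 : 385 * (8 * Nat.card (Sylow 3 ↥C)) ≤ ∑ y : {y : G // IsConj t y},
          Nat.card {x : G // orderOf x = 3 ∧ x * y.1 = y.1 * x} := by
        refine le_trans ?_ (Finset.sum_le_sum fun y _ => hfib y)
        rw [Finset.sum_const, smul_eq_mul, Finset.card_univ, ← Nat.card_eq_fintype_card]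
        exact Nat.mul_le_mul_right _ hclass
      have h2 : ∑ y : {y : G // IsConj t y}, Nat.card {x : G // orderOf x = 3 ∧ x * y.1 = y.1 * x} ≤ 36960 := by
        rw [← Nat.card_sigma, ← H.six]
        refine le_trans (Nat.card_le_card_of_injective
          (fun p : Σ y : {y : G // IsConj t y}, {x : G // orderOf x = 3 ∧ x * y.1 = y.1 * x} =>
            (⟨⟨p.1.1, (M12Nse.conj_orderOf p.1.2).trans ht⟩, p.2⟩ :
              Σ y : {y : G // orderOf y = 2}, {x : G // orderOf x = 3 ∧ x * y.1 = y.1 * x})) ?_)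
          (le_of_eq (Nat.card_congr sixEquiv'.symm))
        rintro ⟨⟨y, hy⟩, w⟩ ⟨⟨y', hy'⟩, w'⟩ h
        obtain ⟨h1, h2⟩ := Sigma.mk.inj_iff.1 h
        obtain rfl : y = y' := congrArg Subtype.val h1
        cases h2
        rfl
      omega
    have : ∀ d ∈ Nat.divisors 128, d % 3 = 1 → d ≤ 12 → d = 1 ∨ d = 4 := by decide +kernel
    exact this _ (Nat.mem_divisors.2 ⟨hdvd.trans (Nat.pow_dvd_pow 2 ha7), by norm_num⟩) hmod hbound
  -- an element of order three of the kernel lies in all of them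
  rcases hn with hn | hn
  · -- one Sylow subgroup: the centraliser is too small
    haveI : Subsingleton (Sylow 3 ↥C) := (Nat.card_eq_one_iff_unique.1 hn).1
    haveI hnorm : (P : Subgroup ↥C).Normal := P.normal_of_subsingleton
    obtain ⟨y, hy, hy1⟩ : ∃ y ∈ (P : Subgroup ↥C), y ≠ 1 := by
      by_contra! h
      have := (Subgroup.eq_bot_iff_forall (P : Subgroup ↥C)).2 h
      have h1 := hcard P
      rw [this, Subgroup.map_bot, Subgroup.card_bot] at h1
      omega
    have h1 := M12Nse.card_isConj_mul y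
    have h2 : Nat.card {z : ↥C // IsConj y z} ≤ 9 := by
      refine le_trans (Nat.card_le_card_of_injective
        (fun z : {z : ↥C // IsConj y z} => (⟨z.1, by
          obtain ⟨g, hg⟩ := isConj_iff.1 z.2
          exact hg ▸ hnorm.conj_mem y hy g⟩ : ↥(P : Subgroup ↥C)))
        fun u v h => Subtype.ext (congrArg (fun w : ↥(P : Subgroup ↥C) => (w : ↥C)) h)) ?_
      rw [← Subgroup.card_map_of_injective C.subtype_injective, hcard P]
    have h3 : Nat.card ↥(centralizer ({y} : Set ↥C)) ≤ 36 := by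
      rw [← (cent_three H (hord P y hy hy1)).1]
      refine Nat.card_le_card_of_injective (fun z => ⟨((z : ↥C) : G), mem_centralizer_singleton_iff.2
        (congrArg Subtype.val (mem_centralizer_singleton_iff.1 z.2))⟩) fun u v h => ?_
      exact Subtype.ext (Subtype.ext (congrArg (fun w : ↥(centralizer ({(y : G)} : Set G)) => (w : G)) h))
    rw [hC] at h1
    have := Nat.mul_le_mul h2 h3
    interval_cases a <;> omega
  · -- four Sylow subgroups
    set φ := MulAction.toPermHom ↥C (Sylow 3 ↥C)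
    have hr : Nat.card ↥φ.range ∣ 24 := by
      have : Nat.card (Equiv.Perm (Sylow 3 ↥C)) = 24 := by rw [Nat.card_perm, hn]; rfl
      exact this ▸ Subgroup.card_subgroup_dvd_card _
    have hk : Nat.card ↥φ.ker * Nat.card ↥φ.range = 2 ^ a * 3 ^ 2 := by
      rw [← Subgroup.index_ker, Subgroup.card_mul_index, hC]
    have h3 : 3 ∣ Nat.card ↥φ.ker := by
      rcases (Nat.Prime.dvd_mul Nat.prime_three).1 (hk ▸ dvd_mul_of_dvd_right (by norm_num) _ :
        3 ∣ Nat.card ↥φ.ker * Nat.card ↥φ.range) with h | h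
      · exact h
      · by_contra hne
        have h9' : 9 ∣ Nat.card ↥φ.range := by
          have hc : Nat.Coprime 9 (Nat.card ↥φ.ker) :=
            Nat.Coprime.pow_left 2 ((Nat.Prime.coprime_iff_not_dvd Nat.prime_three).2 hne)
          exact hc.dvd_of_dvd_mul_left (hk ▸ dvd_mul_of_dvd_right (by norm_num) _)
        have := h9'.trans hr
        norm_num at this
    obtain ⟨⟨y, hy⟩, hyo⟩ := exists_prime_orderOf_dvd_card' (G := ↥φ.ker) 3 h3
    rw [← Subgroup.orderOf_coe] at hyo
    change orderOf y = 3 at hyo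
    have hall : ∀ Q : Sylow 3 ↥C, y ∈ (Q : Subgroup ↥C) := fun Q => by
      have hm : y ∈ normalizer (Q : Set ↥C) :=
        Sylow.smul_eq_iff_mem_normalizer.1 (by
          have := Equiv.ext_iff.1 (MonoidHom.mem_ker.1 hy) Q
          exact this)
      have : y ∈ zpowers y ⊓ normalizer (Q : Set ↥C) := ⟨mem_zpowers y, hm⟩
      rw [(IsPGroup.of_card (p := 3) (n := 1) (by rw [Nat.card_zpowers, hyo, pow_one]) :
        IsPGroup 3 ↥(zpowers y)).inf_normalizer_sylow] at this
      exact this.2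
    haveI : Subsingleton (Sylow 3 ↥C) := ⟨fun Q Q' => hti Q Q' y (fun e => by simp [e] at hyo) (hall Q) (hall Q')⟩
    have := Nat.card_unique (α := Sylow 3 ↥C)
    omega

/-- the centraliser of an involution -/
theorem cent_two {t : G} (ht : orderOf t = 2) :
    Nat.card ↥(centralizer ({t} : Set G)) = 384 ∧ ∀ s, orderOf s = 2 → IsConj t s := by
  obtain ⟨a, b, hC, ha, hb⟩ := cent_shape H (Or.inl ht)
  have h9 := not_nine_dvd_cent H ht
  have hle := card_class_le ht
  rw [H.card, H.two] at hle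
  have hC384 : Nat.card ↥(centralizer ({t} : Set G)) ≤ 384 := by
    rw [hC] at h9 ⊢
    interval_cases b
    · calc 2 ^ a * 3 ^ 0 ≤ 2 ^ 7 * 1 := Nat.mul_le_mul_right _ (Nat.pow_le_pow_right (by norm_num) ha)
        _ ≤ 384 := by norm_num
    · calc 2 ^ a * 3 ^ 1 ≤ 2 ^ 7 * 3 := Nat.mul_le_mul_right _ (Nat.pow_le_pow_right (by norm_num) ha)
        _ ≤ 384 := by norm_num
    · exact absurd (dvd_mul_left _ _) h9
  have hC' : Nat.card ↥(centralizer ({t} : Set G)) = 384 := by omega
  refine ⟨hC', fun s hs => ?_⟩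
  by_contra hn
  have h := M12Nse.card_isConj_mul t
  rw [H.card, hC'] at h
  have hlt : Nat.card {z : G // IsConj t z} < cnt G 2 := by
    rw [cnt, ← Set.coe_setOf, ← Set.coe_setOf, Nat.card_coe_set_eq, Nat.card_coe_set_eq]
    exact Set.ncard_lt_ncard ⟨fun z hz => (M12Nse.conj_orderOf hz).trans ht, fun hsub => hn (hsub hs)⟩ (Set.toFinite _)
  rw [H.two] at hlt
  omega

theorem sylow_cent_lines (S : Sylow 3 G) {t : G} (ht : orderOf t = 2) {x a : G} (hxS : x ∈ (S : Subgroup G))
    (hx : x ≠ 1) (haS : a ∈ (S : Subgroup G)) (hxt : x * t = t * x) (hat : a * t = t * a) : a ∈ zpowers x := by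
  set I := (S : Subgroup G) ⊓ centralizer ({t} : Set G)
  have h1 : Nat.card ↥I ∣ 3 := by
    have h9 : Nat.card ↥I ∣ 9 := card_sylow_three H S ▸ Subgroup.card_dvd_of_le inf_le_left
    have h384 : Nat.card ↥I ∣ 384 := (cent_two H ht).1 ▸ Subgroup.card_dvd_of_le inf_le_right
    exact (Nat.dvd_gcd h9 h384).trans (by norm_num)
  have hz : zpowers x ≤ I := (zpowers_le).2 ⟨hxS, mem_centralizer_singleton_iff.2 hxt⟩
  have he : zpowers x = I := Subgroup.eq_of_le_of_card_ge hz
    (by rw [Nat.card_zpowers, sylow_three_elem H S hxS hx]; exact Nat.le_of_dvd (by norm_num) h1)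
  rw [he]
  exact ⟨haS, mem_centralizer_singleton_iff.2 hat⟩

/-- no involution centralises a Sylow 3-subgroup -/
theorem sylow_no_two (S : Sylow 3 G) {t : G} (ht : orderOf t = 2) (h : ∀ a ∈ (S : Subgroup G), a * t = t * a) :
    False := not_nine_dvd_cent H ht (card_sylow_three H S ▸
      Subgroup.card_dvd_of_le fun a ha => mem_centralizer_singleton_iff.2 (h a ha))

theorem exists_four {x : G} (hx : orderOf x = 3) :
    ∃ T : Subgroup G, Nat.card ↥T = 4 ∧ ∀ a, a ∈ T ↔ a * a = 1 ∧ a * x = x * a := by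
  classical
  obtain ⟨hC, h3⟩ := cent_three H hx
  obtain ⟨T, hT⟩ := Sylow.exists_subgroup_card_pow_prime (G := ↥(centralizer ({x} : Set G))) 2 (n := 2)
    (by rw [hC]; norm_num)
  set T' := T.map (centralizer ({x} : Set G)).subtype with hT'
  have hTc : Nat.card ↥T' = 4 := by
    rw [hT', Subgroup.card_map_of_injective (centralizer ({x} : Set G)).subtype_injective, hT]; rfl
  have hsub : (T' : Set G) ⊆ {a : G | a * a = 1 ∧ a * x = x * a} := by
    rintro a ha
    obtain ⟨c, hcT, rfl⟩ := id ha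
    have hc := mem_centralizer_singleton_iff.1 c.2
    obtain ⟨k, -, hk⟩ := (Nat.dvd_prime_pow Nat.prime_two).1
      (show orderOf ((c : G)) ∣ 2 ^ 2 by
        have := Subgroup.orderOf_dvd_natCard T' ha
        rw [hTc] at this
        exact this)
    refine ⟨?_, hc⟩
    have hm := order_mem H (x * (c : G))
    rw [orderOf_mul_coprime hc.symm hx hk (Nat.Coprime.pow_right k (by norm_num))] at hm
    rcases k with _ | _ | k
    · rw [pow_zero, orderOf_eq_one_iff] at hk
      show (c : G) * c = 1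
      rw [hk, one_mul]
    · exact mul_self_one (by simpa using hk)
    · exfalso
      simp only [List.mem_cons, List.not_mem_nil, or_false] at hm
      have : 4 ≤ 2 ^ (k + 2) := by
        rw [pow_add]; have := Nat.one_le_two_pow (n := k); omega
      omega
  have hset : ({a : G | a * a = 1 ∧ a * x = x * a}).ncard ≤ 4 := by
    have : {a : G | a * a = 1 ∧ a * x = x * a} ⊆ insert 1 {t : G | orderOf t = 2 ∧ t * x = x * t} := fun a ha => by
      by_cases h1 : a = 1
      · exact Or.inl h1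
      · exact Or.inr ⟨orderOf_eq_two ha.1 h1, ha.2⟩
    refine ((Set.ncard_le_ncard this (Set.toFinite _)).trans (Set.ncard_insert_le _ _)).trans ?_
    rw [← Nat.card_coe_set_eq]
    exact le_of_eq (congrArg (· + 1) h3)
  have he := Set.eq_of_subset_of_ncard_le hsub (by rw [← Nat.card_coe_set_eq]; exact hset.trans_eq hTc.symm) (Set.toFinite _)
  exact ⟨T', hTc, fun a => Set.ext_iff.1 he a⟩

theorem mem_V {x : G} (hx : orderOf x = 3) {a : G} : a ∈ V x ↔ a * a = 1 ∧ a * x = x * a := by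
  obtain ⟨T, -, hT⟩ := exists_four H hx
  have : V x = T := by
    rw [V, show {a : G | a * a = 1 ∧ a * x = x * a} = (T : Set G) from Set.ext fun b => (hT b).symm, closure_eq]
  rw [this, hT]

theorem card_V {x : G} (hx : orderOf x = 3) : Nat.card ↥(V x) = 4 := by
  obtain ⟨T, hc, hT⟩ := exists_four H hx
  rw [show V x = T from SetLike.ext fun a => (mem_V H hx).trans (hT a).symm, hc]

theorem V_ne_bot {x : G} (hx : orderOf x = 3) : ∃ u ∈ V x, u ≠ 1 := by
  by_contra! h
  have h1 := card_V H hx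
  rw [(Subgroup.eq_bot_iff_forall _).2 h, Subgroup.card_bot] at h1
  omega

theorem V_comm {x : G} (hx : orderOf x = 3) {u v : G} (hu : u ∈ V x) (hv : v ∈ V x) : u * v = v * u := by
  have huv := ((mem_V H hx).1 (mul_mem hu hv)).1
  have hu' := ((mem_V H hx).1 hu).1
  have hv' := ((mem_V H hx).1 hv).1
  calc u * v = u * ((u * v) * (u * v)) * v := by rw [huv]; group
    _ = (u * u) * v * u * (v * v) := by group
    _ = v * u := by rw [hu', hv']; group

theorem V_inv {x : G} (hx : orderOf x = 3) : V x⁻¹ = V x := by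
  ext a
  rw [mem_V H (by rw [orderOf_inv, hx]), mem_V H hx]
  exact and_congr_right fun _ => (Commute.inv_right_iff (a := a) (b := x))

theorem conj_mem_V {x : G} (hx : orderOf x = 3) (g : G) {a : G} (ha : a ∈ V x) : g * a * g⁻¹ ∈ V (g * x * g⁻¹) := by
  have hx' : orderOf (g * x * g⁻¹) = 3 := by
    rw [show g * x * g⁻¹ = MulAut.conj g x from rfl, MulEquiv.orderOf_eq, hx]
  rw [mem_V H hx']
  obtain ⟨h1, h2⟩ := (mem_V H hx).1 ha
  constructor
  · rw [show g * a * g⁻¹ * (g * a * g⁻¹) = g * (a * a) * g⁻¹ by group, h1]; group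
  · rw [show g * a * g⁻¹ * (g * x * g⁻¹) = g * (a * x) * g⁻¹ by group, h2]; group

theorem sylow_conj_V (S : Sylow 3 G) {x a : G} (hxS : x ∈ (S : Subgroup G)) (hx : x ≠ 1)
    (haS : a ∈ (S : Subgroup G)) {v : G} (hv : v ∈ V x) : a * v * a⁻¹ ∈ V x := by
  have h := conj_mem_V H (sylow_three_elem H S hxS hx) a hv
  rwa [sylow_three_comm H S haS hxS, mul_inv_cancel_right] at h

/-- the four-groups of different lines meet trivially -/
theorem V_inter (S : Sylow 3 G) {x y : G} (hxS : x ∈ (S : Subgroup G)) (hx : x ≠ 1) (hyS : y ∈ (S : Subgroup G))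
    (hy : y ∉ zpowers x) {u : G} (hux : u ∈ V x) (huy : u ∈ V y) : u = 1 := by
  by_contra h1
  have hy1 : y ≠ 1 := fun e => hy (e ▸ one_mem _)
  obtain ⟨a1, a2⟩ := (mem_V H (sylow_three_elem H S hxS hx)).1 hux
  exact hy (sylow_cent_lines H S (orderOf_eq_two a1 h1) hxS hx hyS a2.symm
    ((mem_V H (sylow_three_elem H S hyS hy1)).1 huy).2.symm)

/-- the Sylow 3-subgroup moves the involutions of each four-group -/
theorem sylow_moves (S : Sylow 3 G) {x a : G} (hxS : x ∈ (S : Subgroup G)) (hx : x ≠ 1)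
    (haS : a ∈ (S : Subgroup G)) (ha : a ∉ zpowers x) {u : G} (hu : u ∈ V x) (hc : a * u = u * a) : u = 1 := by
  by_contra h1
  obtain ⟨a1, a2⟩ := (mem_V H (sylow_three_elem H S hxS hx)).1 hu
  exact ha (sylow_cent_lines H S (orderOf_eq_two a1 h1) hxS hx haS a2.symm hc)

theorem sylow_trans (S : Sylow 3 G) {x a : G} (hxS : x ∈ (S : Subgroup G)) (hx : x ≠ 1)
    (haS : a ∈ (S : Subgroup G)) (ha : a ∉ zpowers x) {u v : G} (hu : u ∈ V x) (hu1 : u ≠ 1) (hv : v ∈ V x)
    (hv1 : v ≠ 1) : v = u ∨ v = a * u * a⁻¹ ∨ v = a⁻¹ * u * a := by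
  classical
  have hxo := sylow_three_elem H S hxS hx
  have h3 := (cent_three H hxo).2
  have ha' : a ≠ 1 := fun e => ha (e ▸ one_mem _)
  have ha3 : a * a = a⁻¹ := eq_inv_of_mul_eq_one_left (by
    have := cube_one (sylow_three_elem H S haS ha'); rwa [pow_succ, pow_two] at this)
  have hw : a⁻¹ * u * a ∈ V x := by
    have := sylow_conj_V H S hxS hx (inv_mem haS) hu; rwa [inv_inv] at this
  have hnc : a * u * a⁻¹ ≠ u := fun e => hu1 (sylow_moves H S hxS hx haS ha hu (by
    conv_rhs => rw [← e]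
    group))
  have hnc' : a⁻¹ * u * a ≠ u := fun e => hnc (by
    conv_lhs => rw [← e]
    group)
  have hne : a * u * a⁻¹ ≠ a⁻¹ * u * a := fun e => hnc' (by
    have h2 : a * (a * u * a⁻¹) * a⁻¹ = a * (a⁻¹ * u * a) * a⁻¹ := by rw [e]
    rw [show a * (a * u * a⁻¹) * a⁻¹ = (a * a) * u * (a * a)⁻¹ by group, ha3, inv_inv,
      show a * (a⁻¹ * u * a) * a⁻¹ = u by group] at h2
    exact h2)
  have hmem : ∀ {w}, w ∈ V x → w ≠ 1 → orderOf w = 2 ∧ w * x = x * w := fun hw hw1 =>
    ⟨orderOf_eq_two ((mem_V H hxo).1 hw).1 hw1, ((mem_V H hxo).1 hw).2⟩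
  have hone : ∀ g : G, g * u * g⁻¹ ≠ 1 := fun g e => hu1 (conj_eq_one_iff.1 e)
  have hs : ({u, a * u * a⁻¹, a⁻¹ * u * a} : Set G) = {t : G | orderOf t = 2 ∧ t * x = x * t} := by
    refine Set.eq_of_subset_of_ncard_le ?_ ?_ (Set.toFinite _)
    · rintro w (rfl | rfl | rfl)
      · exact hmem hu hu1
      · exact hmem (sylow_conj_V H S hxS hx haS hu) (hone a)
      · exact hmem hw (by have := hone a⁻¹; rwa [inv_inv] at this)
    · rw [Set.ncard_eq_three.2 ⟨_, _, _, hnc.symm, hnc'.symm, hne, rfl⟩, ← Nat.card_coe_set_eq]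
      exact le_of_eq h3
  have := hs.ge (hmem hv hv1)
  simpa using this

theorem sylow_cent (S : Sylow 3 G) {g : G} (h : ∀ a ∈ (S : Subgroup G), g * a = a * g) : g ∈ (S : Subgroup G) := by
  set C := centralizer ((S : Subgroup G) : Set G)
  have hg : g ∈ C := mem_centralizer_iff.2 fun a ha => (h a ha).symm
  have hS : (S : Subgroup G) ≤ C := fun a ha => mem_centralizer_iff.2 fun b hb => sylow_three_comm H S hb ha
  obtain ⟨x, hxS, hx⟩ : ∃ x ∈ (S : Subgroup G), x ≠ 1 := by
    by_contra! h'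
    have h1 := card_sylow_three H S
    rw [(Subgroup.eq_bot_iff_forall _).2 h', Subgroup.card_bot] at h1
    omega
  have hC36 : Nat.card ↥C ∣ 36 := by
    rw [← (cent_three H (sylow_three_elem H S hxS hx)).1]
    exact Subgroup.card_dvd_of_le fun c hc => mem_centralizer_singleton_iff.2 (mem_centralizer_iff.1 hc x hxS).symm
  have hodd : ¬ 2 ∣ Nat.card ↥C := fun h2 => by
    obtain ⟨⟨t, ht⟩, hto⟩ := exists_prime_orderOf_dvd_card' (G := ↥C) 2 h2
    rw [← Subgroup.orderOf_coe] at hto
    exact sylow_no_two H S hto fun a ha => mem_centralizer_iff.1 ht a ha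
  have h9 : Nat.card ↥C ≤ 9 := by
    have := Nat.Coprime.dvd_of_dvd_mul_left
      ((Nat.Coprime.pow_right 2 ((Nat.Prime.coprime_iff_not_dvd Nat.prime_two).2 hodd).symm) :
        Nat.Coprime (Nat.card ↥C) (2 ^ 2)) (show Nat.card ↥C ∣ 2 ^ 2 * 9 from hC36)
    exact Nat.le_of_dvd (by norm_num) this
  rw [Subgroup.eq_of_le_of_card_ge hS (by rw [card_sylow_three H S]; exact h9)]
  exact hg

theorem norm_cent (S : Sylow 3 G) {n x : G} (hn : n ∈ normalizer ((S : Subgroup G) : Set G))
    (hxS : x ∈ (S : Subgroup G)) (hx : x ≠ 1) (hc : n * x = x * n) : n ∈ (S : Subgroup G) := by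
  set I := normalizer ((S : Subgroup G) : Set G) ⊓ centralizer ({x} : Set G)
  have hS : (S : Subgroup G) ≤ I := fun a ha =>
    ⟨le_normalizer ha, mem_centralizer_singleton_iff.2 (sylow_three_comm H S ha hxS)⟩
  have hI : Nat.card ↥I ∣ 36 :=
    (cent_three H (sylow_three_elem H S hxS hx)).1 ▸ Subgroup.card_dvd_of_le inf_le_right
  have hodd : ¬ 2 ∣ Nat.card ↥I := fun h2 => by
    obtain ⟨⟨u, hu⟩, huo⟩ := exists_prime_orderOf_dvd_card' (G := ↥I) 2 h2
    rw [← Subgroup.orderOf_coe] at huo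
    change orderOf u = 2 at huo
    have hxo := sylow_three_elem H S hxS hx
    have huV : u ∈ V x := (mem_V H hxo).2 ⟨mul_self_one huo, mem_centralizer_singleton_iff.1 hu.2⟩
    refine sylow_no_two H S huo fun a ha => ?_
    have h1 : u * a * u⁻¹ * a⁻¹ ∈ (S : Subgroup G) := mul_mem ((mem_normalizer_iff.1 hu.1 a).1 ha) (inv_mem ha)
    have h2 : u * a * u⁻¹ * a⁻¹ ∈ V x := by
      rw [mul_assoc (u * a), mul_assoc u, ← mul_assoc a]
      exact mul_mem huV (sylow_conj_V H S hxS hx ha (inv_mem huV))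
    have h3 := eq_one_of_sylow H S h1 ((mem_V H hxo).1 h2).1
    exact (mul_inv_eq_iff_eq_mul.1 (mul_inv_eq_one.1 h3)).symm
  have h9 : Nat.card ↥I ≤ 9 := by
    have := Nat.Coprime.dvd_of_dvd_mul_left
      ((Nat.Coprime.pow_right 2 ((Nat.Prime.coprime_iff_not_dvd Nat.prime_two).2 hodd).symm) :
        Nat.Coprime (Nat.card ↥I) (2 ^ 2)) (show Nat.card ↥I ∣ 2 ^ 2 * 9 from hI)
    exact Nat.le_of_dvd (by norm_num) this
  rw [Subgroup.eq_of_le_of_card_ge hS (by rw [card_sylow_three H S]; exact h9)]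
  exact ⟨hn, mem_centralizer_singleton_iff.2 hc⟩

/-- the normaliser of a Sylow 3-subgroup is transitive on its nontrivial elements -/
theorem norm_trans (S : Sylow 3 G) {x y : G} (hxS : x ∈ (S : Subgroup G)) (hx : x ≠ 1)
    (hyS : y ∈ (S : Subgroup G)) (hy : y ≠ 1) :
    ∃ n ∈ normalizer ((S : Subgroup G) : Set G), n * x * n⁻¹ = y := by
  haveI : IsMulCommutative ↥(S : Subgroup G) :=
    IsPGroup.isMulCommutative_of_card_eq_prime_sq (p := 3) (by rw [card_sylow_three H S]; norm_num)
  obtain ⟨g, hg⟩ := isConj_iff.1 (conj_three H (sylow_three_elem H S hxS hx) (sylow_three_elem H S hyS hy))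
  have hy' : g⁻¹⁻¹ * x * g⁻¹ ∈ S := by rw [inv_inv, hg]; exact hyS
  obtain ⟨n, hn, he⟩ := Sylow.conj_eq_normalizer_conj_of_mem S x g⁻¹ hxS hy'
  exact ⟨n⁻¹, inv_mem hn, by rw [inv_inv, ← he, inv_inv, hg]⟩

theorem card_norm (S : Sylow 3 G) : Nat.card ↥(normalizer ((S : Subgroup G) : Set G)) = 72 := by
  classical
  set N := normalizer ((S : Subgroup G) : Set G) with hN
  obtain ⟨x, hxS, hx⟩ : ∃ x ∈ (S : Subgroup G), x ≠ 1 := by
    by_contra! h'
    have h1 := card_sylow_three H S
    rw [(Subgroup.eq_bot_iff_forall _).2 h', Subgroup.card_bot] at h1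
    omega
  let x' : ↥N := ⟨x, le_normalizer hxS⟩
  have h := M12Nse.card_isConj_mul x'
  have h1 : Nat.card {z : ↥N // IsConj x' z} = 8 := by
    have : Nat.card {z : ↥(S : Subgroup G) // z ≠ 1} = 8 := by
      have := Fintype.ofFinite ↥(S : Subgroup G)
      rw [Nat.card_eq_fintype_card, Fintype.card_subtype_compl, Fintype.card_subtype_eq,
        ← Nat.card_eq_fintype_card, card_sylow_three H S]
    rw [← this]
    refine Nat.card_eq_of_bijective (fun z => (⟨⟨(z.1 : G), ?_⟩, ?_⟩ : {z : ↥(S : Subgroup G) // z ≠ 1})) ⟨?_, ?_⟩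
    · obtain ⟨n, hn⟩ := isConj_iff.1 z.2
      rw [← hn]
      exact (mem_normalizer_iff.1 n.2 x).1 hxS
    · intro e
      have e' : (z.1 : G) = 1 := congrArg Subtype.val e
      obtain ⟨n, hn⟩ := isConj_iff.1 z.2
      rw [← hn] at e'
      exact hx (conj_eq_one_iff.1 e')
    · exact fun u v he => Subtype.ext (Subtype.ext (congrArg (fun w => ((w.1 : ↥(S : Subgroup G)) : G)) he))
    · rintro ⟨⟨y, hy⟩, hy1⟩
      obtain ⟨n, hn, he⟩ := norm_trans H S hxS hx hy fun e => hy1 (Subtype.ext e)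
      exact ⟨⟨⟨y, le_normalizer hy⟩, isConj_iff.2 ⟨⟨n, hn⟩, Subtype.ext he⟩⟩, rfl⟩
  have h2 : Nat.card ↥(centralizer ({x'} : Set ↥N)) = 9 := by
    rw [← card_sylow_three H S]
    refine Nat.card_eq_of_bijective (fun z => (⟨((z : ↥N) : G), norm_cent H S z.1.2 hxS hx
      (congrArg Subtype.val (mem_centralizer_singleton_iff.1 z.2))⟩ : ↥(S : Subgroup G))) ⟨?_, ?_⟩
    · exact fun u v he => Subtype.ext (Subtype.ext (congrArg (fun w : ↥(S : Subgroup G) => (w : G)) he))
    · rintro ⟨y, hy⟩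
      exact ⟨⟨⟨y, le_normalizer hy⟩, mem_centralizer_singleton_iff.2 (Subtype.ext (sylow_three_comm H S hy hxS))⟩, rfl⟩
  rw [h1, h2] at h
  exact h.symm

/-- an involution inverting a Sylow 3-subgroup -/
theorem exists_inverter (S : Sylow 3 G) : ∃ i : G, orderOf i = 2 ∧
    i ∈ normalizer ((S : Subgroup G) : Set G) ∧ ∀ a ∈ (S : Subgroup G), i * a * i⁻¹ = a⁻¹ := by
  obtain ⟨⟨i, hi⟩, hio⟩ := exists_prime_orderOf_dvd_card'
    (G := ↥(normalizer ((S : Subgroup G) : Set G))) 2 (by rw [card_norm H S]; norm_num)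
  rw [← Subgroup.orderOf_coe] at hio
  change orderOf i = 2 at hio
  refine ⟨i, hio, hi, fun a ha => ?_⟩
  have hii : i⁻¹ = i := inv_eq_of_mul_eq_one_right (mul_self_one hio)
  have hb : i * a * i⁻¹ ∈ (S : Subgroup G) := (mem_normalizer_iff.1 hi a).1 ha
  by_contra hne
  have hb1 : a * (i * a * i⁻¹) ≠ 1 := fun e => hne (eq_inv_of_mul_eq_one_right e)
  have hc : i * (a * (i * a * i⁻¹)) = a * (i * a * i⁻¹) * i := by
    have e1 : i * a * i⁻¹ * a = a * (i * a * i⁻¹) := sylow_three_comm H S hb ha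
    calc i * (a * (i * a * i⁻¹)) = i * a * (i * a * i⁻¹) := by group
      _ = i * a * i⁻¹ * a * i := by rw [hii]; group
      _ = a * (i * a * i⁻¹) * i := by rw [e1]
  have := sylow_three_elem H S (norm_cent H S hi (mul_mem ha hb) hb1 hc) (fun e => by simp [e] at hio)
  omega

end Cfsg.Lib.M22Nse
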