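import Cfsg.Agent.M22Nse.Local2

/-!
Tools for the elementary abelian subgroups of order sixteen: fixed points, two-cores of centralisers,
and the 2-part of the centraliser of a four-group.
-/

set_option autoImplicit false
set_option linter.unusedSectionVars false
set_option linter.style.haveILetI false

namespace Cfsg.Lib.M22Nse

open Subgroup Cfsg.Lib.SameOrder

universe u

variable {G : Type u} [Group G] [Finite G] (H : Fields G)

local instance fact_two_local3 : Fact (Nat.Prime 2) := ⟨Nat.prime_two⟩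
local instance fact_three_local3 : Fact (Nat.Prime 3) := ⟨Nat.prime_three⟩

/-- conjugation of an invariant set by a subgroup -/
@[implicit_reducible] def conjAct (A : Subgroup G) (X : Set G) (h : ∀ a ∈ A, ∀ t ∈ X, a * t * a⁻¹ ∈ X) :
    MulAction ↥A ↥X where
  smul a t := ⟨a.1 * t.1 * a.1⁻¹, h _ a.2 _ t.2⟩
  one_smul t := Subtype.ext (show (1 : G) * t.1 * (1 : G)⁻¹ = t.1 by group)
  mul_smul a b t := Subtype.ext
    (show a.1 * b.1 * t.1 * (a.1 * b.1)⁻¹ = a.1 * (b.1 * t.1 * b.1⁻¹) * a.1⁻¹ by group)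

theorem mem_normalizer_of_conj (T : Subgroup G) {g : G} (h : ∀ u ∈ T, g * u * g⁻¹ ∈ T) :
    g ∈ normalizer (T : Set G) := by
  have he : T.map (MulAut.conj g).toMonoidHom = T := Subgroup.eq_of_le_of_card_ge
    (by rintro _ ⟨u, hu, rfl⟩; exact h u hu)
    (le_of_eq (Subgroup.card_map_of_injective (MulAut.conj g).injective).symm)
  rw [mem_normalizer_iff]
  refine fun u => ⟨h u, fun hu => ?_⟩
  obtain ⟨w, hw, hwe⟩ := (le_of_eq he.symm) hu
  have : w = u := (MulAut.conj g).injective hwe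
  exact this ▸ hw

/-- an element of order three fixes as many points of an invariant subgroup as its order, modulo three -/
theorem card_mod_three (T : Subgroup G) {x : G} (hx : orderOf x = 3) (h : ∀ u ∈ T, x * u * x⁻¹ ∈ T) :
    Nat.card ↥T % 3 = Nat.card ↥(T ⊓ centralizer ({x} : Set G)) % 3 := by
  have hA : ∀ a ∈ zpowers x, ∀ t ∈ (T : Set G), a * t * a⁻¹ ∈ (T : Set G) := fun a ha t ht =>
    (mem_normalizer_iff.1 (zpowers_le.2 (mem_normalizer_of_conj T h) ha) t).1 ht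
  let act := conjAct (zpowers x) (T : Set G) hA
  letI : MulAction ↥(zpowers x) ↥T := act
  have hm := (IsPGroup.of_card (p := 3) (n := 1) (by rw [Nat.card_zpowers, hx, pow_one]) :
    IsPGroup 3 ↥(zpowers x)).card_modEq_card_fixedPoints (↥T)
  rw [hm]
  congr 1
  refine Nat.card_eq_of_bijective (fun t => (⟨(t.1 : G), t.1.2, mem_centralizer_singleton_iff.2 ?_⟩ :
    ↥(T ⊓ centralizer ({x} : Set G)))) ⟨?_, ?_⟩
  · have e : x * (t.1 : G) * x⁻¹ = t.1 := congrArg Subtype.val (t.2 ⟨x, mem_zpowers x⟩)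
    exact (mul_inv_eq_iff_eq_mul.1 e).symm
  · exact fun a b e => Subtype.ext (Subtype.ext (congrArg (fun w : ↥(T ⊓ centralizer ({x} : Set G)) => (w : G)) e))
  · rintro ⟨u, hu, hc⟩
    refine ⟨⟨⟨u, hu⟩, fun a => Subtype.ext ?_⟩, rfl⟩
    show a.1 * u * a.1⁻¹ = u
    obtain ⟨k, hk⟩ := mem_zpowers_iff.1 a.2
    rw [← hk, ((show Commute x u from (mem_centralizer_singleton_iff.1 hc).symm).zpow_left k).eq,
      mul_inv_cancel_right]

/-- normalisers grow in 2-groups -/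
theorem grow (Q W : Subgroup G) (hQ : IsPGroup 2 ↥Q) (hW : W ≤ Q) (hne : ¬ Q ≤ W) :
    ∃ q ∈ Q, q ∉ W ∧ q ∈ normalizer (W : Set G) := by
  haveI : Group.IsNilpotent ↥Q := hQ.isNilpotent
  have hnt : normalizer ((W.subgroupOf Q : Subgroup ↥Q) : Set ↥Q) ≠ W.subgroupOf Q := fun e =>
    hne (Subgroup.subgroupOf_eq_top.1
      (normalizerCondition_iff_only_full_group_self_normalizing.1 Group.normalizerCondition_of_isNilpotent _ e))
  obtain ⟨⟨q, hq⟩, hq1, hq2⟩ := SetLike.exists_of_lt (lt_of_le_of_ne le_normalizer (Ne.symm hnt))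
  refine ⟨q, hq, fun h => hq2 (mem_subgroupOf.2 h), mem_normalizer_of_conj W fun u hu => ?_⟩
  exact (mem_normalizer_iff.1 hq1 ⟨u, hW hu⟩).1 hu

/-- the 2-part of the centraliser of the four-group of an element of order three -/
def R (x : G) : Subgroup G := closure {d : G | (∀ u ∈ V x, d * u = u * d) ∧ d ^ 128 = 1}

/-- two four-groups centralise each other -/
def Adj (x y : G) : Prop := ∀ u ∈ V x, ∀ v ∈ V y, u * v = v * u

theorem perm_three_two : ∀ p q : Equiv.Perm (Fin 3), p * p * p = 1 ∧ p ≠ 1 ∧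
    q * q = 1 ∧ q * (p * q * p⁻¹) * (q * (p * q * p⁻¹)) = 1 → q = 1 := by
  decide +kernel

theorem perm_three_gen : ∀ p q : Equiv.Perm (Fin 3), p * p * p = 1 → p ≠ 1 → q * p * q⁻¹ = p⁻¹ →
    ∀ r : Equiv.Perm (Fin 3), r = 1 ∨ r = p ∨ r = p * p ∨ r = q ∨ r = p * q ∨ r = p * p * q := by
  decide +kernel

theorem pow_four_cube {a : G} : a * a * (a * a) = a ^ 3 * a := by simp [pow_succ, mul_assoc]

theorem adj_symm {x y : G} (h : Adj x y) : Adj y x := fun u hu v hv => (h v hv u hu).symm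

include H

theorem sylow_V_mul (S : Sylow 3 G) {x c : G} (hxS : x ∈ (S : Subgroup G)) (hx : x ≠ 1) (hc : c * x = x * c) :
    ∃ v ∈ V x, ∃ y ∈ (S : Subgroup G), c = v * y := by
  classical
  have hxo := sylow_three_elem H S hxS hx
  let f : ↥(V x) × ↥(S : Subgroup G) → ↥(centralizer ({x} : Set G)) := fun p =>
    ⟨p.1.1 * p.2.1, mul_mem (mem_centralizer_singleton_iff.2 ((mem_V H hxo).1 p.1.2).2)
      (mem_centralizer_singleton_iff.2 (sylow_three_comm H S p.2.2 hxS))⟩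
  have hinj : Function.Injective f := by
    rintro ⟨⟨v, hv⟩, ⟨y, hy⟩⟩ ⟨⟨v', hv'⟩, ⟨y', hy'⟩⟩ he
    have he' : v * y = v' * y' := congrArg Subtype.val he
    have h1 : v'⁻¹ * v = y' * y⁻¹ := by
      rw [eq_mul_inv_iff_mul_eq, mul_assoc, he', inv_mul_cancel_left]
    have h2 : v'⁻¹ * v = 1 := eq_one_of_sylow H S (h1 ▸ mul_mem hy' (inv_mem hy))
      ((mem_V H hxo).1 (mul_mem (inv_mem hv') hv)).1
    have hv2 : v = v' := (inv_mul_eq_one.1 h2).symm
    subst hv2
    obtain rfl := mul_left_cancel he'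
    rfl
  obtain ⟨⟨⟨v, hv⟩, ⟨y, hy⟩⟩, he⟩ := ((Nat.bijective_iff_injective_and_card f).2 ⟨hinj, by
    rw [Nat.card_prod, card_V H hxo, card_sylow_three H S, (cent_three H hxo).1]⟩).2
      ⟨c, mem_centralizer_singleton_iff.2 hc⟩
  exact ⟨v, hv, y, hy, (congrArg Subtype.val he).symm⟩

/-- an element inverting an element of order three moves its four-group -/
theorem inverter_moves {x d : G} (hx : orderOf x = 3) (hd : d * x * d⁻¹ = x⁻¹)
    (hu : ∀ u ∈ V x, d * u = u * d) : False := by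
  obtain ⟨S, hxS⟩ := exists_sylow_mem H hx
  have hx1 : x ≠ 1 := fun e => by simp [e] at hx
  obtain ⟨i, hio, hin, hi⟩ := exists_inverter H S
  have hc : i⁻¹ * d * x = x * (i⁻¹ * d) := by
    have e : i⁻¹ * (d * x * d⁻¹) * i = x := by
      rw [hd, ← hi x hxS]; group
    conv_rhs => rw [← e]
    group
  obtain ⟨v, hv, y, hy, hvy⟩ := sylow_V_mul H S hxS hx1 hc
  have hde : d = i * v * y := by rw [mul_assoc, ← hvy, mul_inv_cancel_left]
  obtain ⟨w, hw, hw1⟩ := V_ne_bot H hx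
  obtain ⟨a, haS, ha⟩ : ∃ a ∈ (S : Subgroup G), a ∉ zpowers x := by
    by_contra! h
    have := Nat.le_of_dvd (by rw [Nat.card_zpowers, hx]; norm_num) (Subgroup.card_dvd_of_le h)
    rw [card_sylow_three H S, Nat.card_zpowers, hx] at this
    omega
  have hj : ∀ u ∈ V x, (i * y) * u = u * (i * y) := fun u hu' => by
    have h1 : y * u * y⁻¹ ∈ V x := sylow_conj_V H S hxS hx1 hy hu'
    have h2 : d * u * d⁻¹ = u := by rw [hu u hu', mul_inv_cancel_right]
    have h3 : v * (y * u * y⁻¹) * v⁻¹ = y * u * y⁻¹ := by rw [V_comm H hx hv h1, mul_inv_cancel_right]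
    have h4 : (i * y) * u * (i * y)⁻¹ = u := by
      rw [show (i * y) * u * (i * y)⁻¹ = i * (y * u * y⁻¹) * i⁻¹ by group, ← h3]
      conv_rhs => rw [← h2, hde]
      group
    exact mul_inv_eq_iff_eq_mul.1 h4
  have hja : ∀ b ∈ (S : Subgroup G), (i * y) * b = b⁻¹ * (i * y) := fun b hb => by
    rw [mul_assoc, sylow_three_comm H S hy hb, ← mul_assoc, ← mul_assoc, mul_inv_eq_iff_eq_mul.1 (hi b hb)]
  -- compare the images of `w` and of its conjugate
  have e1 : (i * y) * (a * w * a⁻¹) = a⁻¹ * w * a * (i * y) := by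
    calc (i * y) * (a * w * a⁻¹) = ((i * y) * a) * w * a⁻¹ := by group
      _ = a⁻¹ * ((i * y) * w) * a⁻¹ := by rw [hja a haS]; group
      _ = a⁻¹ * w * ((i * y) * a⁻¹) := by rw [hj w hw]; group
      _ = a⁻¹ * w * a * (i * y) := by rw [hja _ (inv_mem haS), inv_inv]; group
  have e2 : a * w * a⁻¹ = a⁻¹ * w * a :=
    mul_right_cancel ((hj _ (sylow_conj_V H S hxS hx1 haS hw)).symm.trans e1)
  have e3 : (a * a) * w = w * (a * a) := by
    calc (a * a) * w = a * (a * w * a⁻¹) * a := by group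
      _ = w * (a * a) := by rw [e2]; group
  have ha2 : a * a ∉ zpowers x := fun h => ha (by
    have ha3 := cube_one (sylow_three_elem H S haS fun e => ha (e ▸ one_mem _))
    have : a = (a * a) * (a * a) := by rw [pow_four_cube, ha3, one_mul]
    rw [this]; exact mul_mem h h)
  exact hw1 (sylow_moves H S hxS hx1 (mul_mem haS haS) ha2 hw e3)

theorem two_elem_cent {x r : G} (hx : orderOf x = 3) (hc : r * x = x * r) (hr : r ^ 128 = 1) : r ∈ V x := by
  obtain ⟨k, -, hk⟩ := (Nat.dvd_prime_pow Nat.prime_two).1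
    (show orderOf r ∣ 2 ^ 7 from orderOf_dvd_of_pow_eq_one hr)
  refine (mem_V H hx).2 ⟨?_, hc⟩
  have hm := order_mem H (x * r)
  rw [orderOf_mul_coprime hc.symm hx hk (Nat.Coprime.pow_right k (by norm_num))] at hm
  rcases k with _ | _ | k
  · rw [pow_zero, orderOf_eq_one_iff] at hk; rw [hk, one_mul]
  · exact mul_self_one (by simpa using hk)
  · exfalso
    simp only [List.mem_cons, List.not_mem_nil, or_false] at hm
    have : 4 ≤ 2 ^ (k + 2) := by
      rw [pow_add]; have := Nat.one_le_two_pow (n := k); omega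
    omega

theorem V_two_elem {x u : G} (hx : orderOf x = 3) (hu : u ∈ V x) : u ^ 128 = 1 := by
  rw [show 128 = 2 * 64 from rfl, pow_mul, pow_two, ((mem_V H hx).1 hu).1, one_pow]

theorem exists_R {x : G} (hx : orderOf x = 3) :
    ∃ T : Subgroup G, (Nat.card ↥T = 4 ∨ Nat.card ↥T = 16 ∨ Nat.card ↥T = 64) ∧
      ∀ d, d ∈ T ↔ (∀ u ∈ V x, d * u = u * d) ∧ d ^ 128 = 1 := by
  classical
  set D := centralizer ((V x) : Set G) with hD
  have hxD : x ∈ D := mem_centralizer_iff.2 fun u hu => ((mem_V H hx).1 hu).2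
  obtain ⟨z, hz, hz1⟩ := V_ne_bot H hx
  have hd384 : Nat.card ↥D ∣ 384 := by
    rw [← (cent_two H (orderOf_eq_two ((mem_V H hx).1 hz).1 hz1)).1]
    exact Subgroup.card_dvd_of_le fun d hd => mem_centralizer_singleton_iff.2 (mem_centralizer_iff.1 hd z hz).symm
  have h3 : 3 ∣ Nat.card ↥D := hx ▸ Subgroup.orderOf_dvd_natCard D hxD
  obtain ⟨m, hm⟩ := h3
  have hm128 : m ∣ 128 := (Nat.mul_dvd_mul_iff_left (by norm_num : 0 < 3)).1
    (show 3 * m ∣ 3 * 128 from hm ▸ hd384)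
  have hm3 : ¬ 3 ∣ m := fun h => by have := h.trans hm128; norm_num at this
  obtain ⟨P, hP⟩ := (IsPGroup.of_card (p := 3) (n := 1) (by
    rw [Nat.card_zpowers, orderOf_mk, hx, pow_one]) : IsPGroup 3 ↥(zpowers (⟨x, hxD⟩ : ↥D))).exists_le_sylow
  have hP3 : Nat.card ↥(P : Subgroup ↥D) = 3 := by
    simpa using Cfsg.Lib.Small.card_sylow_of_factor P (a := 1) (m := m) (by rw [hm, pow_one]) hm3
  have hPe : zpowers (⟨x, hxD⟩ : ↥D) = (P : Subgroup ↥D) :=
    Subgroup.eq_of_le_of_card_ge hP (by rw [hP3, Nat.card_zpowers, orderOf_mk, hx])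
  have hN : normalizer (P : Set ↥D) ≤ centralizer (P : Set ↥D) := by
    intro d hd
    rw [mem_centralizer_iff]
    intro w hw
    have hw' : w ∈ zpowers (⟨x, hxD⟩ : ↥D) := hPe ▸ hw
    have hdx : d * ⟨x, hxD⟩ * d⁻¹ ∈ (P : Subgroup ↥D) :=
      (mem_normalizer_iff.1 (show d ∈ normalizer ((P : Subgroup ↥D) : Set ↥D) from hd) _).1
        (hPe ▸ mem_zpowers _)
    rw [← hPe] at hdx
    obtain ⟨k, hk⟩ := mem_zpowers_iff.1 hdx
    have hk' : (d : G) * x * (d : G)⁻¹ = x ^ (k % 3) := by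
      have e : x ^ k = (d : G) * x * (d : G)⁻¹ := by simpa using congrArg Subtype.val hk
      rw [← e, ← zpow_mod_orderOf, hx]; norm_num
    have hd1 : (d : G) * x = x * d := by
      rcases (show k % 3 = 0 ∨ k % 3 = 1 ∨ k % 3 = 2 by omega) with h | h | h <;> rw [h] at hk'
      · rw [zpow_zero] at hk'
        exact absurd (conj_eq_one_iff.1 hk') fun e => by simp [e] at hx
      · rw [zpow_one] at hk'; exact mul_inv_eq_iff_eq_mul.1 hk'
      · refine absurd ?_ (fun h' => inverter_moves H hx h'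
          fun u hu => (mem_centralizer_iff.1 d.2 u hu).symm)
        rw [hk', eq_inv_iff_mul_eq_one, ← zpow_add_one, ← cube_one hx]
        norm_cast
    obtain ⟨j, rfl⟩ := mem_zpowers_iff.1 hw'
    exact ((show Commute d ⟨x, hxD⟩ from Subtype.ext hd1).zpow_right j).eq.symm
  have hc := MonoidHom.ker_transferSylow_isComplement' P hN
  set φ := MonoidHom.transferSylow P hN
  set K := φ.ker
  have hK : Nat.card ↥K = m := by
    have := hc.card_mul
    rw [hP3, hm] at this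
    omega
  haveI hKn : K.Normal := φ.normal_ker
  clear_value φ
  set T := K.map D.subtype with hT
  have hTc : Nat.card ↥T = m := by rw [hT, Subgroup.card_map_of_injective D.subtype_injective, hK]
  have hmem : ∀ d, d ∈ T ↔ (∀ u ∈ V x, d * u = u * d) ∧ d ^ 128 = 1 := by
    intro d
    constructor
    · rintro ⟨c, hcK, rfl⟩
      refine ⟨fun u hu => (mem_centralizer_iff.1 c.2 u hu).symm, ?_⟩
      exact orderOf_dvd_iff_pow_eq_one.1 ((Subgroup.orderOf_dvd_natCard T ⟨c, hcK, rfl⟩).trans (hTc ▸ hm128))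
    · rintro ⟨h1, h2⟩
      refine ⟨⟨d, mem_centralizer_iff.2 fun u hu => (h1 u hu).symm⟩, ?_, rfl⟩
      rw [SetLike.mem_coe, MonoidHom.mem_ker]
      have ha : φ ⟨d, mem_centralizer_iff.2 fun u hu => (h1 u hu).symm⟩ ^ 128 = 1 := by
        rw [← map_pow, show (⟨d, _⟩ : ↥D) ^ 128 = 1 from Subtype.ext (by simpa using h2), map_one]
      refine orderOf_eq_one_iff.1 (Nat.dvd_one.1 ?_)
      have := Nat.dvd_gcd (orderOf_dvd_of_pow_eq_one ha) (hP3 ▸ _root_.orderOf_dvd_natCard (φ ⟨d, mem_centralizer_iff.2 fun u hu => (h1 u hu).symm⟩))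
      simpa using this
  refine ⟨T, ?_, hmem⟩
  have hinv : ∀ u ∈ T, x * u * x⁻¹ ∈ T := fun u hu => by
    obtain ⟨c, hcK, rfl⟩ := hu
    exact ⟨⟨x, hxD⟩ * c * ⟨x, hxD⟩⁻¹, hKn.conj_mem c hcK _, rfl⟩
  have hfix : T ⊓ centralizer ({x} : Set G) = V x := by
    refine le_antisymm (fun r hr => two_elem_cent H hx (mem_centralizer_singleton_iff.1 hr.2) ((hmem r).1 hr.1).2)
      fun r hr => ⟨(hmem r).2 ⟨fun u hu => V_comm H hx hr hu, V_two_elem H hx hr⟩,
        mem_centralizer_singleton_iff.2 ((mem_V H hx).1 hr).2⟩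
  have h4 : 4 ≤ m := by
    rw [← hTc, ← card_V H hx, ← hfix]
    exact Nat.le_of_dvd Nat.card_pos (Subgroup.card_dvd_of_le inf_le_left)
  have hmod := card_mod_three T hx hinv
  rw [hfix, card_V H hx, hTc] at hmod
  rw [hTc]
  have : ∀ d ∈ Nat.divisors 128, 4 ≤ d → d % 3 = 4 % 3 → d = 4 ∨ d = 16 ∨ d = 64 := by decide +kernel
  exact this m (Nat.mem_divisors.2 ⟨hm128, by norm_num⟩) h4 hmod

theorem mem_R {x : G} (hx : orderOf x = 3) {d : G} :
    d ∈ R x ↔ (∀ u ∈ V x, d * u = u * d) ∧ d ^ 128 = 1 := by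
  obtain ⟨T, -, hT⟩ := exists_R H hx
  have : R x = T := by
    rw [R, show {b : G | (∀ u ∈ V x, b * u = u * b) ∧ b ^ 128 = 1} = (T : Set G) from
      Set.ext fun b => (hT b).symm, closure_eq]
  rw [this, hT]

theorem card_R_cases {x : G} (hx : orderOf x = 3) :
    Nat.card ↥(R x) = 4 ∨ Nat.card ↥(R x) = 16 ∨ Nat.card ↥(R x) = 64 := by
  obtain ⟨T, hc, hT⟩ := exists_R H hx
  rwa [show R x = T from SetLike.ext fun a => (mem_R H hx).trans (hT a).symm]

theorem conj_mem_R {x : G} (hx : orderOf x = 3) (g : G) {d : G} (hd : d ∈ R x) : g * d * g⁻¹ ∈ R (g * x * g⁻¹) := by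
  have hx' : orderOf (g * x * g⁻¹) = 3 := by
    rw [show g * x * g⁻¹ = MulAut.conj g x from rfl, MulEquiv.orderOf_eq, hx]
  obtain ⟨h1, h2⟩ := (mem_R H hx).1 hd
  refine (mem_R H hx').2 ⟨fun u hu => ?_, by rw [conj_pow, h2]; group⟩
  have h := conj_mem_V H hx' g⁻¹ hu
  rw [inv_inv, show g⁻¹ * (g * x * g⁻¹) * g = x by group] at h
  have e := h1 _ h
  calc g * d * g⁻¹ * u = g * (d * (g⁻¹ * u * g)) * g⁻¹ := by group
    _ = u * (g * d * g⁻¹) := by rw [e]; group

theorem sylow_conj_R (S : Sylow 3 G) {x a : G} (hxS : x ∈ (S : Subgroup G)) (hx : x ≠ 1)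
    (haS : a ∈ (S : Subgroup G)) {v : G} (hv : v ∈ R x) : a * v * a⁻¹ ∈ R x := by
  have h := conj_mem_R H (sylow_three_elem H S hxS hx) a hv
  rwa [sylow_three_comm H S haS hxS, mul_inv_cancel_right] at h

theorem V_le_R {x y : G} (hx : orderOf x = 3) (hy : orderOf y = 3) (h : Adj x y) : V y ≤ R x := fun v hv =>
  (mem_R H hx).2 ⟨fun u hu => (h u hu v hv).symm, V_two_elem H hy hv⟩

theorem R_inter_cent {x : G} (hx : orderOf x = 3) : R x ⊓ centralizer ({x} : Set G) = V x :=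
  le_antisymm (fun r hr => two_elem_cent H hx (mem_centralizer_singleton_iff.1 hr.2) ((mem_R H hx).1 hr.1).2)
    fun r hr => ⟨V_le_R H hx hx (fun u hu v hv => V_comm H hx hu hv) hr,
      mem_centralizer_singleton_iff.2 ((mem_V H hx).1 hr).2⟩

/-- invariant overgroups of the four-group inside a group of 2-elements -/
theorem card_inv_two {x : G} (hx : orderOf x = 3) (T : Subgroup G) (hV : V x ≤ T)
    (hT2 : ∀ t ∈ T, t ^ 128 = 1) (hinv : ∀ u ∈ T, x * u * x⁻¹ ∈ T) :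
    Nat.card ↥T % 3 = 1 ∧ 4 ≤ Nat.card ↥T := by
  have hfix : T ⊓ centralizer ({x} : Set G) = V x :=
    le_antisymm (fun r hr => two_elem_cent H hx (mem_centralizer_singleton_iff.1 hr.2) (hT2 r hr.1))
      fun r hr => ⟨hV hr, mem_centralizer_singleton_iff.2 ((mem_V H hx).1 hr).2⟩
  have hmod := card_mod_three T hx hinv
  rw [hfix, card_V H hx] at hmod
  exact ⟨hmod, card_V H hx ▸ Nat.le_of_dvd Nat.card_pos (Subgroup.card_dvd_of_le hV)⟩

theorem grow_full {x : G} (hx : orderOf x = 3) (Q W : Subgroup G) (hQ : Nat.card ↥Q = 64)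
    (hQ2 : ∀ q ∈ Q, q ^ 128 = 1) (hW : Nat.card ↥W = 16) (hWQ : W ≤ Q) (hV : V x ≤ W)
    (hxQ : ∀ u ∈ Q, x * u * x⁻¹ ∈ Q) (hxW : ∀ u ∈ W, x * u * x⁻¹ ∈ W) : Q ≤ normalizer (W : Set G) := by
  obtain ⟨q, hq, hqW, hqN⟩ := grow Q W (IsPGroup.of_card (n := 6) (by rw [hQ]; rfl)) hWQ fun h => by
    have := Nat.le_of_dvd Nat.card_pos (Subgroup.card_dvd_of_le h); omega
  set T := Q ⊓ normalizer (W : Set G)
  have hWT : W ≤ T := fun w hw => ⟨hWQ hw, le_normalizer hw⟩
  have hxN := mem_normalizer_of_conj W hxW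
  obtain ⟨hmod, -⟩ := card_inv_two H hx T (hV.trans hWT) (fun t ht => hQ2 t ht.1)
    fun u hu => ⟨hxQ u hu.1, Subgroup.mul_mem _ (Subgroup.mul_mem _ hxN hu.2) (Subgroup.inv_mem _ hxN)⟩
  have hdvd : Nat.card ↥T ∣ 64 := hQ ▸ Subgroup.card_dvd_of_le inf_le_left
  have h16 : 16 ∣ Nat.card ↥T := hW ▸ Subgroup.card_dvd_of_le hWT
  have hgt : Nat.card ↥T ≠ 16 := fun e => hqW
    ((Subgroup.eq_of_le_of_card_ge hWT (by rw [e, hW])) ▸ (⟨hq, hqN⟩ : q ∈ T))
  have h64 : Nat.card ↥T = 64 := by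
    have : ∀ d ∈ Nat.divisors 64, 16 ∣ d → d % 3 = 1 → d ≠ 16 → d = 64 := by decide +kernel
    exact this _ (Nat.mem_divisors.2 ⟨hdvd, by norm_num⟩) h16 hmod hgt
  rw [← Subgroup.eq_of_le_of_card_ge (inf_le_left : T ≤ Q) (by rw [h64, hQ])]
  exact inf_le_right

/-- the 2-core of the centraliser of an involution -/
theorem exists_core {x z : G} (hx : orderOf x = 3) (hz : z ∈ V x) (hz1 : z ≠ 1) :
    ∃ Q : Subgroup G, Nat.card ↥Q = 64 ∧ (∀ u ∈ Q, u ^ 128 = 1) ∧
      (∀ c, c * z = z * c → ∀ u ∈ Q, c * u * c⁻¹ ∈ Q) ∧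
      (∀ T : Subgroup G, (∀ t ∈ T, t * z = z * t ∧ t ^ 128 = 1 ∧ x * t * x⁻¹ ∈ T) → T ≤ Q) ∧
      ∃ n, n * z = z * n ∧ n * x * n⁻¹ = x⁻¹ ∧
        ∀ M : Subgroup G, Q ≤ M → x ∈ M → n ∈ M → centralizer ({z} : Set G) ≤ M := by
  classical
  obtain ⟨S, hxS⟩ := exists_sylow_mem H hx
  have hx1 : x ≠ 1 := fun e => by simp [e] at hx
  obtain ⟨i, hio, hin, hi⟩ := exists_inverter H S
  obtain ⟨a, haS, ha⟩ : ∃ a ∈ (S : Subgroup G), a ∉ zpowers x := by
    by_contra! h
    have := Nat.le_of_dvd (by rw [Nat.card_zpowers, hx]; norm_num) (Subgroup.card_dvd_of_le h)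
    rw [card_sylow_three H S, Nat.card_zpowers, hx] at this
    omega
  have hiz : i * z * i⁻¹ ∈ V x := by
    have h := conj_mem_V H hx i hz
    rwa [hi x hxS, V_inv H hx] at h
  have hiz1 : i * z * i⁻¹ ≠ 1 := fun e => hz1 (conj_eq_one_iff.1 e)
  obtain ⟨y, hy, hyz⟩ : ∃ y ∈ (S : Subgroup G), z = y * (i * z * i⁻¹) * y⁻¹ := by
    rcases sylow_trans H S hxS hx1 haS ha hiz hiz1 hz hz1 with e | e | e
    · exact ⟨1, one_mem _, by simpa using e⟩
    · exact ⟨a, haS, e⟩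
    · exact ⟨a⁻¹, inv_mem haS, by rw [inv_inv]; exact e⟩
  set n := y * i with hn
  have hnz : n * z = z * n := by
    have : n * z * n⁻¹ = z := by
      conv_rhs => rw [hyz]
      rw [hn]; group
    exact mul_inv_eq_iff_eq_mul.1 this
  have hnx : n * x * n⁻¹ = x⁻¹ := by
    rw [hn, show y * i * x * (y * i)⁻¹ = y * (i * x * i⁻¹) * y⁻¹ by group, hi x hxS,
      sylow_three_comm H S hy (inv_mem hxS), mul_inv_cancel_right]
  set C := centralizer ({z} : Set G) with hCdef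
  have hzo := orderOf_eq_two ((mem_V H hx).1 hz).1 hz1
  have hC := (cent_two H hzo).1
  set x' : ↥C := ⟨x, mem_centralizer_singleton_iff.2 ((mem_V H hx).1 hz).2.symm⟩ with hx'
  set n' : ↥C := ⟨n, mem_centralizer_singleton_iff.2 hnz⟩ with hn'
  have hx'o : orderOf x' = 3 := by rw [hx', orderOf_mk, hx]
  have hnx' : n' * x' * n'⁻¹ = x'⁻¹ := Subtype.ext (by simpa [hx', hn'] using hnx)
  obtain ⟨P⟩ : Nonempty (Sylow 2 ↥C) := inferInstance
  have hP : Nat.card ↥(P : Subgroup ↥C) = 128 := by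
    simpa using Cfsg.Lib.Small.card_sylow_of_factor P (a := 7) (m := 3) (by rw [hC]; norm_num) (by norm_num)
  have hcard3 : Nat.card (Sylow 2 ↥C) = 3 := by
    have hi3 : (P : Subgroup ↥C).index = 3 := by
      have := Subgroup.card_mul_index (P : Subgroup ↥C); rw [hP, hC] at this; omega
    have hd := P.card_dvd_index
    rw [hi3] at hd
    rcases (Nat.dvd_prime Nat.prime_three).1 hd with h | h
    · exfalso
      haveI : Subsingleton (Sylow 2 ↥C) := (Nat.card_eq_one_iff_unique.1 h).1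
      haveI : (P : Subgroup ↥C).Normal := P.normal_of_subsingleton
      haveI : IsCyclic (↥C ⧸ (P : Subgroup ↥C)) :=
        isCyclic_of_prime_card (p := 3) (by rw [← Subgroup.index_eq_card, hi3])
      have hxq : QuotientGroup.mk' (P : Subgroup ↥C) x' = (QuotientGroup.mk' (P : Subgroup ↥C) x')⁻¹ := by
        let : CommGroup (↥C ⧸ (P : Subgroup ↥C)) := IsCyclic.commGroup
        rw [← map_inv, ← hnx', map_mul, map_mul, map_inv, mul_right_comm, mul_inv_cancel, one_mul]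
      have hmem : x' * x' ∈ (P : Subgroup ↥C) := by
        rw [← QuotientGroup.eq_one_iff]
        have := mul_eq_one_iff_eq_inv.2 hxq
        exact this
      have hx3 := cube_one hx'o
      have : x' = (x' * x') * (x' * x') := by rw [pow_four_cube, hx3, one_mul]
      have hd := Subgroup.orderOf_dvd_natCard _ (this ▸ mul_mem hmem hmem : x' ∈ (P : Subgroup ↥C))
      rw [hP, hx'o] at hd
      norm_num at hd
    · exact h
  obtain ⟨e⟩ : Nonempty (Sylow 2 ↥C ≃ Fin 3) := ⟨(Finite.equivFin _).trans (finCongr hcard3)⟩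
  set φ : ↥C →* Equiv.Perm (Fin 3) :=
    e.permCongrHom.toMonoidHom.comp (MulAction.toPermHom ↥C (Sylow 2 ↥C))
  have hr6 : Nat.card ↥φ.range ∣ 6 := by
    have : Nat.card (Equiv.Perm (Fin 3)) = 6 := by rw [Nat.card_perm, Nat.card_fin]; rfl
    exact this ▸ Subgroup.card_subgroup_dvd_card _
  have hr3 : 3 ∣ Nat.card ↥φ.range := by
    have hsur : Function.Surjective (fun r : ↥φ.range => (r : Equiv.Perm (Fin 3)) (e P)) := fun j => by
      obtain ⟨c, hc⟩ := MulAction.exists_smul_eq ↥C P (e.symm j)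
      refine ⟨⟨φ c, c, rfl⟩, ?_⟩
      show e (c • e.symm (e P)) = j
      rw [Equiv.symm_apply_apply, hc, Equiv.apply_symm_apply]
    have h3 := Nat.card_le_card_of_surjective _ hsur
    rw [Nat.card_fin] at h3
    have h128 : Nat.card ↥φ.range ∣ 384 := hC ▸ Subgroup.card_range_dvd φ
    have : ∀ d ∈ Nat.divisors 6, 3 ≤ d → 3 ∣ d := by decide +kernel
    exact this _ (Nat.mem_divisors.2 ⟨hr6, by norm_num⟩) h3
  have hk : Nat.card ↥φ.ker * Nat.card ↥φ.range = 384 := by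
    rw [← Subgroup.index_ker, Subgroup.card_mul_index, hC]
  have hp : φ x' ≠ 1 := fun h => by
    have hd := Subgroup.orderOf_dvd_natCard φ.ker (MonoidHom.mem_ker.2 h)
    rw [hx'o] at hd
    have := Nat.mul_dvd_mul hd hr3
    rw [hk] at this
    norm_num at this
  have hp3 : φ x' * φ x' * φ x' = 1 := by
    rw [← map_mul, ← map_mul, ← pow_two, ← pow_succ, cube_one hx'o, map_one]
  have hgen := perm_three_gen (φ x') (φ n') hp3 hp (by rw [← map_inv, ← map_mul, ← map_mul, hnx', map_inv])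
  have htop : φ.range = ⊤ := by
    rw [eq_top_iff]
    rintro r -
    rcases hgen r with h | h | h | h | h | h <;> subst h
    · exact one_mem _
    · exact ⟨x', rfl⟩
    · exact ⟨x' * x', map_mul φ _ _⟩
    · exact ⟨n', rfl⟩
    · exact ⟨x' * n', map_mul φ _ _⟩
    · exact ⟨x' * x' * n', by simp⟩
  have hker : Nat.card ↥φ.ker = 64 := by
    rw [htop, Nat.card_congr Subgroup.topEquiv.toEquiv, Nat.card_perm, Nat.card_fin] at hk
    rw [show Nat.factorial 3 = 6 from rfl] at hk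
    omega
  clear_value φ
  set Q := φ.ker.map C.subtype with hQ
  have hQc : Nat.card ↥Q = 64 := by rw [hQ, Subgroup.card_map_of_injective C.subtype_injective, hker]
  refine ⟨Q, hQc, fun u hu => ?_, fun c hc u hu => ?_, fun T hT t ht => ?_, n, hnz, hnx, fun M hQM hxM hnM c hc => ?_⟩
  · exact orderOf_dvd_iff_pow_eq_one.1 ((Subgroup.orderOf_dvd_natCard Q hu).trans (by rw [hQc]; norm_num))
  · obtain ⟨w, hw, rfl⟩ := hu
    exact ⟨⟨c, mem_centralizer_singleton_iff.2 hc⟩ * w * ⟨c, mem_centralizer_singleton_iff.2 hc⟩⁻¹,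
      (φ.normal_ker).conj_mem w hw _, rfl⟩
  · obtain ⟨htz, ht2, htx⟩ := hT t ht
    set t' : ↥C := ⟨t, mem_centralizer_singleton_iff.2 htz⟩
    refine ⟨t', ?_, rfl⟩
    have h128 : ∀ s : ↥C, (s : G) ^ 128 = 1 → φ s * φ s = 1 := fun s hs => by
      have h6 : φ s ^ 6 = 1 := by
        rw [← orderOf_dvd_iff_pow_eq_one]
        have : Nat.card (Equiv.Perm (Fin 3)) = 6 := by rw [Nat.card_perm, Nat.card_fin]; rfl
        exact this ▸ _root_.orderOf_dvd_natCard (φ s)
      have hs' : φ s ^ 128 = 1 := by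
        rw [← map_pow, show s ^ 128 = 1 from Subtype.ext (by simpa using hs), map_one]
      rw [show 128 = 6 * 21 + 2 from rfl, pow_add, pow_mul, h6, one_pow, one_mul, pow_two] at hs'
      exact hs'
    have hprod : ((t' * (x' * t' * x'⁻¹) : ↥C) : G) ^ 128 = 1 := (hT _ (mul_mem ht htx)).2.1
    have h2 := h128 _ hprod
    simp only [map_mul, map_inv] at h2
    exact MonoidHom.mem_ker.2 (perm_three_two (φ x') (φ t') ⟨hp3, hp, h128 t' ht2, h2⟩)
  · have hker' : ∀ w : ↥C, φ w = 1 → (w : G) ∈ M := fun w hw => hQM ⟨w, MonoidHom.mem_ker.2 hw, rfl⟩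
    have key : ∀ w : ↥C, φ w = φ ⟨c, hc⟩ → (w : G) ∈ M → c ∈ M := fun w hw hwM => by
      have := hker' (w⁻¹ * ⟨c, hc⟩) (by rw [map_mul, map_inv, hw, inv_mul_cancel])
      have h2 := mul_mem hwM this
      simpa using h2
    rcases hgen (φ ⟨c, hc⟩) with h | h | h | h | h | h
    · exact key 1 (by rw [map_one, h]) (one_mem _)
    · exact key x' h.symm hxM
    · exact key (x' * x') (by rw [map_mul, h]) (mul_mem hxM hxM)
    · exact key n' h.symm hnM
    · exact key (x' * n') (by rw [map_mul, h]) (mul_mem hxM hnM)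
    · exact key (x' * x' * n') (by rw [map_mul, map_mul, h]) (mul_mem (mul_mem hxM hxM) hnM)

theorem card_R_ne_four {x : G} (hx : orderOf x = 3) : Nat.card ↥(R x) ≠ 4 := by
  classical
  intro h4
  obtain ⟨z, hz, hz1⟩ := V_ne_bot H hx
  obtain ⟨Q, hQc, hQ2, hQn, hQmax, -⟩ := exists_core H hx hz hz1
  have hVR : V x ≤ R x := V_le_R H hx hx fun u hu v hv => V_comm H hx hu hv
  have hRV : R x = V x := (Subgroup.eq_of_le_of_card_ge hVR (by rw [h4, card_V H hx])).symm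
  have hVinv : ∀ u ∈ V x, x * u * x⁻¹ ∈ V x := fun u hu => by
    rw [← ((mem_V H hx).1 hu).2, mul_inv_cancel_right]; exact hu
  have hVQ : V x ≤ Q := hQmax _ fun t ht => ⟨V_comm H hx ht hz, V_two_elem H hx ht, hVinv t ht⟩
  obtain ⟨q, hq, hqV, hqN⟩ := grow Q (V x) (IsPGroup.of_card (n := 6) (by rw [hQc]; rfl)) hVQ fun h => by
    have := Nat.le_of_dvd Nat.card_pos (Subgroup.card_dvd_of_le h)
    rw [hQc, card_V H hx] at this
    omega
  set T := Q ⊓ normalizer ((V x) : Set G)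
  have hVT : V x ≤ T := fun w hw => ⟨hVQ hw, le_normalizer hw⟩
  have hxN := mem_normalizer_of_conj (V x) hVinv
  obtain ⟨hmod, -⟩ := card_inv_two H hx T hVT (fun t ht => hQ2 t ht.1)
    fun u hu => ⟨hQn x ((mem_V H hx).1 hz).2.symm u hu.1, Subgroup.mul_mem _ (Subgroup.mul_mem _ hxN hu.2) (Subgroup.inv_mem _ hxN)⟩
  have hdvd : Nat.card ↥T ∣ 64 := hQc ▸ Subgroup.card_dvd_of_le inf_le_left
  have hne : Nat.card ↥T ≠ 4 := fun e => hqV
    ((Subgroup.eq_of_le_of_card_ge hVT (by rw [e, card_V H hx])) ▸ (⟨hq, hqN⟩ : q ∈ T))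
  have h4T : 4 ∣ Nat.card ↥T := card_V H hx ▸ Subgroup.card_dvd_of_le hVT
  let X : Set G := {t | orderOf t = 2 ∧ t * x = x * t}
  have hX : ∀ b ∈ T, ∀ t ∈ X, b * t * b⁻¹ ∈ X := fun b hb t ht => by
    have h1 : t ∈ V x := (mem_V H hx).2 ⟨mul_self_one ht.1, ht.2⟩
    refine ⟨?_, ((mem_V H hx).1 ((mem_normalizer_iff.1 hb.2 t).1 h1)).2⟩
    rw [show b * t * b⁻¹ = MulAut.conj b t from rfl, MulEquiv.orderOf_eq, ht.1]
  letI : MulAction ↥T ↥X := conjAct T X hX
  set ψ := MulAction.toPermHom ↥T ↥X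
  have hr : Nat.card ↥ψ.range ∣ 6 := by
    have : Nat.card (Equiv.Perm ↥X) = 6 := by
      rw [Nat.card_perm, show Nat.card ↥X = 3 from (cent_three H hx).2]; rfl
    exact this ▸ Subgroup.card_subgroup_dvd_card _
  have hker : Nat.card ↥ψ.ker ∣ 4 := by
    rw [← card_V H hx, ← Subgroup.card_map_of_injective (f := T.subtype) T.subtype_injective]
    refine Subgroup.card_dvd_of_le ?_
    rintro _ ⟨⟨b, hb⟩, hbk, rfl⟩
    rw [← hRV]
    refine (mem_R H hx).2 ⟨fun u hu => ?_, hQ2 b hb.1⟩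
    show b * u = u * b
    by_cases hu1 : u = 1
    · rw [hu1, mul_one, one_mul]
    · have hu' : u ∈ X := ⟨orderOf_eq_two ((mem_V H hx).1 hu).1 hu1, ((mem_V H hx).1 hu).2⟩
      have := congrArg Subtype.val (Equiv.ext_iff.1 (MonoidHom.mem_ker.1 hbk) ⟨u, hu'⟩)
      exact mul_inv_eq_iff_eq_mul.1 this
  have hk : Nat.card ↥ψ.ker * Nat.card ↥ψ.range = Nat.card ↥T := by
    rw [← Subgroup.index_ker, Subgroup.card_mul_index]
  have h24 : Nat.card ↥T ∣ 24 := hk ▸ Nat.mul_dvd_mul hker hr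
  have : ∀ d ∈ Nat.divisors 24, d ∣ 64 → 4 ∣ d → d % 3 = 1 → d = 4 := by decide +kernel
  exact hne (this _ (Nat.mem_divisors.2 ⟨h24, by norm_num⟩) hdvd h4T hmod)

end Cfsg.Lib.M22Nse
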