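import Cfsg.Agent.M22Nse.Local3

/-!
The four lines of a Sylow 3-subgroup are paired, and each pair gives an elementary abelian group of order sixteen.
-/

set_option autoImplicit false
set_option linter.unusedSectionVars false
set_option linter.unusedVariables false
set_option linter.style.haveILetI false

namespace Cfsg.Lib.M22Nse

open Subgroup Cfsg.Lib.SameOrder

universe u

variable {G : Type u} [Group G] [Finite G] (H : Fields G)

theorem cent_inv (y : G) : centralizer ({y⁻¹} : Set G) = centralizer ({y} : Set G) := by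
  ext g
  simp only [mem_centralizer_singleton_iff]
  exact Commute.inv_right_iff (a := g) (b := y)

include H

theorem line_inter (S : Sylow 3 G) {x a : G} (hxS : x ∈ (S : Subgroup G)) (hx : x ≠ 1)
    (haS : a ∈ (S : Subgroup G)) (ha : a ∉ zpowers x) {g : G} (hgx : g ∈ zpowers x) (hga : g ∈ zpowers a) :
    g = 1 := by
  by_contra hg
  have hgS : g ∈ (S : Subgroup G) := zpowers_le.2 hxS hgx
  have h3 := sylow_three_elem H S hgS hg
  have e1 : zpowers g = zpowers x := Subgroup.eq_of_le_of_card_ge (zpowers_le.2 hgx)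
    (by rw [Nat.card_zpowers, Nat.card_zpowers, h3, sylow_three_elem H S hxS hx])
  have e2 : zpowers g = zpowers a := Subgroup.eq_of_le_of_card_ge (zpowers_le.2 hga)
    (by rw [Nat.card_zpowers, Nat.card_zpowers, h3, sylow_three_elem H S haS fun e => ha (e ▸ one_mem _)])
  exact ha (e1 ▸ e2.symm ▸ mem_zpowers a)

theorem not_line (S : Sylow 3 G) {x a p : G} (hxS : x ∈ (S : Subgroup G)) (hx : x ≠ 1)
    (hpS : p ∈ (S : Subgroup G)) (ha : a ∉ zpowers x) (hxp : x ∈ zpowers p) (hap : a ∈ zpowers p) : False := by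
  have hp : p ≠ 1 := fun e => hx (by
    rw [e, zpowers_one_eq_bot, mem_bot] at hxp; exact hxp)
  have e1 : zpowers x = zpowers p := Subgroup.eq_of_le_of_card_ge (zpowers_le.2 hxp)
    (by rw [Nat.card_zpowers, Nat.card_zpowers, sylow_three_elem H S hxS hx, sylow_three_elem H S hpS hp])
  exact ha (e1.symm ▸ hap)

theorem lines_ne (S : Sylow 3 G) {x a : G} (hxS : x ∈ (S : Subgroup G)) (hx : x ≠ 1)
    (haS : a ∈ (S : Subgroup G)) (ha : a ∉ zpowers x) :
    x * a ∉ zpowers x ∧ x * a⁻¹ ∉ zpowers x :=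
  ⟨fun h => ha (by simpa using mul_mem (inv_mem (mem_zpowers x)) h),
    fun h => ha (by simpa using inv_mem (mul_mem (inv_mem (mem_zpowers x)) h))⟩

theorem fix_card (S : Sylow 3 G) {x y : G} (hxS : x ∈ (S : Subgroup G)) (hx : x ≠ 1)
    (hyS : y ∈ (S : Subgroup G)) (hy : y ∉ zpowers x) :
    (Adj x y → Nat.card ↥(R x ⊓ centralizer ({y} : Set G)) = 4) ∧
      (¬ Adj x y → Nat.card ↥(R x ⊓ centralizer ({y} : Set G)) = 1) := by
  have hy1 : y ≠ 1 := fun e => hy (e ▸ one_mem _)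
  have hxo := sylow_three_elem H S hxS hx
  have hyo := sylow_three_elem H S hyS hy1
  have hsub : ∀ r ∈ R x ⊓ centralizer ({y} : Set G), r ∈ V y := fun r hr =>
    two_elem_cent H hyo (mem_centralizer_singleton_iff.1 hr.2) ((mem_R H hxo).1 hr.1).2
  constructor
  · intro h
    rw [← card_V H hyo]
    congr 2
    exact le_antisymm hsub fun r hr =>
      ⟨V_le_R H hxo hyo h hr, mem_centralizer_singleton_iff.2 ((mem_V H hyo).1 hr).2⟩
  · intro h
    rw [Subgroup.card_eq_one]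
    refine (Subgroup.eq_bot_iff_forall _).2 fun r hr => ?_
    by_contra hr1
    refine h fun u hu v hv => ?_
    have hxy : x ∉ zpowers y := fun hm => by
      have e : zpowers x = zpowers y := Subgroup.eq_of_le_of_card_ge (zpowers_le.2 hm)
        (by rw [Nat.card_zpowers, Nat.card_zpowers, hxo, hyo])
      exact hy (e.symm ▸ mem_zpowers y)
    have hvR : v ∈ R x := by
      by_cases hv1 : v = 1
      · rw [hv1]; exact one_mem _
      rcases sylow_trans H S hyS hy1 hxS hxy (hsub r hr) hr1 hv hv1 with e | e | e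
      · exact e ▸ hr.1
      · exact e ▸ sylow_conj_R H S hxS hx hxS hr.1
      · have := sylow_conj_R H S hxS hx (inv_mem hxS) hr.1
        rw [inv_inv] at this
        exact e ▸ this
    exact (((mem_R H hxo).1 hvR).1 u hu).symm

/-- the orbit count of a Sylow 3-subgroup on the 2-part of the centraliser of a four-group -/
theorem count_R (S : Sylow 3 G) {x a : G} (hxS : x ∈ (S : Subgroup G)) (hx : x ≠ 1)
    (haS : a ∈ (S : Subgroup G)) (ha : a ∉ zpowers x) :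
    9 ∣ Nat.card ↥(R x) + 2 * (4 + Nat.card ↥(R x ⊓ centralizer ({a} : Set G)) +
      Nat.card ↥(R x ⊓ centralizer ({x * a} : Set G)) + Nat.card ↥(R x ⊓ centralizer ({x * a⁻¹} : Set G))) := by
  classical
  have hxo := sylow_three_elem H S hxS hx
  have hao := sylow_three_elem H S haS fun e => ha (e ▸ one_mem _)
  letI : MulAction ↥(S : Subgroup G) ↥(R x) := conjAct (S : Subgroup G) (R x : Set G)
    fun c hc t ht => sylow_conj_R H S hxS hx hc ht
  have := Fintype.ofFinite ↥(S : Subgroup G)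
  have := Fintype.ofFinite (Quotient (MulAction.orbitRel ↥(S : Subgroup G) ↥(R x)))
  have := Fintype.ofFinite ↥(R x)
  set f : G → ℕ := fun y => Nat.card ↥(R x ⊓ centralizer ({y} : Set G)) with hf
  have hfix : ∀ s : ↥(S : Subgroup G), Fintype.card ↑(MulAction.fixedBy ↥(R x) s) = f s.1 := by
    intro s
    rw [← Nat.card_eq_fintype_card]
    refine Nat.card_eq_of_bijective (fun t => (⟨(t.1 : G), t.1.2, mem_centralizer_singleton_iff.2 ?_⟩ :
      ↥(R x ⊓ centralizer ({(s : G)} : Set G)))) ⟨?_, ?_⟩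
    · have e : (s : G) * (t.1 : G) * (s : G)⁻¹ = t.1 := congrArg Subtype.val t.2
      exact (mul_inv_eq_iff_eq_mul.1 e).symm
    · exact fun p q e => Subtype.ext (Subtype.ext (congrArg
        (fun w : ↥(R x ⊓ centralizer ({(s : G)} : Set G)) => (w : G)) e))
    · rintro ⟨u, hu, hc⟩
      refine ⟨⟨⟨u, hu⟩, Subtype.ext ?_⟩, rfl⟩
      show (s : G) * u * (s : G)⁻¹ = u
      rw [← mem_centralizer_singleton_iff.1 hc, mul_inv_cancel_right]
  let e : Fin 3 × Fin 3 → ↥(S : Subgroup G) := fun p =>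
    ⟨x ^ (p.1 : ℕ) * a ^ (p.2 : ℕ), mul_mem (pow_mem hxS _) (pow_mem haS _)⟩
  have he : Function.Bijective e := by
    refine (Nat.bijective_iff_injective_and_card e).2 ⟨?_, by
      rw [Nat.card_prod, Nat.card_fin, card_sylow_three H S]⟩
    rintro ⟨i, j⟩ ⟨i', j'⟩ h
    have h' : x ^ (i : ℕ) * a ^ (j : ℕ) = x ^ (i' : ℕ) * a ^ (j' : ℕ) := congrArg Subtype.val h
    have h2 : (x ^ (i' : ℕ))⁻¹ * x ^ (i : ℕ) = a ^ (j' : ℕ) * (a ^ (j : ℕ))⁻¹ := by
      rw [eq_mul_inv_iff_mul_eq, mul_assoc, h', inv_mul_cancel_left]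
    have h1 : (x ^ (i' : ℕ))⁻¹ * x ^ (i : ℕ) = 1 := line_inter H S hxS hx haS ha
      (mul_mem (inv_mem (pow_mem (mem_zpowers x) _)) (pow_mem (mem_zpowers x) _))
      (h2 ▸ mul_mem (pow_mem (mem_zpowers a) _) (inv_mem (pow_mem (mem_zpowers a) _)))
    have ei : i = i' := Fin.ext (pow_injOn_Iio_orderOf (x := x) (by rw [hxo]; exact i.2)
      (by rw [hxo]; exact i'.2) (inv_mul_eq_one.1 h1).symm)
    have ej : j = j' := Fin.ext (pow_injOn_Iio_orderOf (x := a) (by rw [hao]; exact j.2)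
      (by rw [hao]; exact j'.2) (mul_inv_eq_one.1 (h2 ▸ h1)).symm)
    rw [ei, ej]
  have hb := MulAction.sum_card_fixedBy_eq_card_orbits_mul_card_group ↥(S : Subgroup G) ↥(R x)
  simp only [hfix] at hb
  rw [show Fintype.card ↥(S : Subgroup G) = 9 by rw [← Nat.card_eq_fintype_card]; exact card_sylow_three H S,
    ← Fintype.sum_bijective e he (fun p => f (x ^ (p.1 : ℕ) * a ^ (p.2 : ℕ))) (fun s => f s.1) (fun p => rfl),
    Fintype.sum_prod_type] at hb
  simp only [Fin.sum_univ_three, Fin.isValue, Fin.val_zero, Fin.val_one, Fin.val_two, pow_zero, pow_one, one_mul,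
    mul_one] at hb
  have hinv : ∀ y, f y⁻¹ = f y := fun y => by simp only [hf, cent_inv y]
  have hc := sylow_three_comm H S hxS haS
  have x2 : x ^ 2 = x⁻¹ := eq_inv_of_mul_eq_one_left (by rw [← pow_succ]; exact cube_one hxo)
  have a2 : a ^ 2 = a⁻¹ := eq_inv_of_mul_eq_one_left (by rw [← pow_succ]; exact cube_one hao)
  have f1 : f 1 = Nat.card ↥(R x) := by
    simp only [hf]
    congr 2
    exact inf_eq_left.2 fun r hr => mem_centralizer_singleton_iff.2 (by rw [mul_one, one_mul])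
  have fx : f x = 4 := by simp only [hf]; rw [R_inter_cent H hxo, card_V H hxo]
  have e1 : x⁻¹ * a = (x * a⁻¹)⁻¹ := by
    rw [mul_inv_rev, inv_inv]; exact ((show Commute x a from hc).inv_left).eq
  have e2 : x⁻¹ * a⁻¹ = (x * a)⁻¹ := by rw [hc, mul_inv_rev]
  rw [x2, a2, e1, e2, hinv, hinv, hinv, hinv, f1, fx] at hb
  refine ⟨Fintype.card (Quotient (MulAction.orbitRel ↥(S : Subgroup G) ↥(R x))), ?_⟩
  simp only [hf] at hb ⊢
  rw [mul_comm 9 _]
  linarith [hb]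

/-- how many of the other three lines are adjacent to a given one -/
theorem degree (S : Sylow 3 G) {x a : G} (hxS : x ∈ (S : Subgroup G)) (hx : x ≠ 1)
    (haS : a ∈ (S : Subgroup G)) (ha : a ∉ zpowers x) :
    (Nat.card ↥(R x) = 16 → (Adj x a ∧ ¬ Adj x (x * a) ∧ ¬ Adj x (x * a⁻¹)) ∨
      (¬ Adj x a ∧ Adj x (x * a) ∧ ¬ Adj x (x * a⁻¹)) ∨ (¬ Adj x a ∧ ¬ Adj x (x * a) ∧ Adj x (x * a⁻¹))) ∧
    (Nat.card ↥(R x) = 64 → (¬ Adj x a ∧ Adj x (x * a) ∧ Adj x (x * a⁻¹)) ∨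
      (Adj x a ∧ ¬ Adj x (x * a) ∧ Adj x (x * a⁻¹)) ∨ (Adj x a ∧ Adj x (x * a) ∧ ¬ Adj x (x * a⁻¹))) := by
  classical
  have h := count_R H S hxS hx haS ha
  obtain ⟨hb, hc⟩ := lines_ne H S hxS hx haS ha
  obtain ⟨p1, q1⟩ := fix_card H S hxS hx haS ha
  obtain ⟨p2, q2⟩ := fix_card H S hxS hx (mul_mem hxS haS) hb
  obtain ⟨p3, q3⟩ := fix_card H S hxS hx (mul_mem hxS (inv_mem haS)) hc
  constructor <;> intro hR <;> rw [hR] at h <;>
    by_cases A : Adj x a <;> by_cases B : Adj x (x * a) <;> by_cases C : Adj x (x * a⁻¹) <;>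
    simp only [A, B, C, not_true_eq_false, not_false_eq_true, false_implies, forall_const] at p1 q1 p2 q2 p3 q3 <;>
    simp only [*] at h ⊢ <;> simp_all

theorem card_R_eq {x y : G} (hx : orderOf x = 3) (hy : orderOf y = 3) : Nat.card ↥(R x) = Nat.card ↥(R y) := by
  have key : ∀ {p q : G}, orderOf p = 3 → orderOf q = 3 → Nat.card ↥(R p) ≤ Nat.card ↥(R q) := by
    intro p q hp hq
    obtain ⟨g, rfl⟩ := isConj_iff.1 (conj_three H hp hq)
    refine Nat.card_le_card_of_injective (fun d => ⟨g * d.1 * g⁻¹, conj_mem_R H hp g d.2⟩) fun d d' e => ?_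
    exact Subtype.ext (mul_left_cancel (mul_right_cancel (congrArg Subtype.val e)))
  exact le_antisymm (key hx hy) (key hy hx)

theorem exists_off (S : Sylow 3 G) {x : G} (hxS : x ∈ (S : Subgroup G)) (hx : x ≠ 1) :
    ∃ a ∈ (S : Subgroup G), a ∉ zpowers x := by
  by_contra! h
  have := Nat.le_of_dvd Nat.card_pos (Subgroup.card_dvd_of_le h)
  rw [card_sylow_three H S, Nat.card_zpowers, sylow_three_elem H S hxS hx] at this
  omega

/-- the product of two adjacent four-groups -/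
theorem exists_W (S : Sylow 3 G) {p q : G} (hpS : p ∈ (S : Subgroup G)) (hp : p ≠ 1) (hqS : q ∈ (S : Subgroup G))
    (hq : q ∉ zpowers p) (h : Adj p q) :
    ∃ W : Subgroup G, Nat.card ↥W = 16 ∧ (∀ g, g ∈ W ↔ ∃ u ∈ V p, ∃ v ∈ V q, g = u * v) ∧
      (∀ g ∈ W, g * g = 1) ∧ ∀ g ∈ W, ∀ k ∈ W, g * k = k * g := by
  classical
  have hpo := sylow_three_elem H S hpS hp
  have hqo := sylow_three_elem H S hqS fun e => hq (e ▸ one_mem _)
  have hmul : ∀ u ∈ V p, ∀ v ∈ V q, ∀ u' ∈ V p, ∀ v' ∈ V q, u * v * (u' * v') = u * u' * (v * v') := by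
    intro u hu v hv u' hu' v' hv'
    rw [mul_assoc, ← mul_assoc v, ← h u' hu' v hv]
    group
  let W : Subgroup G :=
    { carrier := {g | ∃ u ∈ V p, ∃ v ∈ V q, g = u * v}
      one_mem' := ⟨1, one_mem _, 1, one_mem _, by rw [mul_one]⟩
      mul_mem' := by
        rintro _ _ ⟨u, hu, v, hv, rfl⟩ ⟨u', hu', v', hv', rfl⟩
        exact ⟨u * u', mul_mem hu hu', v * v', mul_mem hv hv', hmul u hu v hv u' hu' v' hv'⟩
      inv_mem' := by
        rintro _ ⟨u, hu, v, hv, rfl⟩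
        exact ⟨u⁻¹, inv_mem hu, v⁻¹, inv_mem hv, by
          rw [mul_inv_rev, h u⁻¹ (inv_mem hu) v⁻¹ (inv_mem hv)]⟩ }
  refine ⟨W, ?_, fun g => Iff.rfl, ?_, ?_⟩
  · let f : ↥(V p) × ↥(V q) → ↥W := fun w => ⟨w.1.1 * w.2.1, w.1.1, w.1.2, w.2.1, w.2.2, rfl⟩
    have hb : Function.Bijective f := by
      constructor
      · rintro ⟨⟨u, hu⟩, ⟨v, hv⟩⟩ ⟨⟨u', hu'⟩, ⟨v', hv'⟩⟩ e
        have e' : u * v = u' * v' := congrArg Subtype.val e
        have h1 : u'⁻¹ * u = v' * v⁻¹ := by rw [eq_mul_inv_iff_mul_eq, mul_assoc, e', inv_mul_cancel_left]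
        have h2 := V_inter H S hpS hp hqS hq (mul_mem (inv_mem hu') hu) (h1 ▸ mul_mem hv' (inv_mem hv))
        have hu2 : u = u' := (inv_mul_eq_one.1 h2).symm
        subst hu2
        obtain rfl := mul_left_cancel e'
        rfl
      · rintro ⟨g, u, hu, v, hv, rfl⟩
        exact ⟨⟨⟨u, hu⟩, ⟨v, hv⟩⟩, rfl⟩
    rw [← Nat.card_congr (Equiv.ofBijective f hb), Nat.card_prod, card_V H hpo, card_V H hqo]
  · rintro _ ⟨u, hu, v, hv, rfl⟩
    rw [hmul u hu v hv u hu v hv, ((mem_V H hpo).1 hu).1, ((mem_V H hqo).1 hv).1, one_mul]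
  · rintro _ ⟨u, hu, v, hv, rfl⟩ _ ⟨u', hu', v', hv', rfl⟩
    rw [hmul u hu v hv u' hu' v' hv', hmul u' hu' v' hv' u hu v hv, V_comm H hpo hu hu', V_comm H hqo hv hv']

theorem W_le_R (S : Sylow 3 G) {p q : G} (hpS : p ∈ (S : Subgroup G)) (hp : p ≠ 1) (hqS : q ∈ (S : Subgroup G))
    (hq : q ∉ zpowers p) (h : Adj p q) {W : Subgroup G} (hW : ∀ g, g ∈ W ↔ ∃ u ∈ V p, ∃ v ∈ V q, g = u * v) :
    W ≤ R p := by
  have hpo := sylow_three_elem H S hpS hp
  have hqo := sylow_three_elem H S hqS fun e => hq (e ▸ one_mem _)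
  intro g hg
  obtain ⟨u, hu, v, hv, rfl⟩ := (hW g).1 hg
  exact mul_mem (V_le_R H hpo hpo (fun a ha b hb => V_comm H hpo ha hb) hu) (V_le_R H hpo hqo h hv)

theorem W_conj (S : Sylow 3 G) {p q c : G} (hpS : p ∈ (S : Subgroup G)) (hp : p ≠ 1) (hqS : q ∈ (S : Subgroup G))
    (hq : q ∉ zpowers p) (hcS : c ∈ (S : Subgroup G)) {W : Subgroup G}
    (hW : ∀ g, g ∈ W ↔ ∃ u ∈ V p, ∃ v ∈ V q, g = u * v) : ∀ g ∈ W, c * g * c⁻¹ ∈ W := by
  intro g hg
  obtain ⟨u, hu, v, hv, rfl⟩ := (hW g).1 hg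
  exact (hW _).2 ⟨_, sylow_conj_V H S hpS hp hcS hu, _,
    sylow_conj_V H S hqS (fun e => hq (e ▸ one_mem _)) hcS hv, by group⟩

/-- two nonadjacent four-groups with a common neighbour have their commutators in that neighbour -/
theorem comm_mem_common (S : Sylow 3 G) {a x c : G} (haS : a ∈ (S : Subgroup G)) (ha : a ≠ 1)
    (hxS : x ∈ (S : Subgroup G)) (hxa : x ∉ zpowers a) (hcS : c ∈ (S : Subgroup G)) (hca : c ∉ zpowers a)
    (hax : Adj a x) (hac : Adj a c) (hxc : ¬ Adj x c) (hR : Nat.card ↥(R a) = 64) {u w : G} (hu : u ∈ V x)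
    (hw : w ∈ V c) : u * w * u⁻¹ * w⁻¹ ∈ V a := by
  have hao := sylow_three_elem H S haS ha
  have hxo := sylow_three_elem H S hxS fun e => hxa (e ▸ one_mem _)
  have hco := sylow_three_elem H S hcS fun e => hca (e ▸ one_mem _)
  obtain ⟨W, hW16, hW, hWsq, hWc⟩ := exists_W H S haS ha hxS hxa hax
  obtain ⟨W', hW'16, hW', hW'sq, hW'c⟩ := exists_W H S haS ha hcS hca hac
  have hle := W_le_R H S haS ha hxS hxa hax hW
  have hle' := W_le_R H S haS ha hcS hca hac hW'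
  have hVW : V a ≤ W := fun v hv => (hW v).2 ⟨v, hv, 1, one_mem _, by rw [mul_one]⟩
  have hVW' : V a ≤ W' := fun v hv => (hW' v).2 ⟨v, hv, 1, one_mem _, by rw [mul_one]⟩
  have hR2 : ∀ q ∈ R a, q ^ 128 = 1 := fun q hq => ((mem_R H hao).1 hq).2
  have hN := grow_full H hao (R a) W hR hR2 hW16 hle hVW (fun v hv => sylow_conj_R H S haS ha haS hv)
    (W_conj H S haS ha hxS hxa haS hW)
  have hN' := grow_full H hao (R a) W' hR hR2 hW'16 hle' hVW' (fun v hv => sylow_conj_R H S haS ha haS hv)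
    (W_conj H S haS ha hcS hca haS hW')
  have huW : u ∈ W := (hW u).2 ⟨1, one_mem _, u, hu, by rw [one_mul]⟩
  have hwW : w ∈ W' := (hW' w).2 ⟨1, one_mem _, w, hw, by rw [one_mul]⟩
  have hmem : u * w * u⁻¹ * w⁻¹ ∈ W ⊓ W' := by
    refine ⟨?_, W'.mul_mem ((mem_normalizer_iff.1 (hN' (hle huW)) w).1 hwW) (W'.inv_mem hwW)⟩
    rw [mul_assoc (u * w), mul_assoc u, ← mul_assoc w]
    exact W.mul_mem huW ((mem_normalizer_iff.1 (hN (hle' hwW)) u⁻¹).1 (W.inv_mem huW))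
  obtain ⟨hmod, hge⟩ := card_inv_two H hao (W ⊓ W') (le_inf hVW hVW') (fun t ht => hR2 t (hle ht.1))
    fun v hv => ⟨W_conj H S haS ha hxS hxa haS hW v hv.1, W_conj H S haS ha hcS hca haS hW' v hv.2⟩
  have hne : Nat.card ↥(W ⊓ W') ≠ 16 := fun e => hxc fun u' hu' v' hv' => by
    have e1 : W ⊓ W' = W := Subgroup.eq_of_le_of_card_ge inf_le_left (by rw [e, hW16])
    have e2 : W ⊓ W' = W' := Subgroup.eq_of_le_of_card_ge inf_le_right (by rw [e, hW'16])
    refine hWc u' ((hW u').2 ⟨1, one_mem _, u', hu', by rw [one_mul]⟩) v' ?_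
    rw [← e1, e2]
    exact (hW' v').2 ⟨1, one_mem _, v', hv', by rw [one_mul]⟩
  have : ∀ d ∈ Nat.divisors 16, d % 3 = 1 → 4 ≤ d → d ≠ 16 → d = 4 := by decide +kernel
  have h4 := this _ (Nat.mem_divisors.2 ⟨hW16 ▸ Subgroup.card_dvd_of_le inf_le_left, by norm_num⟩) hmod hge hne
  rw [Subgroup.eq_of_le_of_card_ge (le_inf hVW hVW') (by rw [h4, card_V H hao])]
  exact hmem

theorem adj_inv_right (S : Sylow 3 G) {x y : G} (hyS : y ∈ (S : Subgroup G)) (hy : y ≠ 1) :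
    Adj x y⁻¹ ↔ Adj x y := by rw [Adj, Adj, V_inv H (sylow_three_elem H S hyS hy)]

theorem line_ids (S : Sylow 3 G) {x a : G} (hxS : x ∈ (S : Subgroup G)) (haS : a ∈ (S : Subgroup G)) (ha : a ≠ 1) :
    x * a⁻¹ * a = x ∧ x * a⁻¹ * a⁻¹ = x * a ∧ x * a * a = x * a⁻¹ ∧ x * a * a⁻¹ = x ∧
      a * x⁻¹ = (x * a⁻¹)⁻¹ ∧ a * x = x * a := by
  have a2 : a * a = a⁻¹ := eq_inv_of_mul_eq_one_left (by
    have := cube_one (sylow_three_elem H S haS ha); rwa [pow_succ, pow_two] at this)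
  refine ⟨by group, ?_, by rw [mul_assoc, a2], by group, by rw [mul_inv_rev, inv_inv], sylow_three_comm H S haS hxS⟩
  rw [mul_assoc, ← mul_inv_rev, a2, inv_inv]

theorem card_R_ne_sixty_four {x : G} (hx : orderOf x = 3) : Nat.card ↥(R x) ≠ 64 := by
  intro h64
  obtain ⟨S, hxS⟩ := exists_sylow_mem H hx
  have hx1 : x ≠ 1 := fun e => by simp [e] at hx
  have hRall : ∀ {y}, y ∈ (S : Subgroup G) → y ≠ 1 → Nat.card ↥(R y) = 64 := fun hy hy1 =>
    (card_R_eq H (sylow_three_elem H S hy hy1) hx).trans h64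
  obtain ⟨a₀, ha₀S, ha₀⟩ := exists_off H S hxS hx1
  -- choose `a` adjacent to `x` with `x * a⁻¹` not adjacent to it
  obtain ⟨a, haS, ha, hA, hB, hC⟩ : ∃ a ∈ (S : Subgroup G), a ∉ zpowers x ∧ Adj x a ∧ Adj x (x * a) ∧
      ¬ Adj x (x * a⁻¹) := by
    obtain ⟨l1, l2⟩ := lines_ne H S hxS hx1 ha₀S ha₀
    have hn1 : a₀ ≠ 1 := fun e => ha₀ (e ▸ one_mem _)
    rcases (degree H S hxS hx1 ha₀S ha₀).2 h64 with ⟨A, B, C⟩ | ⟨A, B, C⟩ | ⟨A, B, C⟩
    · -- `a := x * a₀`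
      refine ⟨x * a₀, mul_mem hxS ha₀S, l1, B, ?_, ?_⟩
      · have e : x * (x * a₀) = (x * a₀⁻¹)⁻¹ := by
          rw [mul_inv_rev, inv_inv, ← mul_assoc,
            show x * x = x⁻¹ from eq_inv_of_mul_eq_one_left (by
              have := cube_one hx; rwa [pow_succ, pow_two] at this)]
          exact sylow_three_comm H S (inv_mem hxS) ha₀S
        rw [e, adj_inv_right H S (mul_mem hxS (inv_mem ha₀S)) fun e' => l2 (e' ▸ one_mem _)]
        exact C
      · have e : x * (x * a₀)⁻¹ = a₀⁻¹ := by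
          rw [mul_inv_rev, ← mul_assoc, sylow_three_comm H S hxS (inv_mem ha₀S), mul_inv_cancel_right]
        rw [e, adj_inv_right H S ha₀S hn1]
        exact A
    · exact ⟨a₀⁻¹, inv_mem ha₀S, fun h => ha₀ (by simpa using inv_mem h), (adj_inv_right H S ha₀S hn1).2 A, C,
        by rw [inv_inv]; exact B⟩
    · exact ⟨a₀, ha₀S, ha₀, A, B, C⟩
  obtain ⟨hbne, hcne⟩ := lines_ne H S hxS hx1 haS ha
  have ha1 : a ≠ 1 := fun e => ha (e ▸ one_mem _)
  have hbS := mul_mem hxS haS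
  have hcS := mul_mem hxS (inv_mem haS)
  have hb1 : x * a ≠ 1 := fun e => hbne (e ▸ one_mem _)
  have hc1 : x * a⁻¹ ≠ 1 := fun e => hcne (e ▸ one_mem _)
  obtain ⟨i1, i2, i3, i4, -, -⟩ := line_ids H S hxS haS ha1
  have hac : a ∉ zpowers (x * a⁻¹) := fun h =>
    not_line H S hxS hx1 hcS ha (by have := mul_mem (mem_zpowers (x * a⁻¹)) h; rwa [i1] at this) h
  have hd := (degree H S hcS hc1 haS hac).2 (hRall hcS hc1)
  rw [i1, i2] at hd
  have hnc : ¬ Adj (x * a⁻¹) x := fun h => hC (adj_symm h)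
  have hca : Adj (x * a⁻¹) a ∧ Adj (x * a⁻¹) (x * a) := by
    rcases hd with h | h | h
    · exact absurd h.2.1 hnc
    · exact ⟨h.1, h.2.2⟩
    · exact absurd h.2.1 hnc
  refine hC fun u hu w hw => ?_
  have hba : a ∉ zpowers (x * a) := fun h =>
    not_line H S hxS hx1 hbS ha (by have := mul_mem (mem_zpowers (x * a)) (inv_mem h); rwa [i4] at this) h
  have k1 := comm_mem_common H S haS ha1 hxS
    (fun h => not_line H S hxS hx1 haS ha h (mem_zpowers a)) hcS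
    (fun h => not_line H S hxS hx1 haS ha (by have := mul_mem h (mem_zpowers a); rwa [i1] at this) (mem_zpowers a))
    (adj_symm hA) (adj_symm hca.1) hC (hRall haS ha1) hu hw
  have k2 := comm_mem_common H S hbS hb1 hxS
    (fun h => not_line H S hxS hx1 hbS ha h (by
      have := mul_mem (inv_mem h) (mem_zpowers (x * a)); rwa [inv_mul_cancel_left] at this)) hcS
    (fun h => hba (by
      have e : (x * a)⁻¹ * (x * a⁻¹) = a := by
        rw [mul_inv_rev, mul_assoc, inv_mul_cancel_left, ← mul_inv_rev]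
        exact inv_eq_of_mul_eq_one_right (by
          have := cube_one (sylow_three_elem H S haS ha1); rwa [pow_succ, pow_two] at this)
      have := mul_mem (inv_mem (mem_zpowers (x * a))) h
      rwa [e] at this))
    (adj_symm hB) (adj_symm hca.2) hC (hRall hbS hb1) hu hw
  have := V_inter H S hbS hb1 haS hba k2 k1
  exact mul_inv_eq_iff_eq_mul.1 (mul_inv_eq_one.1 this)

theorem card_R {x : G} (hx : orderOf x = 3) : Nat.card ↥(R x) = 16 := by
  rcases card_R_cases H hx with h | h | h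
  · exact absurd h (card_R_ne_four H hx)
  · exact h
  · exact absurd h (card_R_ne_sixty_four H hx)

/-- each line has exactly one mate -/
theorem exists_mate (S : Sylow 3 G) {x : G} (hxS : x ∈ (S : Subgroup G)) (hx : x ≠ 1) :
    ∃ a ∈ (S : Subgroup G), a ∉ zpowers x ∧ Adj x a ∧ ¬ Adj x (x * a) ∧ ¬ Adj x (x * a⁻¹) ∧
      ¬ Adj a (x * a) ∧ Adj (x * a) (x * a⁻¹) := by
  have h16 : ∀ {y}, y ∈ (S : Subgroup G) → y ≠ 1 → Nat.card ↥(R y) = 16 := fun hy hy1 =>
    card_R H (sylow_three_elem H S hy hy1)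
  obtain ⟨a₀, ha₀S, ha₀⟩ := exists_off H S hxS hx
  obtain ⟨a, haS, ha, hA⟩ : ∃ a ∈ (S : Subgroup G), a ∉ zpowers x ∧ Adj x a := by
    obtain ⟨l1, l2⟩ := lines_ne H S hxS hx ha₀S ha₀
    rcases (degree H S hxS hx ha₀S ha₀).1 (h16 hxS hx) with h | h | h
    · exact ⟨a₀, ha₀S, ha₀, h.1⟩
    · exact ⟨_, mul_mem hxS ha₀S, l1, h.2.1⟩
    · exact ⟨_, mul_mem hxS (inv_mem ha₀S), l2, h.2.2⟩
  obtain ⟨hbne, hcne⟩ := lines_ne H S hxS hx haS ha
  have ha1 : a ≠ 1 := fun e => ha (e ▸ one_mem _)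
  obtain ⟨i1, i2, i3, i4, i5, i6⟩ := line_ids H S hxS haS ha1
  have hd1 : ¬ Adj x (x * a) ∧ ¬ Adj x (x * a⁻¹) := by
    rcases (degree H S hxS hx haS ha).1 (h16 hxS hx) with h | h | h
    · exact h.2
    · exact absurd hA h.1
    · exact absurd hA h.1
  have hd2 : ¬ Adj a (x * a) := by
    have hxa : x ∉ zpowers a := fun h => not_line H S hxS hx haS ha h (mem_zpowers a)
    have hd := (degree H S haS ha1 hxS hxa).1 (h16 haS ha1)
    rw [i6] at hd
    rcases hd with h | h | h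
    · exact h.2.1
    · exact absurd (adj_symm hA) h.1
    · exact absurd (adj_symm hA) h.1
  refine ⟨a, haS, ha, hA, hd1.1, hd1.2, hd2, ?_⟩
  have hbS := mul_mem hxS haS
  have hb1 : x * a ≠ 1 := fun e => hbne (e ▸ one_mem _)
  have hab : a ∉ zpowers (x * a) := fun h => not_line H S hxS hx hbS ha (by
    have := mul_mem (mem_zpowers (x * a)) (inv_mem h); rwa [i4] at this) h
  have hd := (degree H S hbS hb1 haS hab).1 (h16 hbS hb1)
  rw [i3, i4] at hd
  rcases hd with h | h | h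
  · exact absurd (adj_symm h.1) hd2
  · exact h.2.1
  · exact absurd (adj_symm h.2.2) hd1.1

/-- adjacent lines give one elementary abelian group of order sixteen -/
theorem R_eq (S : Sylow 3 G) {p q : G} (hpS : p ∈ (S : Subgroup G)) (hp : p ≠ 1) (hqS : q ∈ (S : Subgroup G))
    (hq : q ∉ zpowers p) (h : Adj p q) :
    R p = R q ∧ (∀ g, g ∈ R p ↔ ∃ u ∈ V p, ∃ v ∈ V q, g = u * v) ∧ (∀ g ∈ R p, g * g = 1) ∧
      ∀ g ∈ R p, ∀ k ∈ R p, g * k = k * g := by
  obtain ⟨W, hW16, hW, hWsq, hWc⟩ := exists_W H S hpS hp hqS hq h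
  have hq1 : q ≠ 1 := fun e => hq (e ▸ one_mem _)
  have e1 : W = R p := Subgroup.eq_of_le_of_card_ge (W_le_R H S hpS hp hqS hq h hW)
    (by rw [card_R H (sylow_three_elem H S hpS hp), hW16])
  have hW' : ∀ g, g ∈ W ↔ ∃ v ∈ V q, ∃ u ∈ V p, g = v * u := fun g => (hW g).trans
    ⟨fun ⟨u, hu, v, hv, e⟩ => ⟨v, hv, u, hu, e.trans (h u hu v hv)⟩,
      fun ⟨v, hv, u, hu, e⟩ => ⟨u, hu, v, hv, e.trans (h u hu v hv).symm⟩⟩
  have hpq : p ∉ zpowers q := fun hm => by
    have e : zpowers p = zpowers q := Subgroup.eq_of_le_of_card_ge (zpowers_le.2 hm)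
      (by rw [Nat.card_zpowers, Nat.card_zpowers, sylow_three_elem H S hpS hp, sylow_three_elem H S hqS hq1])
    exact hq (e.symm ▸ mem_zpowers q)
  have e2 : W = R q := Subgroup.eq_of_le_of_card_ge (W_le_R H S hqS hq1 hpS hpq (adj_symm h) hW')
    (by rw [card_R H (sylow_three_elem H S hqS hq1), hW16])
  exact ⟨e1.symm.trans e2, e1 ▸ hW, e1 ▸ hWsq, e1 ▸ hWc⟩

end Cfsg.Lib.M22Nse
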