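import Cfsg.Agent.M22Nse.Local4

/-!
The normaliser of the elementary abelian subgroup of order sixteen.
-/

set_option autoImplicit false
set_option linter.unusedSectionVars false
set_option linter.unusedVariables false
set_option linter.style.haveILetI false

namespace Cfsg.Lib.M22Nse

open Subgroup Cfsg.Lib.SameOrder

universe u

variable {G : Type u} [Group G] [Finite G]

local instance fact_two_local5 : Fact (Nat.Prime 2) := ⟨Nat.prime_two⟩
local instance fact_three_local5 : Fact (Nat.Prime 3) := ⟨Nat.prime_three⟩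

/-- a Sylow 3-subgroup with its two pairs of adjacent lines -/
structure Frame (G : Type u) [Group G] where
  /-- the Sylow subgroup -/
  S : Sylow 3 G
  /-- the first line -/
  x : G
  /-- its mate -/
  a : G
  xS : x ∈ (S : Subgroup G)
  x1 : x ≠ 1
  aS : a ∈ (S : Subgroup G)
  a_not : a ∉ zpowers x
  adj : Adj x a
  nxb : ¬ Adj x (x * a)
  nxc : ¬ Adj x (x * a⁻¹)
  nab : ¬ Adj a (x * a)
  adj' : Adj (x * a) (x * a⁻¹)

/-- the first group of order sixteen -/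
def Frame.E (F : Frame G) : Subgroup G := R F.x

/-- the second group of order sixteen -/
def Frame.E' (F : Frame G) : Subgroup G := R (F.x * F.a)

variable (H : Fields G)
include H

theorem R_inv {x : G} (hx : orderOf x = 3) : R x⁻¹ = R x := by rw [R, R, V_inv H hx]

theorem Frame.x_order (F : Frame G) : orderOf F.x = 3 := sylow_three_elem H F.S F.xS F.x1

theorem Frame.a_ne (F : Frame G) : F.a ≠ 1 := fun e => F.a_not (e ▸ one_mem _)

theorem Frame.a_order (F : Frame G) : orderOf F.a = 3 := sylow_three_elem H F.S F.aS (F.a_ne H)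

theorem Frame.b_not (F : Frame G) : F.x * F.a ∉ zpowers F.x := (lines_ne H F.S F.xS F.x1 F.aS F.a_not).1

theorem Frame.c_not (F : Frame G) : F.x * F.a⁻¹ ∉ zpowers F.x := (lines_ne H F.S F.xS F.x1 F.aS F.a_not).2

theorem Frame.b_ne (F : Frame G) : F.x * F.a ≠ 1 := fun e => F.b_not H (e ▸ one_mem _)

theorem Frame.c_ne (F : Frame G) : F.x * F.a⁻¹ ≠ 1 := fun e => F.c_not H (e ▸ one_mem _)

theorem Frame.b_order (F : Frame G) : orderOf (F.x * F.a) = 3 :=
  sylow_three_elem H F.S (mul_mem F.xS F.aS) (F.b_ne H)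

theorem Frame.c_not_b (F : Frame G) : F.x * F.a⁻¹ ∉ zpowers (F.x * F.a) := fun h => by
  have hbS := mul_mem F.xS F.aS
  obtain ⟨i1, i2, i3, i4, i5, i6⟩ := line_ids H F.S F.xS F.aS (F.a_ne H)
  have ha : F.a ∈ zpowers (F.x * F.a) := by
    have e : (F.x * F.a)⁻¹ * (F.x * F.a⁻¹) = F.a := by
      rw [mul_inv_rev, mul_assoc, inv_mul_cancel_left, ← mul_inv_rev]
      exact inv_eq_of_mul_eq_one_right (by
        have := cube_one (F.a_order H); rwa [pow_succ, pow_two] at this)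
    have := mul_mem (inv_mem (mem_zpowers (F.x * F.a))) h
    rwa [e] at this
  refine not_line H F.S F.xS F.x1 hbS F.a_not ?_ ha
  have := mul_mem (mem_zpowers (F.x * F.a)) (inv_mem ha)
  rwa [i4] at this

theorem exists_frame : Nonempty (Frame G) := by
  obtain ⟨g, hg⟩ := exists_prime_orderOf_dvd_card' (G := G) 3 (by rw [H.card]; norm_num)
  obtain ⟨S, hS⟩ := exists_sylow_mem H hg
  have h1 : g ≠ 1 := fun e => by simp [e] at hg
  obtain ⟨a, h⟩ := exists_mate H S hS h1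
  exact ⟨⟨S, g, a, hS, h1, h.1, h.2.1, h.2.2.1, h.2.2.2.1, h.2.2.2.2.1, h.2.2.2.2.2.1, h.2.2.2.2.2.2⟩⟩

theorem Frame.E_eq (F : Frame G) : F.E = R F.a ∧ (∀ g, g ∈ F.E ↔ ∃ u ∈ V F.x, ∃ v ∈ V F.a, g = u * v) ∧
    (∀ g ∈ F.E, g * g = 1) ∧ ∀ g ∈ F.E, ∀ k ∈ F.E, g * k = k * g :=
  R_eq H F.S F.xS F.x1 F.aS F.a_not F.adj

theorem Frame.E'_eq (F : Frame G) : F.E' = R (F.x * F.a⁻¹) ∧
    (∀ g, g ∈ F.E' ↔ ∃ u ∈ V (F.x * F.a), ∃ v ∈ V (F.x * F.a⁻¹), g = u * v) ∧
    (∀ g ∈ F.E', g * g = 1) ∧ ∀ g ∈ F.E', ∀ k ∈ F.E', g * k = k * g :=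
  R_eq H F.S (mul_mem F.xS F.aS) (F.b_ne H) (mul_mem F.xS (inv_mem F.aS)) (F.c_not_b H) F.adj'

theorem Frame.card_E (F : Frame G) : Nat.card ↥F.E = 16 := card_R H (F.x_order H)

theorem Frame.card_E' (F : Frame G) : Nat.card ↥F.E' = 16 := card_R H (F.b_order H)

theorem Frame.Vx_le (F : Frame G) : V F.x ≤ F.E :=
  V_le_R H (F.x_order H) (F.x_order H) fun _ hu _ hv => V_comm H (F.x_order H) hu hv

theorem Frame.Va_le (F : Frame G) : V F.a ≤ F.E := V_le_R H (F.x_order H) (F.a_order H) F.adj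

theorem Frame.nac (F : Frame G) : ¬ Adj F.a (F.x * F.a⁻¹) := fun h => F.nab fun u hu v hv => by
  have hcS := mul_mem F.xS (inv_mem F.aS)
  have hco := sylow_three_elem H F.S hcS (F.c_ne H)
  have h1 : v ∈ R (F.x * F.a⁻¹) := V_le_R H hco (F.b_order H) (adj_symm F.adj') hv
  have h2 : u ∈ R (F.x * F.a⁻¹) := V_le_R H hco (F.a_order H) (adj_symm h) hu
  rw [← (F.E'_eq H).1] at h1 h2
  exact (F.E'_eq H).2.2.2 u h2 v h1

/-- the frame of the other pair -/
theorem Frame.exists_swap (F : Frame G) : ∃ F' : Frame G, F'.S = F.S ∧ F'.x = F.x * F.a ∧ F'.a = F.x * F.a⁻¹ ∧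
    F'.E = F.E' ∧ F'.E' = F.E := by
  have hbS := mul_mem F.xS F.aS
  have hcS := mul_mem F.xS (inv_mem F.aS)
  have hx2 : F.x * F.x = F.x⁻¹ := eq_inv_of_mul_eq_one_left (by
    have := cube_one (F.x_order H); rwa [pow_succ, pow_two] at this)
  have ha2 : F.a * F.a = F.a⁻¹ := eq_inv_of_mul_eq_one_left (by
    have := cube_one (F.a_order H); rwa [pow_succ, pow_two] at this)
  have e1 : F.x * F.a * (F.x * F.a⁻¹) = F.x⁻¹ := by
    rw [mul_assoc, ← mul_assoc F.a, ← sylow_three_comm H F.S F.xS F.aS, mul_assoc F.x F.a, mul_inv_cancel,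
      mul_one, hx2]
  have e2 : F.x * F.a * (F.x * F.a⁻¹)⁻¹ = F.a⁻¹ := by
    rw [mul_inv_rev, inv_inv, mul_assoc, ← mul_assoc F.a, ha2,
      sylow_three_comm H F.S (inv_mem F.aS) (inv_mem F.xS), mul_inv_cancel_left]
  refine ⟨⟨F.S, F.x * F.a, F.x * F.a⁻¹, hbS, F.b_ne H, hcS, F.c_not_b H, F.adj', ?_, ?_, ?_, ?_⟩,
    rfl, rfl, rfl, rfl, ?_⟩
  · rw [e1, adj_inv_right H F.S F.xS F.x1]
    exact fun h => F.nxb (adj_symm h)
  · rw [e2, adj_inv_right H F.S F.aS (F.a_ne H)]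
    exact fun h => F.nab (adj_symm h)
  · rw [e1, adj_inv_right H F.S F.xS F.x1]
    exact fun h => F.nxc (adj_symm h)
  · rw [e1, e2, adj_inv_right H F.S F.aS (F.a_ne H)]
    exact fun u hu v hv => by rw [V_inv H (F.x_order H)] at hu; exact F.adj u hu v hv
  · show R _ = R _
    rw [e1, R_inv H (F.x_order H)]

theorem Frame.sylow_conj_E (F : Frame G) {c v : G} (hc : c ∈ (F.S : Subgroup G)) (hv : v ∈ F.E) :
    c * v * c⁻¹ ∈ F.E := sylow_conj_R H F.S F.xS F.x1 hc hv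

theorem Frame.sylow_conj_E' (F : Frame G) {c v : G} (hc : c ∈ (F.S : Subgroup G)) (hv : v ∈ F.E') :
    c * v * c⁻¹ ∈ F.E' := sylow_conj_R H F.S (mul_mem F.xS F.aS) (F.b_ne H) hc hv

theorem Frame.sylow_le (F : Frame G) : (F.S : Subgroup G) ≤ normalizer (F.E : Set G) := fun c hc =>
  mem_normalizer_of_conj _ fun v hv => F.sylow_conj_E H hc hv

/-- an element of the normaliser of the Sylow subgroup exchanging the two lines of the pair -/
theorem Frame.exists_sigma (F : Frame G) : ∃ n ∈ normalizer ((F.S : Subgroup G) : Set G),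
    n * F.x * n⁻¹ = F.a ∧ n * F.a * n⁻¹ = F.x⁻¹ ∧ n ∈ normalizer (F.E : Set G) := by
  obtain ⟨n, hn, hnx⟩ := norm_trans H F.S F.xS F.x1 F.aS (F.a_ne H)
  set a' := n * F.a * n⁻¹ with ha'
  have ha'S : a' ∈ (F.S : Subgroup G) := (mem_normalizer_iff.1 hn _).1 F.aS
  have ha'1 : a' ≠ 1 := fun e => F.a_ne H (conj_eq_one_iff.1 e)
  have hadj : Adj F.a a' := fun u hu v hv => by
    have hu' := conj_mem_V H (F.a_order H) n⁻¹ (a := v)
    have h1 : n⁻¹ * u * n ∈ V F.x := by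
      have := conj_mem_V H (F.a_order H) n⁻¹ hu
      rwa [inv_inv, ← hnx, show n⁻¹ * (n * F.x * n⁻¹) * n = F.x by group] at this
    have h2 : n⁻¹ * v * n ∈ V F.a := by
      have := conj_mem_V H (sylow_three_elem H F.S ha'S ha'1) n⁻¹ hv
      rwa [inv_inv, ha', show n⁻¹ * (n * F.a * n⁻¹) * n = F.a by group] at this
    have e := F.adj _ h1 _ h2
    calc u * v = n * ((n⁻¹ * u * n) * (n⁻¹ * v * n)) * n⁻¹ := by group
      _ = v * u := by rw [e]; group
  have hneg : n * F.x * n⁻¹ ≠ F.x := fun e => F.a_not (by rw [← hnx, e]; exact mem_zpowers _)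
  have hline : a' ∉ zpowers F.a := fun h => by
    obtain ⟨k, hk⟩ := mem_zpowers_iff.1 h
    refine F.a_not ?_
    have e : F.x ^ k = F.a := by
      apply (MulAut.conj n).injective
      rw [map_zpow]
      simp only [MulAut.conj_apply]
      rw [hnx]; exact hk
    exact e ▸ zpow_mem (mem_zpowers F.x) k
  have hx : a' = F.x ∨ a' = F.x⁻¹ := by
    have hbS := mul_mem F.xS F.aS
    have hcS := mul_mem F.xS (inv_mem F.aS)
    obtain ⟨i, j, hij⟩ : ∃ i j : Fin 3, a' = F.x ^ (i : ℕ) * F.a ^ (j : ℕ) := by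
      let e : Fin 3 × Fin 3 → ↥(F.S : Subgroup G) := fun p =>
        ⟨F.x ^ (p.1 : ℕ) * F.a ^ (p.2 : ℕ), mul_mem (pow_mem F.xS _) (pow_mem F.aS _)⟩
      have he : Function.Bijective e := by
        refine (Nat.bijective_iff_injective_and_card e).2 ⟨?_, by
          rw [Nat.card_prod, Nat.card_fin, card_sylow_three H F.S]⟩
        rintro ⟨i, j⟩ ⟨i', j'⟩ h
        have h' : F.x ^ (i : ℕ) * F.a ^ (j : ℕ) = F.x ^ (i' : ℕ) * F.a ^ (j' : ℕ) := congrArg Subtype.val h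
        have h2 : (F.x ^ (i' : ℕ))⁻¹ * F.x ^ (i : ℕ) = F.a ^ (j' : ℕ) * (F.a ^ (j : ℕ))⁻¹ := by
          rw [eq_mul_inv_iff_mul_eq, mul_assoc, h', inv_mul_cancel_left]
        have h1 : (F.x ^ (i' : ℕ))⁻¹ * F.x ^ (i : ℕ) = 1 := line_inter H F.S F.xS F.x1 F.aS F.a_not
          (mul_mem (inv_mem (pow_mem (mem_zpowers F.x) _)) (pow_mem (mem_zpowers F.x) _))
          (h2 ▸ mul_mem (pow_mem (mem_zpowers F.a) _) (inv_mem (pow_mem (mem_zpowers F.a) _)))
        have ei : i = i' := Fin.ext (pow_injOn_Iio_orderOf (x := F.x) (by rw [F.x_order H]; exact i.2)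
          (by rw [F.x_order H]; exact i'.2) (inv_mul_eq_one.1 h1).symm)
        have ej : j = j' := Fin.ext (pow_injOn_Iio_orderOf (x := F.a) (by rw [F.a_order H]; exact j.2)
          (by rw [F.a_order H]; exact j'.2) (mul_inv_eq_one.1 (h2 ▸ h1)).symm)
        rw [ei, ej]
      obtain ⟨⟨i, j⟩, h⟩ := he.2 ⟨a', ha'S⟩
      exact ⟨i, j, (congrArg Subtype.val h).symm⟩
    have hc := sylow_three_comm H F.S F.xS F.aS
    have x2 : F.x ^ 2 = F.x⁻¹ := eq_inv_of_mul_eq_one_left (by rw [← pow_succ]; exact cube_one (F.x_order H))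
    have a2 : F.a ^ 2 = F.a⁻¹ := eq_inv_of_mul_eq_one_left (by rw [← pow_succ]; exact cube_one (F.a_order H))
    fin_cases i <;> fin_cases j <;> simp only [pow_zero, pow_one, one_mul, mul_one, x2, a2] at hij
    · exact absurd hij ha'1
    · exact absurd (hij ▸ mem_zpowers F.a) hline
    · exact absurd (hij ▸ inv_mem (mem_zpowers F.a)) hline
    · exact Or.inl hij
    · exact absurd (hij ▸ hadj) F.nab
    · exact absurd (hij ▸ hadj) (F.nac H)
    · exact Or.inr hij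
    · refine absurd ((adj_inv_right H F.S hcS (F.c_ne H)).1 ?_) (F.nac H)
      have e : F.x⁻¹ * F.a = (F.x * F.a⁻¹)⁻¹ := by
        rw [mul_inv_rev, inv_inv]; exact ((show Commute F.x F.a from hc).inv_left).eq
      rw [← e, ← hij]; exact hadj
    · refine absurd ((adj_inv_right H F.S hbS (F.b_ne H)).1 ?_) F.nab
      have e : F.x⁻¹ * F.a⁻¹ = (F.x * F.a)⁻¹ := by rw [hc, mul_inv_rev]
      rw [← e, ← hij]; exact hadj
  have hxinv : a' = F.x⁻¹ := by
    rcases hx with h | h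
    · exfalso
      have hfix : n * (F.x * F.a) = F.x * F.a * n := by
        have : n * (F.x * F.a) * n⁻¹ = F.x * F.a := by
          rw [show n * (F.x * F.a) * n⁻¹ = (n * F.x * n⁻¹) * (n * F.a * n⁻¹) by group, hnx, ← ha', h,
            sylow_three_comm H F.S F.aS F.xS]
        exact mul_inv_eq_iff_eq_mul.1 this
      have hnS := norm_cent H F.S hn (mul_mem F.xS F.aS) (F.b_ne H) hfix
      exact hneg (by rw [sylow_three_comm H F.S hnS F.xS, mul_inv_cancel_right])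
    · exact h
  refine ⟨n, hn, hnx, hxinv, mem_normalizer_of_conj _ fun v hv => ?_⟩
  have := conj_mem_R H (F.x_order H) n hv
  rw [hnx, ← (F.E_eq H).1] at this
  exact this

/-- an invariant subgroup meeting both four-groups trivially is trivial -/
theorem Frame.inv_sub_bot (F : Frame G) (T : Subgroup G) (hT : T ≤ F.E)
    (hinv : ∀ c ∈ (F.S : Subgroup G), ∀ v ∈ T, c * v * c⁻¹ ∈ T) (h1 : ∀ u ∈ V F.x, u ∈ T → u = 1)
    (h2 : ∀ v ∈ V F.a, v ∈ T → v = 1) : T = ⊥ := by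
  refine (Subgroup.eq_bot_iff_forall _).2 fun g hg => ?_
  obtain ⟨u, hu, v, hv, rfl⟩ := ((F.E_eq H).2.1 g).1 (hT hg)
  have hm : F.a * (u * v) * F.a⁻¹ * (u * v)⁻¹ ∈ T := T.mul_mem (hinv _ F.aS _ hg) (T.inv_mem hg)
  have e : F.a * (u * v) * F.a⁻¹ * (u * v)⁻¹ = F.a * u * F.a⁻¹ * u⁻¹ := by
    have hav : F.a * v * F.a⁻¹ = v := by
      rw [← ((mem_V H (F.a_order H)).1 hv).2, mul_inv_cancel_right]
    calc F.a * (u * v) * F.a⁻¹ * (u * v)⁻¹ = (F.a * u * F.a⁻¹) * (F.a * v * F.a⁻¹) * v⁻¹ * u⁻¹ := by group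
      _ = F.a * u * F.a⁻¹ * u⁻¹ := by rw [hav]; group
  rw [e] at hm
  have hw := h1 _ (mul_mem (sylow_conj_V H F.S F.xS F.x1 F.aS hu) (inv_mem hu)) hm
  have hu1 : u = 1 := sylow_moves H F.S F.xS F.x1 F.aS F.a_not hu
    (mul_inv_eq_iff_eq_mul.1 (mul_inv_eq_one.1 hw))
  rw [hu1, one_mul] at hg ⊢
  exact h2 v hv hg

theorem Frame.inter_E' (F : Frame G) : F.E ⊓ F.E' = ⊥ := by
  have hbo := F.b_order H
  have key : ∀ p, p ∈ (F.S : Subgroup G) → p ≠ 1 → (∃ q ∈ (F.S : Subgroup G), q ∉ zpowers p) →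
      ¬ Adj p (F.x * F.a) → ∀ u ∈ V p, u ∈ F.E ⊓ F.E' → u = 1 := by
    rintro p hpS hp ⟨q, hqS, hq⟩ hna u hu hue
    by_contra hu1
    refine hna fun w hw t ht => ?_
    have hwE : w ∈ F.E' := by
      by_cases hw1 : w = 1
      · rw [hw1]; exact one_mem _
      rcases sylow_trans H F.S hpS hp hqS hq hu hu1 hw hw1 with e | e | e
      · exact e ▸ hue.2
      · exact e ▸ F.sylow_conj_E' H hqS hue.2
      · have := F.sylow_conj_E' H (inv_mem hqS) hue.2
        rw [inv_inv] at this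
        exact e ▸ this
    exact (F.E'_eq H).2.2.2 w hwE t (V_le_R H hbo hbo (fun _ hu _ hv => V_comm H hbo hu hv) ht)
  exact F.inv_sub_bot H _ inf_le_left (fun c hc v hv => ⟨F.sylow_conj_E H hc hv.1, F.sylow_conj_E' H hc hv.2⟩)
    (key _ F.xS F.x1 ⟨_, F.aS, F.a_not⟩ F.nxb)
    (key _ F.aS (F.a_ne H) ⟨_, F.xS, fun h => not_line H F.S F.xS F.x1 F.aS F.a_not h (mem_zpowers F.a)⟩ F.nab)

theorem Frame.inter_norm (F : Frame G) : F.E ⊓ normalizer (F.E' : Set G) = ⊥ := by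
  have key : ∀ p, p ∈ (F.S : Subgroup G) → p ≠ 1 → (∃ q ∈ (F.S : Subgroup G), q ∉ zpowers p) →
      R p = F.E → ∀ u ∈ V p, u ∈ F.E ⊓ normalizer (F.E' : Set G) → u = 1 := by
    rintro p hpS hp ⟨q, hqS, hq⟩ hRp u hu hue
    by_contra hu1
    have hpo := sylow_three_elem H F.S hpS hp
    have hqN : ∀ {s}, s ∈ (F.S : Subgroup G) → s ∈ normalizer (F.E' : Set G) := fun hs =>
      mem_normalizer_of_conj _ fun v hv => F.sylow_conj_E' H hs hv
    have hVN : V p ≤ normalizer (F.E' : Set G) := fun w hw => by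
      by_cases hw1 : w = 1
      · rw [hw1]; exact one_mem _
      rcases sylow_trans H F.S hpS hp hqS hq hu hu1 hw hw1 with e | e | e
      · exact e ▸ hue.2
      · exact e ▸ Subgroup.mul_mem _ (Subgroup.mul_mem _ (hqN hqS) hue.2) (Subgroup.inv_mem _ (hqN hqS))
      · exact e ▸ Subgroup.mul_mem _ (Subgroup.mul_mem _ (hqN (inv_mem hqS)) hue.2) (hqN hqS)
    letI : MulAction ↥(V p) ↥F.E' := conjAct (V p) (F.E' : Set G)
      fun w hw t ht => (mem_normalizer_iff.1 (hVN hw) t).1 ht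
    have hm := (IsPGroup.of_card (p := 2) (n := 2) (by rw [card_V H hpo]; rfl) :
      IsPGroup 2 ↥(V p)).card_modEq_card_fixedPoints ↥F.E'
    rw [F.card_E' H] at hm
    have hfix1 : (1 : ↥F.E') ∈ MulAction.fixedPoints ↥(V p) ↥F.E' := fun w =>
      Subtype.ext (show w.1 * (1 : G) * w.1⁻¹ = 1 by group)
    have h2 : 1 < Nat.card ↑(MulAction.fixedPoints ↥(V p) ↥F.E') := by
      haveI : Nonempty ↑(MulAction.fixedPoints ↥(V p) ↥F.E') := ⟨⟨1, hfix1⟩⟩
      have := Nat.card_pos (α := ↑(MulAction.fixedPoints ↥(V p) ↥F.E'))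
      rw [Nat.ModEq] at hm
      omega
    haveI : Nontrivial ↑(MulAction.fixedPoints ↥(V p) ↥F.E') := Finite.one_lt_card_iff_nontrivial.1 h2
    obtain ⟨⟨⟨w, hw⟩, hwf⟩, hne⟩ := exists_ne (⟨1, hfix1⟩ : ↑(MulAction.fixedPoints ↥(V p) ↥F.E'))
    refine hne ?_
    have hw1 : w = 1 := by
      refine (Subgroup.eq_bot_iff_forall _).1 (F.inter_E' H) w ⟨?_, hw⟩
      rw [← hRp]
      refine (mem_R H hpo).2 ⟨fun t ht => ?_, ?_⟩
      · have e : t * w * t⁻¹ = w := congrArg Subtype.val (hwf ⟨t, ht⟩)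
        exact (mul_inv_eq_iff_eq_mul.1 e).symm
      · rw [show 128 = 2 * 64 from rfl, pow_mul, pow_two, (F.E'_eq H).2.2.1 w hw, one_pow]
    exact Subtype.ext (Subtype.ext hw1)
  exact F.inv_sub_bot H _ inf_le_left (fun c hc v hv => ⟨F.sylow_conj_E H hc hv.1,
      Subgroup.mul_mem _ (Subgroup.mul_mem _ (mem_normalizer_of_conj _ fun t ht => F.sylow_conj_E' H hc ht) hv.2)
        (Subgroup.inv_mem _ (mem_normalizer_of_conj _ fun t ht => F.sylow_conj_E' H hc ht))⟩)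
    (key _ F.xS F.x1 ⟨_, F.aS, F.a_not⟩ rfl)
    (key _ F.aS (F.a_ne H) ⟨_, F.xS, fun h => not_line H F.S F.xS F.x1 F.aS F.a_not h (mem_zpowers F.a)⟩
      (F.E_eq H).1.symm)

theorem Frame.cent_E (F : Frame G) {g : G} (h : ∀ e ∈ F.E, g * e = e * g) : g ∈ F.E := by
  set C := centralizer (F.E : Set G)
  have hg : g ∈ C := mem_centralizer_iff.2 fun e he => (h e he).symm
  obtain ⟨z, hz, hz1⟩ := V_ne_bot H (F.x_order H)
  have hC : Nat.card ↥C ∣ 384 := by
    rw [← (cent_two H (orderOf_eq_two ((mem_V H (F.x_order H)).1 hz).1 hz1)).1]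
    exact Subgroup.card_dvd_of_le fun c hc =>
      mem_centralizer_singleton_iff.2 (mem_centralizer_iff.1 hc z (F.Vx_le H hz)).symm
  have h3 : ¬ 3 ∣ Nat.card ↥C := fun h3 => by
    obtain ⟨⟨y, hy⟩, hyo⟩ := exists_prime_orderOf_dvd_card' (G := ↥C) 3 h3
    rw [← Subgroup.orderOf_coe] at hyo
    have hle : F.E ≤ V y := fun e he => (mem_V H hyo).2 ⟨(F.E_eq H).2.2.1 e he, mem_centralizer_iff.1 hy e he |>.trans rfl⟩
    have := Nat.le_of_dvd Nat.card_pos (Subgroup.card_dvd_of_le hle)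
    rw [F.card_E H, card_V H hyo] at this
    omega
  refine (mem_R H (F.x_order H)).2 ⟨fun u hu => h u (F.Vx_le H hu), ?_⟩
  have hcop : Nat.Coprime (Nat.card ↥C) 3 := ((Nat.Prime.coprime_iff_not_dvd Nat.prime_three).2 h3).symm
  have h128 : Nat.card ↥C ∣ 128 := hcop.dvd_of_dvd_mul_right (by simpa using hC)
  exact orderOf_dvd_iff_pow_eq_one.1 ((Subgroup.orderOf_dvd_natCard C hg).trans h128)

theorem Frame.cent_le (F : Frame G) {z : G} (hz : z ∈ V F.x) (hz1 : z ≠ 1) :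
    centralizer ({z} : Set G) ≤ normalizer (F.E : Set G) := by
  have hxo := F.x_order H
  obtain ⟨Q, hQc, hQ2, hQn, hQmax, n, hnz, hnx, hgen⟩ := exists_core H hxo hz hz1
  have hEQ : F.E ≤ Q := hQmax _ fun t ht => ⟨(F.E_eq H).2.2.2 t ht z (F.Vx_le H hz),
    ((mem_R H hxo).1 ht).2, F.sylow_conj_E H F.xS ht⟩
  refine hgen _ ?_ (F.sylow_le H F.xS) (mem_normalizer_of_conj _ fun v hv => ?_)
  · exact grow_full H hxo Q F.E hQc hQ2 (F.card_E H) hEQ (F.Vx_le H)
      (fun u hu => hQn F.x ((mem_V H hxo).1 hz).2.symm u hu) (fun u hu => F.sylow_conj_E H F.xS hu)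
  · have := conj_mem_R H hxo n hv
    rwa [hnx, R_inv H hxo] at this

/-- the normaliser is transitive on the fifteen involutions, and has order 5760 -/
theorem Frame.card_N (F : Frame G) : Nat.card ↥(normalizer (F.E : Set G)) = 5760 ∧
    ∀ v ∈ F.E, ∀ w ∈ F.E, v ≠ 1 → w ≠ 1 → ∃ n ∈ normalizer (F.E : Set G), n * v * n⁻¹ = w := by
  classical
  have := Fintype.ofFinite G
  set N := normalizer (F.E : Set G)
  have hxo := F.x_order H
  obtain ⟨z, hz, hz1⟩ := V_ne_bot H hxo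
  have hzE := F.Vx_le H hz
  let z' : ↥N := ⟨z, le_normalizer hzE⟩
  have hcl := M12Nse.card_isConj_mul z'
  have hcent : Nat.card ↥(centralizer ({z'} : Set ↥N)) = 384 := by
    rw [← (cent_two H (orderOf_eq_two ((mem_V H hxo).1 hz).1 hz1)).1]
    refine Nat.card_eq_of_bijective (fun c => (⟨((c : ↥N) : G), mem_centralizer_singleton_iff.2
      (congrArg Subtype.val (mem_centralizer_singleton_iff.1 c.2))⟩ : ↥(centralizer ({z} : Set G)))) ⟨?_, ?_⟩
    · exact fun p q e => Subtype.ext (Subtype.ext (congrArg (fun w : ↥(centralizer ({z} : Set G)) => (w : G)) e))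
    · rintro ⟨c, hc⟩
      exact ⟨⟨⟨c, F.cent_le H hz hz1 hc⟩,
        mem_centralizer_singleton_iff.2 (Subtype.ext (mem_centralizer_singleton_iff.1 hc))⟩, rfl⟩
  rw [hcent] at hcl
  let f : {w : ↥N // IsConj z' w} → {e : ↥F.E // e ≠ 1} := fun w => ⟨⟨(w.1 : G), by
      obtain ⟨m, hm⟩ := isConj_iff.1 w.2
      rw [← hm]
      exact (mem_normalizer_iff.1 m.2 z).1 hzE⟩, fun e => by
      obtain ⟨m, hm⟩ := isConj_iff.1 w.2
      have : (w.1 : G) = 1 := congrArg Subtype.val e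
      rw [← hm] at this
      exact hz1 (conj_eq_one_iff.1 this)⟩
  have hf : Function.Injective f := fun p q e =>
    Subtype.ext (Subtype.ext (congrArg (fun w => ((w.1 : ↥F.E) : G)) e))
  have h15 : Nat.card {e : ↥F.E // e ≠ 1} = 15 := by
    have := Fintype.ofFinite ↥F.E
    rw [Nat.card_eq_fintype_card, Fintype.card_subtype_compl, Fintype.card_subtype_eq,
      ← Nat.card_eq_fintype_card, F.card_E H]
  set L := Nat.card {w : ↥N // IsConj z' w} with hL
  have hle : L ≤ 15 := (Nat.card_le_card_of_injective f hf).trans_eq h15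
  have hdvd : L ∣ 1155 := (Nat.mul_dvd_mul_iff_right (by norm_num : 0 < 384)).1
    (show L * 384 ∣ 1155 * 384 by
      rw [hcl]; have h := Subgroup.card_subgroup_dvd_card N; rw [H.card] at h; exact h)
  have h3 : 3 ∣ L := by
    have h9 : 9 ∣ L * 384 := by
      rw [hcl, ← card_sylow_three H F.S]
      exact Subgroup.card_dvd_of_le (F.sylow_le H)
    omega
  have h4 : 4 ≤ L := by
    obtain ⟨σ, hσ, hσx, hσa, hσN⟩ := F.exists_sigma H
    have hco : ∀ {m}, m ∈ N → ∀ e : G, e = m * z * m⁻¹ → e ∈ Subtype.val '' {w : ↥N | IsConj z' w} :=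
      fun {m} hm e he => ⟨⟨e, by
        rw [he]; exact mul_mem (mul_mem hm (le_normalizer hzE)) (inv_mem hm)⟩,
        isConj_iff.2 ⟨⟨m, hm⟩, Subtype.ext he.symm⟩, rfl⟩
    have hA := F.sylow_le H F.aS
    have hsub : insert (σ * z * σ⁻¹) {t : G | orderOf t = 2 ∧ t * F.x = F.x * t} ⊆
        Subtype.val '' {w : ↥N | IsConj z' w} := by
      rintro t (rfl | ht)
      · exact hco hσN _ rfl
      · rcases sylow_trans H F.S F.xS F.x1 F.aS F.a_not hz hz1 ((mem_V H hxo).2 ⟨mul_self_one ht.1, ht.2⟩)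
          (fun e => by simp [e] at ht) with e | e | e
        · exact hco (one_mem _) _ (by rw [e]; group)
        · exact hco hA _ e
        · exact hco (inv_mem hA) _ (by rw [inv_inv]; exact e)
    have hnot : σ * z * σ⁻¹ ∉ {t : G | orderOf t = 2 ∧ t * F.x = F.x * t} := fun ht => by
      have h1 : σ * z * σ⁻¹ ∈ V F.a := hσx ▸ conj_mem_V H hxo σ hz
      exact hz1 (conj_eq_one_iff.1 (V_inter H F.S F.xS F.x1 F.aS F.a_not
        ((mem_V H hxo).2 ⟨mul_self_one ht.1, ht.2⟩) h1))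
    have h := Set.ncard_le_ncard hsub (Set.toFinite _)
    rw [Set.ncard_insert_of_notMem hnot (Set.toFinite _), Set.ncard_image_of_injective _ Subtype.val_injective,
      ← Nat.card_coe_set_eq, ← Nat.card_coe_set_eq] at h
    have h3x : Nat.card ↑{t : G | orderOf t = 2 ∧ t * F.x = F.x * t} = 3 := (cent_three H hxo).2
    rw [h3x] at h
    exact h
  have hL15 : L = 15 := by
    have : ∀ d ∈ Nat.divisors 1155, 3 ∣ d → 4 ≤ d → d ≤ 15 → d = 15 := by decide +kernel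
    exact this L (Nat.mem_divisors.2 ⟨hdvd, by norm_num⟩) h3 h4 hle
  refine ⟨by rw [← hcl, hL15], fun v hv w hw hv1 hw1 => ?_⟩
  have hsur := ((Nat.bijective_iff_injective_and_card f).2 ⟨hf, by rw [← hL, hL15, h15]⟩).2
  obtain ⟨⟨p, hp⟩, hpe⟩ := hsur ⟨⟨v, hv⟩, fun e => hv1 (congrArg Subtype.val e)⟩
  obtain ⟨⟨q, hq⟩, hqe⟩ := hsur ⟨⟨w, hw⟩, fun e => hw1 (congrArg Subtype.val e)⟩
  have hpv : (p : G) = v := congrArg (fun s => ((s.1 : ↥F.E) : G)) hpe
  have hqw : (q : G) = w := congrArg (fun s => ((s.1 : ↥F.E) : G)) hqe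
  obtain ⟨m, hm⟩ := isConj_iff.1 (hp.symm.trans hq)
  refine ⟨m, m.2, ?_⟩
  rw [← hpv, ← hqw]
  exact congrArg Subtype.val hm

end Cfsg.Lib.M22Nse
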