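import Cfsg.Agent.M22Nse.Local5
import Cfsg.Agent.Components.Recognition.OrderThreeSixty

/-!
The normaliser of the elementary abelian group modulo that group is alternating of degree six.
-/

set_option autoImplicit false
set_option linter.unusedSectionVars false
set_option linter.unusedVariables false
set_option linter.style.haveILetI false

namespace Cfsg.Lib.M22Nse

open Subgroup Cfsg.Lib.SameOrder

universe u

local instance fact_two_local6 : Fact (Nat.Prime 2) := ⟨Nat.prime_two⟩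
local instance fact_three_local6 : Fact (Nat.Prime 3) := ⟨Nat.prime_three⟩
local instance fact_five_local6 : Fact (Nat.Prime 5) := ⟨by norm_num⟩

theorem card_sup_mul {G : Type u} [Group G] [Finite G] (C K : Subgroup G) [K.Normal] :
    Nat.card ↥(C ⊔ K) * Nat.card ↥(C ⊓ K) = Nat.card ↥C * Nat.card ↥K := by
  have h1 := Subgroup.card_mul_index (K.subgroupOf (C ⊔ K))
  have h2 := Subgroup.card_mul_index (K.subgroupOf C)
  have h3 : (K.subgroupOf (C ⊔ K)).index = (K.subgroupOf C).index := Subgroup.relIndex_sup_right C K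
  have h4 : Nat.card ↥(K.subgroupOf (C ⊔ K)) = Nat.card ↥K :=
    Nat.card_congr (Subgroup.subgroupOfEquivOfLe le_sup_right).toEquiv
  have h5 : Nat.card ↥(K.subgroupOf C) = Nat.card ↥(C ⊓ K) := by
    rw [← Subgroup.inf_subgroupOf_left]
    exact Nat.card_congr (Subgroup.subgroupOfEquivOfLe inf_le_left).toEquiv
  rw [h3, h4] at h1
  rw [h5] at h2
  rw [← h1, ← h2]
  ring

/-- a normal subgroup of 2-elements fixes a nontrivial element of a normal elementary group -/
theorem two_fix {G : Type u} [Group G] [Finite G] (M E : Subgroup G) [E.Normal] (hM : IsPGroup 2 ↥M)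
    (hE : 2 ∣ Nat.card ↥E) : ∃ w ∈ E, w ≠ 1 ∧ ∀ m ∈ M, m * w = w * m := by
  letI : MulAction ↥M ↥E := conjAct M (E : Set G) fun m _ t ht => Subgroup.Normal.conj_mem ‹E.Normal› t ht m
  have hm := hM.card_modEq_card_fixedPoints ↥E
  have h1 : (1 : ↥E) ∈ MulAction.fixedPoints ↥M ↥E := fun m => Subtype.ext (show m.1 * (1 : G) * m.1⁻¹ = 1 by group)
  haveI : Nonempty ↑(MulAction.fixedPoints ↥M ↥E) := ⟨⟨1, h1⟩⟩
  have h2 : 1 < Nat.card ↑(MulAction.fixedPoints ↥M ↥E) := by
    have := Nat.card_pos (α := ↑(MulAction.fixedPoints ↥M ↥E))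
    obtain ⟨k, hk⟩ := hE
    rw [Nat.ModEq, hk] at hm
    omega
  haveI : Nontrivial ↑(MulAction.fixedPoints ↥M ↥E) := Finite.one_lt_card_iff_nontrivial.1 h2
  obtain ⟨⟨⟨w, hw⟩, hwf⟩, hne⟩ := exists_ne (⟨1, h1⟩ : ↑(MulAction.fixedPoints ↥M ↥E))
  exact ⟨w, hw, fun e => hne (Subtype.ext (Subtype.ext e)), fun m hm' =>
    mul_inv_eq_iff_eq_mul.1 (congrArg Subtype.val (hwf ⟨m, hm'⟩))⟩

variable {G : Type u} [Group G] [Finite G] (H : Fields G)
include H

theorem Frame.mixed_free (F : Frame G) {u v s : G} (hu : u ∈ V F.x) (hu1 : u ≠ 1) (hv : v ∈ V F.a) (hv1 : v ≠ 1)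
    (hs : s ∈ (F.S : Subgroup G)) (hc : s * (u * v) = u * v * s) : s = 1 := by
  have hu' := sylow_conj_V H F.S F.xS F.x1 hs hu
  have hv' := sylow_conj_V H F.S F.aS (F.a_ne H) hs hv
  have e : (s * u * s⁻¹) * (s * v * s⁻¹) = u * v := by
    rw [show s * u * s⁻¹ * (s * v * s⁻¹) = s * (u * v) * s⁻¹ by group, hc, mul_inv_cancel_right]
  have h1 : u⁻¹ * (s * u * s⁻¹) = v * (s * v * s⁻¹)⁻¹ := by
    rw [eq_mul_inv_iff_mul_eq, mul_assoc, e, inv_mul_cancel_left]
  have h2 := V_inter H F.S F.xS F.x1 F.aS F.a_not (mul_mem (inv_mem hu) hu')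
    (h1 ▸ mul_mem hv (inv_mem hv'))
  have h3 : v * (s * v * s⁻¹)⁻¹ = 1 := h1 ▸ h2
  have hsu : s * u = u * s := mul_inv_eq_iff_eq_mul.1 (inv_mul_eq_one.1 h2).symm
  have hsv : s * v = v * s := mul_inv_eq_iff_eq_mul.1 (mul_inv_eq_one.1 h3).symm
  have m1 : s ∈ zpowers F.x := by
    by_contra hn
    exact hu1 (sylow_moves H F.S F.xS F.x1 hs hn hu hsu)
  have m2 : s ∈ zpowers F.a := by
    by_contra hn
    exact hv1 (sylow_moves H F.S F.aS (F.a_ne H) hs hn hv hsv)
  exact line_inter H F.S F.xS F.x1 F.aS F.a_not m1 m2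

theorem Frame.cent_card (F : Frame G) {w : ↥(normalizer (F.E : Set G))} (hw : (w : G) ∈ F.E) (hw1 : w ≠ 1) :
    Nat.card ↥(centralizer ({w} : Set ↥(normalizer (F.E : Set G)))) = 384 := by
  classical
  have h := M12Nse.card_isConj_mul w
  obtain ⟨hN, htr⟩ := F.card_N H
  rw [hN] at h
  have hw1' : (w : G) ≠ 1 := fun e => hw1 (Subtype.ext e)
  have hcl : Nat.card {y : ↥(normalizer (F.E : Set G)) // IsConj w y} = 15 := by
    have h15 : Nat.card {e : ↥F.E // e ≠ 1} = 15 := by
      have := Fintype.ofFinite ↥F.E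
      rw [Nat.card_eq_fintype_card, Fintype.card_subtype_compl, Fintype.card_subtype_eq,
        ← Nat.card_eq_fintype_card, F.card_E H]
    rw [← h15]
    refine Nat.card_eq_of_bijective (fun y => (⟨⟨(y.1 : G), by
      obtain ⟨m, hm⟩ := isConj_iff.1 y.2
      rw [← hm]
      exact (mem_normalizer_iff.1 m.2 (w : G)).1 hw⟩, fun e => by
      obtain ⟨m, hm⟩ := isConj_iff.1 y.2
      have : (y.1 : G) = 1 := congrArg Subtype.val e
      rw [← hm] at this
      exact hw1' (conj_eq_one_iff.1 this)⟩ : {e : ↥F.E // e ≠ 1})) ⟨?_, ?_⟩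
    · exact fun p q e => Subtype.ext (Subtype.ext (congrArg (fun s => ((s.1 : ↥F.E) : G)) e))
    · rintro ⟨⟨e, he⟩, he1⟩
      obtain ⟨m, hm, hme⟩ := htr _ hw e he hw1' fun h => he1 (Subtype.ext h)
      exact ⟨⟨⟨e, le_normalizer he⟩, isConj_iff.2 ⟨⟨m, hm⟩, Subtype.ext hme⟩⟩, rfl⟩
  rw [hcl] at h
  omega

theorem no_order {k : ℕ} (hk : k = 10 ∨ k = 15) (g : G) : ¬ k ∣ orderOf g := fun h => by
  have hm := order_mem H g
  simp only [List.mem_cons, List.not_mem_nil, or_false] at hm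
  rcases hk with rfl | rfl <;> rcases hm with e | e | e | e | e | e | e | e | e | e | e | e | e <;> rw [e] at h <;> norm_num at h

/-- a nontrivial normal subgroup of the normaliser, modulo the elementary group, has order divisible by five -/
theorem Frame.five_dvd (F : Frame G) (M : Subgroup ↥(normalizer (F.E : Set G))) [M.Normal]
    (hEM : F.E.subgroupOf (normalizer (F.E : Set G)) ≤ M) (hne : ¬ M ≤ F.E.subgroupOf (normalizer (F.E : Set G))) :
    5 ∣ Nat.card ↥M := by
  classical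
  obtain ⟨hN, htr⟩ := F.card_N H
  haveI hEn : (F.E.subgroupOf (normalizer (F.E : Set G))).Normal := ⟨fun e he g => (mem_normalizer_iff.1 g.2 (e : G)).1 he⟩
  by_contra h5
  have hM : Nat.card ↥M ∣ 5760 := hN ▸ Subgroup.card_subgroup_dvd_card M
  by_cases h3 : 3 ∣ Nat.card ↥M
  · -- it contains the Sylow subgroup
    obtain ⟨y, hy, hy3⟩ : ∃ y ∈ M, orderOf (y : G) = 3 := by
      obtain ⟨⟨y, hy⟩, hyo⟩ := exists_prime_orderOf_dvd_card' (G := ↥M) 3 h3
      rw [← Subgroup.orderOf_coe] at hyo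
      exact ⟨y, hy, by rw [Subgroup.orderOf_coe]; exact hyo⟩
    obtain ⟨p, hp, hp1, hpM⟩ : ∃ p, ∃ hp : p ∈ (F.S : Subgroup G), p ≠ 1 ∧ (⟨p, F.sylow_le H hp⟩ : ↥(normalizer (F.E : Set G))) ∈ M := by
      obtain ⟨P, hP⟩ := (IsPGroup.of_card (p := 3) (n := 1) (by
        rw [Nat.card_zpowers, pow_one, ← Subgroup.orderOf_coe, hy3]) : IsPGroup 3 ↥(zpowers y)).exists_le_sylow
      obtain ⟨g, hg⟩ := MulAction.exists_smul_eq ↥(normalizer (F.E : Set G)) P (F.S.subtype (F.sylow_le H))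
      have hm : g * y * g⁻¹ ∈ ((g • P : Sylow 3 ↥(normalizer (F.E : Set G))) : Subgroup ↥(normalizer (F.E : Set G))) := by
        rw [Sylow.coe_subgroup_smul]
        exact ⟨y, hP (mem_zpowers y), rfl⟩
      rw [hg, Sylow.coe_subtype, mem_subgroupOf] at hm
      refine ⟨_, hm, fun e => ?_, Subgroup.Normal.conj_mem ‹M.Normal› y hy g⟩
      have : (y : G) = 1 := by simpa using e
      rw [this, orderOf_one] at hy3
      omega
    have hS : (F.S : Subgroup G).subgroupOf (normalizer (F.E : Set G)) ≤ M := by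
      have hpI : (⟨p, F.sylow_le H hp⟩ : ↥(normalizer (F.E : Set G))) ∈ (F.S : Subgroup G).subgroupOf (normalizer (F.E : Set G)) ⊓ M := ⟨hp, hpM⟩
      set I := ((F.S : Subgroup G).subgroupOf (normalizer (F.E : Set G)) ⊓ M).map (normalizer (F.E : Set G)).subtype with hI
      have hIS : I ≤ (F.S : Subgroup G) := by rintro _ ⟨c, hc, rfl⟩; exact hc.1
      have hpI' : p ∈ I := ⟨_, hpI, rfl⟩
      have hI9 : Nat.card ↥I ∣ 9 := card_sylow_three H F.S ▸ Subgroup.card_dvd_of_le hIS
      by_cases hI3 : Nat.card ↥I = 9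
      · have e := Subgroup.eq_of_le_of_card_ge hIS (by rw [hI3, card_sylow_three H F.S])
        intro c hc
        have hc' : (c : G) ∈ I := e ▸ hc
        obtain ⟨c', hc1, hc2⟩ := hc'
        have : c' = c := Subtype.ext hc2
        exact this ▸ hc1.2
      · exfalso
        have hzI : zpowers p = I := by
          refine Subgroup.eq_of_le_of_card_ge (zpowers_le.2 hpI') ?_
          rw [Nat.card_zpowers, sylow_three_elem H F.S hp hp1]
          have : ∀ d ∈ Nat.divisors 9, d ≠ 9 → d ≤ 3 := by decide +kernel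
          exact this _ (Nat.mem_divisors.2 ⟨hI9, by norm_num⟩) hI3
        obtain ⟨σ, hσ, hσx, hσa, hσN⟩ := F.exists_sigma H
        -- the square inverts the Sylow subgroup
        let φ : G →* G := (MulAut.conj (σ * σ)).toMonoidHom
        have hx2 : φ F.x = F.x⁻¹ := by
          show σ * σ * F.x * (σ * σ)⁻¹ = F.x⁻¹
          rw [show σ * σ * F.x * (σ * σ)⁻¹ = σ * (σ * F.x * σ⁻¹) * σ⁻¹ by group, hσx, hσa]
        have ha2 : φ F.a = F.a⁻¹ := by
          show σ * σ * F.a * (σ * σ)⁻¹ = F.a⁻¹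
          rw [show σ * σ * F.a * (σ * σ)⁻¹ = σ * (σ * F.a * σ⁻¹) * σ⁻¹ by group, hσa,
            show σ * F.x⁻¹ * σ⁻¹ = (σ * F.x * σ⁻¹)⁻¹ by group, hσx]
        have hinv : φ p = p⁻¹ := by
          have hgen : (F.S : Subgroup G) ≤ closure {F.x, F.a} := by
            have hle : closure ({F.x, F.a} : Set G) ≤ (F.S : Subgroup G) :=
              (closure_le _).2 (by rintro t (rfl | rfl) <;> [exact F.xS; exact F.aS])
            have h3' : zpowers F.x ≤ closure ({F.x, F.a} : Set G) := zpowers_le.2 (subset_closure (Or.inl rfl))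
            have hd : Nat.card ↥(closure ({F.x, F.a} : Set G)) ∣ 9 :=
              card_sylow_three H F.S ▸ Subgroup.card_dvd_of_le hle
            refine le_of_eq (Subgroup.eq_of_le_of_card_ge hle ?_).symm
            rw [card_sylow_three H F.S]
            by_contra hlt
            have hd' : Nat.card ↥(closure ({F.x, F.a} : Set G)) ≤ 3 := by
              have : ∀ d ∈ Nat.divisors 9, ¬ 9 ≤ d → d ≤ 3 := by decide +kernel
              exact this _ (Nat.mem_divisors.2 ⟨hd, by norm_num⟩) hlt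
            have e := Subgroup.eq_of_le_of_card_ge h3' (by rw [Nat.card_zpowers, F.x_order H]; exact hd')
            exact F.a_not (e ▸ subset_closure (Or.inr rfl))
          have : ∀ t ∈ closure ({F.x, F.a} : Set G), t ∈ (F.S : Subgroup G) ∧ φ t = t⁻¹ := by
            intro t ht
            induction ht using Subgroup.closure_induction with
            | mem t ht =>
              rcases ht with rfl | rfl
              exacts [⟨F.xS, hx2⟩, ⟨F.aS, ha2⟩]
            | one => exact ⟨one_mem _, by rw [map_one, inv_one]⟩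
            | mul s t _ _ hs ht =>
              exact ⟨mul_mem hs.1 ht.1, by
                rw [map_mul, hs.2, ht.2, mul_inv_rev, sylow_three_comm H F.S (inv_mem hs.1) (inv_mem ht.1)]⟩
            | inv s _ hs => exact ⟨inv_mem hs.1, by rw [map_inv, hs.2]⟩
          exact (this p (hgen hp)).2
        have hσI : σ * p * σ⁻¹ ∈ I := ⟨⟨σ, hσN⟩ * ⟨p, F.sylow_le H hp⟩ * ⟨σ, hσN⟩⁻¹,
          ⟨(mem_normalizer_iff.1 hσ p).1 hp, Subgroup.Normal.conj_mem ‹M.Normal› _ hpM _⟩, rfl⟩
        rw [← hzI] at hσI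
        obtain ⟨k, hk⟩ := mem_zpowers_iff.1 hσI
        have hp3 := sylow_three_elem H F.S hp hp1
        have hkk : σ * p * σ⁻¹ = p ∨ σ * p * σ⁻¹ = p⁻¹ := by
          rw [← hk, ← zpow_mod_orderOf, hp3]
          rcases (show k % 3 = 0 ∨ k % 3 = 1 ∨ k % 3 = 2 by omega) with h | h | h <;> norm_num [h]
          · exfalso
            have h1 : σ * p * σ⁻¹ = 1 := by rw [← hk, ← zpow_mod_orderOf, hp3]; norm_num [h]
            exact hp1 (conj_eq_one_iff.1 h1)
          · refine Or.inr (eq_inv_of_mul_eq_one_left ?_)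
            rw [← pow_succ]; exact cube_one hp3
        have hfix : φ p = p := by
          show σ * σ * p * (σ * σ)⁻¹ = p
          rcases hkk with e | e
          · rw [show σ * σ * p * (σ * σ)⁻¹ = σ * (σ * p * σ⁻¹) * σ⁻¹ by group, e, e]
          · rw [show σ * σ * p * (σ * σ)⁻¹ = σ * (σ * p * σ⁻¹) * σ⁻¹ by group, e,
              show σ * p⁻¹ * σ⁻¹ = (σ * p * σ⁻¹)⁻¹ by group, e, inv_inv]
        rw [hfix] at hinv
        exact hp1 (eq_one_of_sylow H F.S hp (by conv_lhs => arg 1; rw [hinv]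
                                                exact inv_mul_cancel p))
    -- then it is transitive
    obtain ⟨u, hu, hu1⟩ := V_ne_bot H (F.x_order H)
    obtain ⟨v, hv, hv1⟩ := V_ne_bot H (F.a_order H)
    have hwE : u * v ∈ F.E := mul_mem (F.Vx_le H hu) (F.Va_le H hv)
    set w : ↥(normalizer (F.E : Set G)) := ⟨u * v, le_normalizer hwE⟩
    have hw1 : w ≠ 1 := fun e => by
      have e' : u * v = 1 := congrArg Subtype.val e
      exact hu1 (V_inter H F.S F.xS F.x1 F.aS F.a_not hu (eq_inv_of_mul_eq_one_left e' ▸ inv_mem hv))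
    set C := centralizer ({w} : Set ↥(normalizer (F.E : Set G)))
    have hC : Nat.card ↥C = 384 := F.cent_card H (w := w) hwE hw1
    have h9 : 9 * Nat.card ↥(C ⊓ M) ≤ Nat.card ↥M := by
      rw [← card_sylow_three H F.S, ← Nat.card_prod]
      refine Nat.card_le_card_of_injective (fun q : ↥(F.S : Subgroup G) × ↥(C ⊓ M) =>
        (⟨⟨q.1.1, F.sylow_le H q.1.2⟩ * q.2.1, mul_mem (hS (mem_subgroupOf.2 q.1.2)) q.2.2.2⟩ : ↥M)) ?_
      rintro ⟨⟨s, hs⟩, ⟨c, hc⟩⟩ ⟨⟨s', hs'⟩, ⟨c', hc'⟩⟩ e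
      have e' : s * (c : G) = s' * (c' : G) := congrArg (fun q : ↥M => ((q : ↥(normalizer (F.E : Set G))) : G)) e
      have h1 : s'⁻¹ * s = (c' : G) * (c : G)⁻¹ := by rw [eq_mul_inv_iff_mul_eq, mul_assoc, e', inv_mul_cancel_left]
      have h2 : s'⁻¹ * s = 1 := by
        refine F.mixed_free H hu hu1 hv hv1 (mul_mem (inv_mem hs') hs) ?_
        rw [h1]
        exact congrArg Subtype.val (mem_centralizer_singleton_iff.1 (C.mul_mem hc'.1 (C.inv_mem hc.1)))
      have hs2 : s = s' := (inv_mul_eq_one.1 h2).symm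
      subst hs2
      have : c = c' := Subtype.ext (mul_left_cancel e')
      subst this
      rfl
    have hmul := card_sup_mul C M
    rw [hC] at hmul
    have hbig : 384 * 9 ≤ Nat.card ↥(C ⊔ M) := by
      have hpos : 0 < Nat.card ↥(C ⊓ M) := Nat.card_pos
      exact Nat.le_of_mul_le_mul_right (by rw [hmul, mul_assoc]; exact Nat.mul_le_mul_left _ h9) hpos
    have htop : Nat.card ↥(C ⊔ M) = 5760 := by
      have hd : Nat.card ↥(C ⊔ M) ∣ 5760 := hN ▸ Subgroup.card_subgroup_dvd_card _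
      have h384 : 384 ∣ Nat.card ↥(C ⊔ M) := hC ▸ Subgroup.card_dvd_of_le le_sup_left
      obtain ⟨k, hk⟩ := h384
      rw [hk] at hd hbig ⊢
      have hk15 : k ∣ 15 := (Nat.mul_dvd_mul_iff_left (by norm_num : 0 < 384)).1 (show 384 * k ∣ 384 * 15 from hd)
      have : ∀ d ∈ Nat.divisors 15, 9 ≤ d → d = 15 := by decide +kernel
      rw [this k (Nat.mem_divisors.2 ⟨hk15, by norm_num⟩) (Nat.le_of_mul_le_mul_left hbig (by norm_num))]
    rw [htop] at hmul
    exact h5 ⟨3 * Nat.card ↥(C ⊓ M), by omega⟩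
  · -- a 2-group centralises the elementary group
    have hp2 : IsPGroup 2 ↥M := by
      have hc3 : Nat.Coprime (Nat.card ↥M) (3 ^ 2) :=
        Nat.Coprime.pow_right 2 ((Nat.Prime.coprime_iff_not_dvd Nat.prime_three).2 h3).symm
      have hc5 : Nat.Coprime (Nat.card ↥M) 5 := ((Nat.Prime.coprime_iff_not_dvd (by norm_num)).2 h5).symm
      have : Nat.card ↥M ∣ 2 ^ 7 :=
        (hc3.mul_right hc5).dvd_of_dvd_mul_right (by simpa using hM)
      obtain ⟨k, -, hk⟩ := (Nat.dvd_prime_pow Nat.prime_two).1 this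
      exact IsPGroup.of_card hk
    obtain ⟨w, hwE, hw1, hwc⟩ := two_fix M (F.E.subgroupOf (normalizer (F.E : Set G))) hp2 (by
      rw [Nat.card_congr (Subgroup.subgroupOfEquivOfLe le_normalizer).toEquiv, F.card_E H]; norm_num)
    refine hne fun m hm => F.cent_E H fun e he => ?_
    by_cases he1 : e = 1
    · rw [he1, mul_one, one_mul]
    obtain ⟨n, hn, hne'⟩ := htr (w : G) hwE e he (fun h => hw1 (Subtype.ext h)) he1
    have hm' : (⟨n, hn⟩ : ↥(normalizer (F.E : Set G)))⁻¹ * m * ⟨n, hn⟩ ∈ M := by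
      have := Subgroup.Normal.conj_mem ‹M.Normal› m hm (⟨n, hn⟩ : ↥(normalizer (F.E : Set G)))⁻¹
      rwa [inv_inv] at this
    have e1 : (n⁻¹ * (m : G) * n) * (w : G) = (w : G) * (n⁻¹ * (m : G) * n) := congrArg Subtype.val (hwc _ hm')
    calc (m : G) * e = n * ((n⁻¹ * (m : G) * n) * (w : G)) * n⁻¹ := by rw [← hne']; group
      _ = e * (m : G) := by rw [e1, ← hne']; group

/-- the quotient is alternating of degree six -/
theorem Frame.exists_quot (F : Frame G) : ∃ φ : ↥(normalizer (F.E : Set G)) →* alternatingGroup (Fin 6),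
    Function.Surjective φ ∧ ∀ n, φ n = 1 ↔ (n : G) ∈ F.E := by
  classical
  set N := normalizer (F.E : Set G)
  set EN := F.E.subgroupOf N with hEN
  haveI hEn : EN.Normal := ⟨fun e he g => (mem_normalizer_iff.1 g.2 (e : G)).1 he⟩
  obtain ⟨hN, htr⟩ := F.card_N H
  have hE16 : Nat.card ↥EN = 16 := by
    rw [hEN, Nat.card_congr (Subgroup.subgroupOfEquivOfLe le_normalizer).toEquiv, F.card_E H]
  set π := QuotientGroup.mk' EN
  have hX : Nat.card (↥N ⧸ EN) = 360 := by
    have := Subgroup.card_mul_index EN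
    rw [hE16, hN, Subgroup.index_eq_card] at this
    omega
  -- no elements of order ten or fifteen
  have hno : ∀ k, k = 10 ∨ k = 15 → ∀ y : ↥N ⧸ EN, orderOf y ≠ k := fun k hk y h => by
    obtain ⟨n, rfl⟩ := QuotientGroup.mk'_surjective EN y
    have h1 := orderOf_map_dvd π n
    rw [h, ← Subgroup.orderOf_coe n] at h1
    exact no_order H hk (n : G) h1
  have hsyl : ∀ P : Sylow 5 (↥N ⧸ EN), Nat.card ↥(P : Subgroup (↥N ⧸ EN)) = 5 := fun P => by
    simpa using Cfsg.Lib.Small.card_sylow_of_factor P (a := 1) (m := 72) (by rw [hX]; norm_num) (by norm_num)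
  have hPc : ∀ P : Sylow 5 (↥N ⧸ EN), ∀ p ∈ (P : Subgroup (↥N ⧸ EN)), ∀ q ∈ (P : Subgroup (↥N ⧸ EN)),
      p * q = q * p := fun P p hp q hq => by
    haveI : IsCyclic ↥(P : Subgroup (↥N ⧸ EN)) := isCyclic_of_prime_card (hsyl P)
    let _ : CommGroup ↥(P : Subgroup (↥N ⧸ EN)) := IsCyclic.commGroup
    exact congrArg Subtype.val (mul_comm (⟨p, hp⟩ : ↥(P : Subgroup (↥N ⧸ EN))) ⟨q, hq⟩)
  -- the normaliser of a Sylow five-subgroup
  have hn10 : ∀ P : Sylow 5 (↥N ⧸ EN), Nat.card ↥(normalizer (P : Set (↥N ⧸ EN))) = 10 := fun P => by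
    have hk : Nat.card ↥(normalizer (P : Set (↥N ⧸ EN))) * Nat.card (Sylow 5 (↥N ⧸ EN)) = 360 := by
      rw [Sylow.card_eq_index_normalizer P, Subgroup.card_mul_index, hX]
    have hmod : Nat.card (Sylow 5 (↥N ⧸ EN)) % 5 = 1 := by
      have := card_sylow_modEq_one 5 (↥N ⧸ EN); rw [Nat.ModEq] at this; simpa using this
    have h5 : 5 ∣ Nat.card ↥(normalizer (P : Set (↥N ⧸ EN))) :=
      (hsyl P).symm.dvd.trans (Subgroup.card_dvd_of_le (le_normalizer (H := (P : Subgroup (↥N ⧸ EN)))))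
    have h3 : ¬ 3 ∣ Nat.card ↥(normalizer (P : Set (↥N ⧸ EN))) := fun h3 => by
      obtain ⟨⟨y, hy⟩, hyo⟩ := exists_prime_orderOf_dvd_card' (G := ↥(normalizer (P : Set (↥N ⧸ EN)))) 3 h3
      rw [← Subgroup.orderOf_coe] at hyo
      change orderOf y = 3 at hyo
      have hm := card_mod_three (P : Subgroup (↥N ⧸ EN)) hyo fun t ht =>
        (mem_normalizer_iff.1 (show y ∈ normalizer ((P : Subgroup (↥N ⧸ EN)) : Set (↥N ⧸ EN)) from hy) t).1 ht
      rw [hsyl P] at hm
      set I := (P : Subgroup (↥N ⧸ EN)) ⊓ centralizer ({y} : Set (↥N ⧸ EN))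
      have hI : Nat.card ↥I = 5 := by
        rcases (Nat.dvd_prime (by norm_num : Nat.Prime 5)).1 (hsyl P ▸ Subgroup.card_dvd_of_le
          (inf_le_left : I ≤ _)) with e | e
        · rw [e] at hm; norm_num at hm
        · exact e
      obtain ⟨⟨p, hp⟩, hpo⟩ := exists_prime_orderOf_dvd_card' (G := ↥I) 5 (by rw [hI])
      rw [← Subgroup.orderOf_coe] at hpo
      exact hno 15 (Or.inr rfl) (p * y)
        (orderOf_mul_coprime (mem_centralizer_singleton_iff.1 hp.2) hpo hyo (by norm_num))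
    have : ∀ d ∈ Nat.divisors 360, 5 ∣ d → ¬ 3 ∣ d → 360 / d % 5 = 1 → d = 10 := by decide +kernel
    refine this _ (Nat.mem_divisors.2 ⟨Dvd.intro _ hk, by norm_num⟩) h5 h3 ?_
    rw [Nat.div_eq_of_eq_mul_left Nat.card_pos (by rw [← hk, mul_comm])]
    exact hmod
  have hfive : ∀ M : Subgroup (↥N ⧸ EN), M.Normal → M ≠ ⊥ → 5 ∣ Nat.card ↥M := fun M hM hMne => by
    have hEM : EN ≤ M.comap π := fun e he => by
      rw [Subgroup.mem_comap, show π e = 1 from (QuotientGroup.eq_one_iff e).2 he]; exact one_mem _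
    haveI := hM
    haveI : (M.comap π).Normal := hM.comap π
    have h5 := F.five_dvd H (M.comap π) hEM fun hle => hMne (by
      rw [← Subgroup.map_comap_eq_self_of_surjective (QuotientGroup.mk'_surjective EN) M, eq_bot_iff]
      rintro _ ⟨n, hn, rfl⟩
      exact mem_bot.2 ((QuotientGroup.eq_one_iff n).2 (hle hn)))
    have hc : Nat.card ↥(M.comap π) = Nat.card ↥M * 16 := by
      have h1 := Subgroup.card_mul_index (M.comap π)
      rw [Subgroup.index_comap_of_surjective _ (QuotientGroup.mk'_surjective EN), hN] at h1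
      have h2 := Subgroup.card_mul_index M
      rw [hX] at h2
      have hpos : 0 < M.index := Nat.pos_of_ne_zero Subgroup.index_ne_zero_of_finite
      exact Nat.eq_of_mul_eq_mul_right hpos (by rw [h1, mul_comm (Nat.card ↥M) 16, mul_assoc, h2]; norm_num)
    rw [hc] at h5
    exact (Nat.Coprime.dvd_of_dvd_mul_right (by norm_num) h5)
  haveI : Nontrivial (↥N ⧸ EN) := Finite.one_lt_card_iff_nontrivial.1 (by rw [hX]; norm_num)
  haveI hsimple : IsSimpleGroup (↥N ⧸ EN) := by
    refine ⟨fun M hM => ?_⟩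
    by_contra! hcon
    obtain ⟨hbot, htop⟩ := hcon
    haveI := hM
    obtain ⟨⟨p, hp⟩, hpo⟩ := exists_prime_orderOf_dvd_card' (G := ↥M) 5 (hfive M hM hbot)
    rw [← Subgroup.orderOf_coe] at hpo
    change orderOf p = 5 at hpo
    obtain ⟨P, hP⟩ := (IsPGroup.of_card (p := 5) (n := 1) (by rw [Nat.card_zpowers, hpo, pow_one]) :
      IsPGroup 5 ↥(zpowers p)).exists_le_sylow
    have hPe : zpowers p = (P : Subgroup (↥N ⧸ EN)) :=
      Subgroup.eq_of_le_of_card_ge hP (by rw [hsyl P, Nat.card_zpowers, hpo])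
    have hPM : (P : Subgroup (↥N ⧸ EN)) ≤ M := hPe ▸ zpowers_le.2 hp
    have hsup : normalizer (P : Set (↥N ⧸ EN)) ⊔ M = ⊤ := by
      have h := Sylow.normalizer_sup_eq_top (P.subtype hPM)
      rw [Sylow.coe_subtype, Subgroup.map_subgroupOf_eq_of_le hPM] at h
      exact h
    have hmul := card_sup_mul (normalizer (P : Set (↥N ⧸ EN))) M
    rw [hsup, Nat.card_congr Subgroup.topEquiv.toEquiv, hX, hn10 P] at hmul
    set I := normalizer (P : Set (↥N ⧸ EN)) ⊓ M
    have hPI : (P : Subgroup (↥N ⧸ EN)) ≤ I := le_inf le_normalizer hPM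
    have hI5 : 5 ∣ Nat.card ↥I := hsyl P ▸ Subgroup.card_dvd_of_le hPI
    have hI10 : Nat.card ↥I ∣ 10 := hn10 P ▸ Subgroup.card_dvd_of_le inf_le_left
    have hM360 : Nat.card ↥M ≠ 360 := fun e => htop (Subgroup.eq_top_of_card_eq M (by rw [e, hX]))
    have hI : Nat.card ↥I = 5 ∧ Nat.card ↥M = 180 := by
      have : ∀ d ∈ Nat.divisors 10, 5 ∣ d → d = 5 ∨ d = 10 := by decide +kernel
      rcases this _ (Nat.mem_divisors.2 ⟨hI10, by norm_num⟩) hI5 with e | e <;> rw [e] at hmul <;>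
        constructor <;> omega
    have hIe := Subgroup.eq_of_le_of_card_ge hPI (by rw [hI.1, hsyl P])
    set PM : Sylow 5 ↥M := P.subtype hPM with hPMdef
    have hNC : normalizer (PM : Set ↥M) ≤ centralizer (PM : Set ↥M) := fun d hd => by
      have hdP : (d : ↥N ⧸ EN) ∈ (P : Subgroup (↥N ⧸ EN)) := by
        rw [hIe]
        refine ⟨mem_normalizer_of_conj (P : Subgroup (↥N ⧸ EN)) fun t ht => ?_, d.2⟩
        have := (mem_normalizer_iff.1 (show d ∈ normalizer ((PM : Subgroup ↥M) : Set ↥M) from hd) ⟨t, hPM ht⟩).1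
          (by rw [hPMdef, Sylow.coe_subtype]; exact ht)
        rw [hPMdef, Sylow.coe_subtype] at this
        exact this
      refine mem_centralizer_iff.2 fun t ht => Subtype.ext ?_
      have ht' : (t : ↥N ⧸ EN) ∈ (P : Subgroup (↥N ⧸ EN)) := by
        have : t ∈ (PM : Subgroup ↥M) := ht
        rwa [hPMdef, Sylow.coe_subtype, mem_subgroupOf] at this
      exact hPc P _ ht' _ hdP
    have hcompl := MonoidHom.ker_transferSylow_isComplement' PM hNC
    set ψ := MonoidHom.transferSylow PM hNC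
    set W := ψ.ker
    have hPM5 : Nat.card ↥(PM : Subgroup ↥M) = 5 := by
      simpa using Cfsg.Lib.Small.card_sylow_of_factor PM (a := 1) (m := 36) (by rw [hI.2]; norm_num) (by norm_num)
    have hW : Nat.card ↥W = 36 := by
      have := hcompl.card_mul
      rw [hPM5, hI.2] at this
      omega
    clear_value ψ
    have hWmem : ∀ d : ↥M, d ∈ W ↔ d ^ 36 = 1 := fun d => by
      constructor
      · intro hd
        exact orderOf_dvd_iff_pow_eq_one.1 (hW ▸ Subgroup.orderOf_dvd_natCard W hd)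
      · intro hd
        refine MonoidHom.mem_ker.2 (orderOf_eq_one_iff.1 (Nat.dvd_one.1 ?_))
        have h1 : orderOf (ψ d) ∣ 36 := orderOf_dvd_of_pow_eq_one (by rw [← map_pow, hd, map_one])
        have h2 := _root_.orderOf_dvd_natCard (ψ d)
        rw [hPM5] at h2
        simpa using Nat.dvd_gcd h1 h2
    have hWn : (W.map M.subtype).Normal := ⟨fun w hw g => by
      obtain ⟨d, hd, rfl⟩ := hw
      refine ⟨⟨g * d * g⁻¹, hM.conj_mem _ d.2 g⟩, (hWmem _).2 (Subtype.ext ?_), rfl⟩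
      have : ((d : ↥N ⧸ EN)) ^ 36 = 1 := by simpa using congrArg Subtype.val ((hWmem d).1 hd)
      simp [conj_pow, this]⟩
    have hWc : Nat.card ↥(W.map M.subtype) = 36 := by
      rw [Subgroup.card_map_of_injective M.subtype_injective, hW]
    have h5W := hfive _ hWn fun e => by rw [e, Subgroup.card_bot] at hWc; omega
    rw [hWc] at h5W
    norm_num at h5W
  obtain ⟨e⟩ := Cfsg.Lib.Components.OrderThreeSixty.iso_alternating hX
  refine ⟨e.toMonoidHom.comp π, e.surjective.comp (QuotientGroup.mk'_surjective EN), fun n => ?_⟩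
  show e (π n) = 1 ↔ _
  rw [EmbeddingLike.map_eq_one_iff]
  exact (QuotientGroup.eq_one_iff n).trans mem_subgroupOf

end Cfsg.Lib.M22Nse
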