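import Cfsg.Agent.M22Nse.Halves

/-!
Both elementary groups over one alternating group, and the relation between their base points.
-/

set_option autoImplicit false
set_option synthInstance.maxSize 4000
set_option linter.unusedSectionVars false
set_option linter.unusedVariables false
set_option linter.style.haveILetI false

namespace Cfsg.Lib.M22Nse

open Subgroup Cfsg.Lib.SameOrder

universe u

variable {G : Type u} [Group G] [Finite G]

/-- facts about one elementary group inside the whole group -/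
structure Side (κ : A6 →* G) (E : Subgroup G) : Prop where
  card : Nat.card ↥E = 16
  sq : ∀ g ∈ E, g * g = 1
  comm : ∀ g ∈ E, ∀ k ∈ E, g * k = k * g
  inj : Function.Injective κ
  conj_mem : ∀ σ, ∀ v ∈ E, κ σ * v * (κ σ)⁻¹ ∈ E
  trans : ∀ v ∈ E, ∀ w ∈ E, v ≠ 1 → w ≠ 1 → ∃ σ, κ σ * v * (κ σ)⁻¹ = w
  free : ∀ σ, κ σ ∈ E → σ = 1
  card_N : Nat.card ↥(normalizer (E : Set G)) = 5760
  gen : ∀ n ∈ normalizer (E : Set G), ∃ σ, n * (κ σ)⁻¹ ∈ E
  cent : ∀ v ∈ E, v ≠ 1 → ∀ c, c * v = v * c → c ∈ normalizer (E : Set G)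

theorem Side.half {κ : A6 →* G} {E : Subgroup G} (h : Side κ E) {D : CData} (hR : R (κ D.t) = E) :
    Half D κ E := ⟨h.card, h.sq, h.comm, h.inj, h.conj_mem, h.trans, h.free, hR⟩

variable (H : Fields G)
include H

theorem Frame.exists_kappa (F : Frame G) : ∃ κ : A6 →* G, Function.Injective κ ∧
    κ.range = normalizer (F.E : Set G) ⊓ normalizer (F.E' : Set G) := by
  classical
  obtain ⟨φ, hφ, hker⟩ := F.exists_quot H
  set K := normalizer (F.E : Set G) ⊓ normalizer (F.E' : Set G) with hK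
  let ψ : ↥K →* A6 := φ.comp (Subgroup.inclusion inf_le_left)
  have hinj : Function.Injective ψ := by
    refine (injective_iff_map_eq_one ψ).2 fun k hk => Subtype.ext ?_
    exact (Subgroup.eq_bot_iff_forall _).1 (F.inter_norm H) k ⟨(hker _).1 hk, k.2.2⟩
  obtain ⟨F', hS', hx', ha', hE', hE''⟩ := F.exists_swap H
  have hN' : Nat.card ↥(normalizer (F.E' : Set G)) = 5760 := hE' ▸ (F'.card_N H).1
  have h75 : 75 ≤ Nat.card ↥K := by
    have h1 := Subgroup.card_mul_index K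
    have h2 := Subgroup.card_mul_index (normalizer (F.E : Set G))
    have h3 := Subgroup.card_mul_index (normalizer (F.E' : Set G))
    rw [(F.card_N H).1] at h2
    rw [hN'] at h3
    rw [H.card] at h1 h2 h3
    have h4 : K.index ≤ (normalizer (F.E : Set G)).index * (normalizer (F.E' : Set G)).index := Subgroup.index_inf_le
    rw [show (normalizer (F.E : Set G)).index = 77 by omega, show (normalizer (F.E' : Set G)).index = 77 by omega] at h4
    have := Nat.mul_le_mul_left (Nat.card ↥K) h4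
    omega
  have hr : ψ.range = ⊤ := by
    by_contra hne
    haveI : IsSimpleGroup A6 := alternatingGroup.isSimpleGroup (by simp)
    have h6 := Cfsg.Lib.Components.OrderThreeSixty.index_ge card_A6 hne
    have h1 := Subgroup.card_mul_index ψ.range
    rw [card_A6, ← Nat.card_congr (MonoidHom.ofInjective hinj).toEquiv] at h1
    have := Nat.mul_le_mul h75 h6
    omega
  let e : ↥K ≃* A6 := MulEquiv.ofBijective ψ ⟨hinj, MonoidHom.range_eq_top.1 hr⟩
  refine ⟨K.subtype.comp e.symm.toMonoidHom, fun a b h => e.symm.injective (Subtype.ext h), ?_⟩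
  ext g
  constructor
  · rintro ⟨σ, rfl⟩; exact (e.symm σ).2
  · intro hg
    exact ⟨e ⟨g, hg⟩, by show ((e.symm (e ⟨g, hg⟩) : ↥K) : G) = g; rw [MulEquiv.symm_apply_apply]⟩

theorem Frame.side (F : Frame G) {κ : A6 →* G} (hinj : Function.Injective κ)
    (hr : κ.range = normalizer (F.E : Set G) ⊓ normalizer (F.E' : Set G)) : Side κ F.E := by
  classical
  have hmem : ∀ σ, κ σ ∈ normalizer (F.E : Set G) ⊓ normalizer (F.E' : Set G) := fun σ => hr ▸ ⟨σ, rfl⟩
  have hfree : ∀ σ, κ σ ∈ F.E → σ = 1 := fun σ h => hinj (by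
    rw [map_one]
    exact (Subgroup.eq_bot_iff_forall _).1 (F.inter_norm H) _ ⟨h, (hmem σ).2⟩)
  obtain ⟨φ, hφ, hker⟩ := F.exists_quot H
  have hsur : Function.Surjective fun σ => φ ⟨κ σ, (hmem σ).1⟩ := by
    refine Finite.surjective_of_injective fun σ τ h => ?_
    have h1 : φ ⟨κ (σ * τ⁻¹), (hmem _).1⟩ = 1 := by
      have e : (⟨κ (σ * τ⁻¹), (hmem _).1⟩ : ↥(normalizer (F.E : Set G))) =
          ⟨κ σ, (hmem σ).1⟩ * ⟨κ τ, (hmem τ).1⟩⁻¹ := Subtype.ext (by simp)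
      rw [e, map_mul, map_inv, mul_inv_eq_one]
      exact h
    exact mul_inv_eq_one.1 (hfree _ ((hker _).1 h1))
  have hgen : ∀ n ∈ normalizer (F.E : Set G), ∃ σ, n * (κ σ)⁻¹ ∈ F.E := fun n hn => by
    obtain ⟨σ, hσ⟩ := hsur (φ ⟨n, hn⟩)
    refine ⟨σ, (hker (⟨n, hn⟩ * ⟨κ σ, (hmem σ).1⟩⁻¹)).1 ?_⟩
    rw [map_mul, map_inv, mul_inv_eq_one]
    exact hσ.symm
  obtain ⟨hN, htr⟩ := F.card_N H
  refine ⟨F.card_E H, (F.E_eq H).2.2.1, (F.E_eq H).2.2.2, hinj,
    fun σ v hv => (mem_normalizer_iff.1 (hmem σ).1 v).1 hv, fun v hv w hw hv1 hw1 => ?_, hfree, hN, hgen,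
    fun v hv hv1 c hc => ?_⟩
  · obtain ⟨n, hn, hnv⟩ := htr v hv w hw hv1 hw1
    obtain ⟨σ, hσ⟩ := hgen n hn
    refine ⟨σ, ?_⟩
    have hkv : κ σ * v * (κ σ)⁻¹ ∈ F.E := (mem_normalizer_iff.1 (hmem σ).1 v).1 hv
    have e := (F.E_eq H).2.2.2 _ hσ _ hkv
    rw [← hnv]
    calc κ σ * v * (κ σ)⁻¹ = κ σ * v * (κ σ)⁻¹ * (n * (κ σ)⁻¹) * (n * (κ σ)⁻¹)⁻¹ := by group
      _ = n * v * n⁻¹ := by rw [← e]; group
  · obtain ⟨z, hz, hz1⟩ := V_ne_bot H (F.x_order H)
    obtain ⟨n, hn, hnv⟩ := htr z (F.Vx_le H hz) v hv hz1 hv1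
    have hcz : n⁻¹ * c * n * z = z * (n⁻¹ * c * n) := by
      rw [← hnv] at hc
      calc n⁻¹ * c * n * z = n⁻¹ * (c * (n * z * n⁻¹)) * n := by group
        _ = z * (n⁻¹ * c * n) := by rw [hc]; group
    have h1 := F.cent_le H hz hz1 (mem_centralizer_singleton_iff.2 hcz)
    have h2 := Subgroup.mul_mem _ (Subgroup.mul_mem _ hn h1) (Subgroup.inv_mem _ hn)
    rwa [show n * (n⁻¹ * c * n) * n⁻¹ = c by group] at h2

omit H in
theorem R_conj_eq (H : Fields G) {κ : A6 →* G} {E : Subgroup G} (h : Side κ E) {D : CData} (hD : D.OK) {σ : A6}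
    (hσ : D.Cls σ) (hR : R (κ σ) = E) : R (κ D.t) = E := by
  obtain ⟨g, hg⟩ := hD.conj σ hσ
  have ord3 : ∀ {τ}, D.Cls τ → orderOf (κ τ) = 3 := fun {τ} hτ => by
    haveI : Fact (Nat.Prime 3) := ⟨Nat.prime_three⟩
    refine orderOf_eq_prime ?_ fun e => hτ.2.1 (h.inj (by rw [e, map_one]))
    rw [← map_pow, pow_succ, pow_two, hτ.1, map_one]
  refine (Subgroup.eq_of_le_of_card_ge ?_ (by rw [card_R H (ord3 hD.cls_t), h.card])).symm
  intro v hv
  have hv' : (κ g)⁻¹ * v * κ g ∈ R (κ σ) := by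
    rw [hR]
    have := h.conj_mem g⁻¹ v hv
    rwa [map_inv, inv_inv] at this
  have := conj_mem_R H (ord3 hσ) (κ g) hv'
  rw [← map_inv, ← map_mul, ← map_mul, hg, map_inv] at this
  convert this using 1
  group

/-- both actions over one alternating group -/
theorem exists_pairing : ∃ (κ : A6 →* G) (A B : Subgroup G), Side κ A ∧ Side κ B ∧ Half dP κ A ∧ Half dS κ B ∧
    A ⊓ normalizer (B : Set G) = ⊥ ∧ B ⊓ normalizer (A : Set G) = ⊥ := by
  classical
  obtain ⟨F⟩ := exists_frame H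
  obtain ⟨F', hS', hx', ha', hE', hE''⟩ := F.exists_swap H
  obtain ⟨κ, hinj, hr⟩ := F.exists_kappa H
  have hs := F.side H hinj hr
  have hs' : Side κ F.E' := hE' ▸ F'.side H hinj (by rw [hr, hE', hE'', inf_comm])
  have hb : F.E' ⊓ normalizer (F.E : Set G) = ⊥ := by
    have := F'.inter_norm H
    rwa [hE', hE''] at this
  have ha := F.inter_norm H
  have hmemS : ∀ {y}, y ∈ (F.S : Subgroup G) → ∃ σ, κ σ = y := fun {y} hy => by
    have h1 : y ∈ κ.range := hr ▸ ⟨F.sylow_le H hy,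
      mem_normalizer_of_conj _ fun v hv => F.sylow_conj_E' H hy hv⟩
    exact h1
  obtain ⟨σ, hσ⟩ := hmemS F.xS
  obtain ⟨τ, hτ⟩ := hmemS F.aS
  have ha2 : F.a * F.a = F.a⁻¹ := eq_inv_of_mul_eq_one_left (by
    have := cube_one (F.a_order H); rwa [pow_succ, pow_two] at this)
  have hσ3 : σ * σ * σ = 1 := hinj (by
    rw [map_mul, map_mul, hσ, map_one, ← pow_two, ← pow_succ, cube_one (F.x_order H)])
  have hτ3 : τ * τ * τ = 1 := hinj (by
    rw [map_mul, map_mul, hτ, map_one, ← pow_two, ← pow_succ, cube_one (F.a_order H)])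
  have hcomm : σ * τ = τ * σ := hinj (by
    rw [map_mul, map_mul, hσ, hτ, sylow_three_comm H F.S F.xS F.aS])
  have hτ1 : τ ≠ 1 := fun e => F.a_ne H (by rw [← hτ, e, map_one])
  have hσ1 : σ ≠ 1 := fun e => F.x1 (by rw [← hσ, e, map_one])
  have hτσ : τ ≠ σ := fun e => F.a_not (by rw [← hτ, e, hσ]; exact mem_zpowers _)
  have hτσ2 : τ ≠ σ * σ := fun e => F.a_not (by
    rw [← hτ, e, map_mul, hσ]; exact mul_mem (mem_zpowers _) (mem_zpowers _))
  have hb_eq : R (κ (σ * τ)) = F.E' := by rw [map_mul, hσ, hτ]; rfl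
  have hc_eq : R (κ (σ * (τ * τ))) = F.E' := by
    rw [map_mul, map_mul, hσ, hτ, ha2]; exact (F.E'_eq H).1.symm
  have hx_eq : R (κ σ) = F.E := by rw [hσ]; rfl
  have ha_eq : R (κ τ) = F.E := by rw [hτ]; exact (F.E_eq H).1.symm
  by_cases hP : dP.Cls σ
  · refine ⟨κ, F.E, F.E', hs, hs', hs.half (R_conj_eq H hs dP_ok hP hx_eq), ?_, ha, hb⟩
    rcases cls_lines' σ hP τ hτ3 hcomm hτ1 hτσ hτσ2 with h | h
    · exact hs'.half (R_conj_eq H hs' dS_ok h hb_eq)
    · exact hs'.half (R_conj_eq H hs' dS_ok h hc_eq)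
  · have hS : dS.Cls σ := by
      refine ⟨hσ3, hσ1, ?_⟩
      show decide (∃ i : Fin 6, σ.1 i = i) = false
      exact Bool.eq_false_iff.2 fun e => hP ⟨hσ3, hσ1, e⟩
    rcases cls_lines σ hS τ hτ3 hcomm hτ1 hτσ hτσ2 with h | h | h
    · refine ⟨κ, F.E, F.E', hs, hs', hs.half (R_conj_eq H hs dP_ok h ha_eq), ?_, ha, hb⟩
      have hστ2 : σ ≠ τ * τ := fun e => hτσ2 (by
        rw [e, show τ * τ * (τ * τ) = τ * τ * τ * τ by group, hτ3, one_mul])
      rcases cls_lines' τ h σ hσ3 hcomm.symm hσ1 (Ne.symm hτσ) hστ2 with h' | h'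
      · rw [← hcomm] at h'
        exact hs'.half (R_conj_eq H hs' dS_ok h' hb_eq)
      · refine hs'.half (R_conj_eq H hs' dS_ok h' ?_)
        have e : κ (τ * (σ * σ)) = (F.x * F.a⁻¹)⁻¹ := by
          rw [map_mul, map_mul, hσ, hτ, mul_inv_rev, inv_inv,
            show F.x * F.x = F.x⁻¹ from eq_inv_of_mul_eq_one_left (by
              have := cube_one (F.x_order H); rwa [pow_succ, pow_two] at this)]
        rw [e, R_inv H (sylow_three_elem H F.S (mul_mem F.xS (inv_mem F.aS)) (F.c_ne H))]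
        exact (F.E'_eq H).1.symm
    · exact ⟨κ, F.E', F.E, hs', hs, hs'.half (R_conj_eq H hs' dP_ok h hb_eq),
        hs.half (R_conj_eq H hs dS_ok hS hx_eq), hb, ha⟩
    · exact ⟨κ, F.E', F.E, hs', hs, hs'.half (R_conj_eq H hs' dP_ok h hc_eq),
        hs.half (R_conj_eq H hs dS_ok hS hx_eq), hb, ha⟩

/-- the images of the six letters -/
def im (κ : A6 →* G) (e a : G) : ℕ → G
  | 4 => e
  | 5 => a
  | l => κ (gl l)

/-- the square of the product of the two base points -/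
theorem exists_points : ∃ (κ : A6 →* G) (e a : G) (A B : Subgroup G), Function.Injective κ ∧
    Side κ A ∧ Side κ B ∧ Half dP κ A ∧ Half dS κ B ∧ B ⊓ normalizer (A : Set G) = ⊥ ∧
    e ∈ A ∧ e ≠ 1 ∧ (∀ τ ∈ dP.hs, κ τ * e = e * κ τ) ∧ (∀ σ, κ σ * e = e * κ σ → σ ∈ dP.hs) ∧
    (∀ v ∈ A, v ≠ 1 → ∃ i : Fin 15, κ (dP.rep i) * e * (κ (dP.rep i))⁻¹ = v) ∧
    a ∈ B ∧ a ≠ 1 ∧ (∀ τ ∈ dS.hs, κ τ * a = a * κ τ) ∧ (∀ σ, κ σ * a = a * κ σ → σ ∈ dS.hs) ∧
    (∀ v ∈ B, v ≠ 1 → ∃ i : Fin 15, κ (dS.rep i) * a * (κ (dS.rep i))⁻¹ = v) ∧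
    e * a * (e * a) = κ lp := by
  classical
  obtain ⟨κ, A, B, sA, sB, hA, hB, hAB, hBA⟩ := exists_pairing H
  obtain ⟨e, he, he1, hef, hes, hea⟩ := hA.exists_point H dP_ok
  obtain ⟨a, ha, ha1, haf, has, haa⟩ := hB.exists_point H dS_ok
  refine ⟨κ, e, a, A, B, sA.inj, sA, sB, hA, hB, hBA, he, he1, hef, hes, hea, ha, ha1, haf, has, haa, ?_⟩
  set N := normalizer (A : Set G) with hN
  have hκN : ∀ σ, κ σ ∈ N := fun σ => mem_normalizer_of_conj _ (sA.conj_mem σ)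
  have hκNB : ∀ σ, κ σ ∈ normalizer (B : Set G) := fun σ => mem_normalizer_of_conj _ (sB.conj_mem σ)
  have hBN : ∀ b ∈ B, b ∈ N → b = 1 := fun b hb hn => (Subgroup.eq_bot_iff_forall _).1 hBA b ⟨hb, hn⟩
  have hinvE : ∀ f ∈ A, f⁻¹ = f := fun f hf => inv_eq_of_mul_eq_one_right (sA.sq f hf)
  have hinvB : ∀ b ∈ B, b⁻¹ = b := fun b hb => inv_eq_of_mul_eq_one_right (sB.sq b hb)
  -- conjugation by the alternating group
  have hmove : ∀ σ {p f b : G}, p * f * b ∈ N →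
      (κ σ * p * (κ σ)⁻¹) * (κ σ * f * (κ σ)⁻¹) * (κ σ * b * (κ σ)⁻¹) ∈ N := by
    intro σ p f b h
    have := Subgroup.mul_mem _ (Subgroup.mul_mem _ (hκN σ) h) (Subgroup.inv_mem _ (hκN σ))
    convert this using 1
    group
  have huniq : ∀ {p f b b' : G}, b ∈ B → b' ∈ B → p * f * b ∈ N → p * f * b' ∈ N → b = b' := by
    intro p f b b' hb hb' h h'
    have h1 := hBN (b⁻¹ * b') (mul_mem (inv_mem hb) hb') (by
      have := Subgroup.mul_mem _ (Subgroup.inv_mem _ h) h'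
      convert this using 1
      group)
    exact inv_mul_eq_one.1 h1
  -- a short orbit point is related to the base point
  obtain ⟨b, hbB, hb⟩ : ∃ b ∈ B, a * e * b ∈ N := by
    by_contra! hcon
    have hΔ : ∀ i : Fin 15, (∃ b ∈ B, a * (κ (dP.rep i) * e * (κ (dP.rep i))⁻¹) * b ∈ N) → i ∈ far := by
      rintro i ⟨b, hbB, hb⟩
      refine Finset.mem_filter.2 ⟨Finset.mem_univ _, fun τ hτ hτ' => ?_⟩
      have h := hmove τ hb
      rw [show κ τ * a * (κ τ)⁻¹ = a by rw [haf τ hτ, mul_inv_cancel_right],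
        show κ τ * (κ (dP.rep i) * e * (κ (dP.rep i))⁻¹) * (κ τ)⁻¹ = e by
          have h2 : κ (τ * dP.rep i) * e * (κ (τ * dP.rep i))⁻¹ = e := by rw [hef _ hτ', mul_inv_cancel_right]
          rw [map_mul] at h2
          conv_rhs => rw [← h2]
          group] at h
      exact hcon _ (sB.conj_mem τ b hbB) h
    -- the pairs and their cosets
    let P : Type u := {p : ↥B × ↥A // p.1 ≠ 1}
    have := Fintype.ofFinite P
    let f : P → G ⧸ N := fun p => QuotientGroup.mk ((p.1.1 : G) * (p.1.2 : G))⁻¹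
    have hfeq : ∀ p q : P, f p = f q ↔ (p.1.1 : G) * ((p.1.2 : G) * (q.1.2 : G)) * (q.1.1 : G) ∈ N := fun p q => by
      rw [QuotientGroup.eq]
      have e1 : ((p.1.1 : G) * (p.1.2 : G))⁻¹⁻¹ * ((q.1.1 : G) * (q.1.2 : G))⁻¹ =
          (p.1.1 : G) * ((p.1.2 : G) * (q.1.2 : G)) * (q.1.1 : G) := by
        rw [inv_inv, mul_inv_rev, hinvE _ q.1.2.2, hinvB _ q.1.1.2]
        group
      rw [e1]
    have h15B : Nat.card {p : ↥B // p ≠ 1} = 15 := by
      have := Fintype.ofFinite ↥B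
      rw [Nat.card_eq_fintype_card, Fintype.card_subtype_compl, Fintype.card_subtype_eq,
        ← Nat.card_eq_fintype_card, sB.card]
    have hP : Nat.card P = 240 := by
      have e1 : P ≃ {p : ↥B // p ≠ 1} × ↥A :=
        ⟨fun p => (⟨p.1.1, p.2⟩, p.1.2), fun q => ⟨(q.1.1, q.2), q.1.2⟩, fun p => rfl, fun q => rfl⟩
      rw [Nat.card_congr e1, Nat.card_prod, h15B, sA.card]
    have hidx : Nat.card (G ⧸ N) = 77 := by
      have := Subgroup.card_mul_index N
      rw [sA.card_N, H.card, Subgroup.index_eq_card] at this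
      omega
    -- a related point exists
    obtain ⟨p, q, hpq, hfpq⟩ : ∃ p q : P, p ≠ q ∧ f p = f q := by
      by_contra! h
      have := Nat.card_le_card_of_injective f fun p q e => by_contra fun hne => h p q hne e
      omega
    have hne2 : (p.1.2 : G) * q.1.2 ≠ 1 := fun h1 => by
      have h := (hfeq p q).1 hfpq
      rw [h1, mul_one] at h
      have h2 := hBN _ (mul_mem p.1.1.2 q.1.1.2) h
      refine hpq (Subtype.ext (Prod.ext (Subtype.ext ?_) (Subtype.ext ?_)))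
      · exact (eq_inv_of_mul_eq_one_left h2).trans (hinvB _ q.1.1.2)
      · exact (eq_inv_of_mul_eq_one_left h1).trans (hinvE _ q.1.2.2)
    obtain ⟨i₀, hi₀far, b₀, hb₀B, hb₀⟩ : ∃ i ∈ far, ∃ b ∈ B,
        a * (κ (dP.rep i) * e * (κ (dP.rep i))⁻¹) * b ∈ N := by
      have h := (hfeq p q).1 hfpq
      obtain ⟨σ, hσ⟩ := sB.trans _ p.1.1.2 a ha (fun e' => p.2 (Subtype.ext e')) ha1
      have h' := hmove σ h
      rw [hσ] at h'
      obtain ⟨i, hi⟩ := hea _ (sA.conj_mem σ _ (mul_mem p.1.2.2 q.1.2.2)) (fun e' => hne2 (conj_eq_one_iff.1 e'))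
      rw [← hi] at h'
      exact ⟨i, hΔ i ⟨_, sB.conj_mem σ _ q.1.1.2, h'⟩, _, sB.conj_mem σ _ q.1.1.2, h'⟩
    -- every far point is related
    have hfar : ∀ i ∈ far, ∃ b ∈ B, a * (κ (dP.rep i) * e * (κ (dP.rep i))⁻¹) * b ∈ N := by
      intro i hi
      rcases orbits_ok i₀ with ⟨τ, hτ, hτ'⟩ | h
      · exact absurd hτ' ((Finset.mem_filter.1 hi₀far).2 τ hτ)
      obtain ⟨τ, hτ, hτ'⟩ := h i (Finset.mem_filter.1 hi).2
      have h := hmove τ hb₀
      rw [show κ τ * a * (κ τ)⁻¹ = a by rw [haf τ hτ, mul_inv_cancel_right],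
        show κ τ * (κ (dP.rep i₀) * e * (κ (dP.rep i₀))⁻¹) * (κ τ)⁻¹ =
            κ (dP.rep i) * e * (κ (dP.rep i))⁻¹ by
          have h2 := hef _ hτ'
          rw [map_mul, map_inv, map_mul] at h2
          calc κ τ * (κ (dP.rep i₀) * e * (κ (dP.rep i₀))⁻¹) * (κ τ)⁻¹
              = κ (dP.rep i) * ((κ (dP.rep i))⁻¹ * (κ τ * κ (dP.rep i₀)) * e) * (κ (dP.rep i₀))⁻¹ * (κ τ)⁻¹ := by
                group
            _ = κ (dP.rep i) * e * (κ (dP.rep i))⁻¹ := by rw [h2]; group] at h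
      exact ⟨_, sB.conj_mem τ b₀ hb₀B, h⟩
    -- every fibre has thirteen elements
    have hinjP : ∀ i j : Fin 15,
        κ (dP.rep i) * e * (κ (dP.rep i))⁻¹ = κ (dP.rep j) * e * (κ (dP.rep j))⁻¹ → i = j := by
      intro i j hij
      have h15 : Nat.card {v : ↥A // v ≠ 1} = 15 := by
        have := Fintype.ofFinite ↥A
        rw [Nat.card_eq_fintype_card, Fintype.card_subtype_compl, Fintype.card_subtype_eq,
          ← Nat.card_eq_fintype_card, sA.card]
      let g : Fin 15 → {v : ↥A // v ≠ 1} := fun i => ⟨⟨_, sA.conj_mem (dP.rep i) e he⟩, fun e' =>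
        he1 (conj_eq_one_iff.1 (congrArg Subtype.val e'))⟩
      have hg : Function.Surjective g := by
        rintro ⟨⟨v, hv⟩, hv1⟩
        obtain ⟨k, hk⟩ := hea v hv fun e' => hv1 (Subtype.ext e')
        exact ⟨k, Subtype.ext (Subtype.ext hk)⟩
      exact ((Nat.bijective_iff_surjective_and_card g).2 ⟨hg, by rw [Nat.card_fin, h15]⟩).1
        (Subtype.ext (Subtype.ext hij))
    have hbase : Nat.card {v : ↥A // ∃ b ∈ B, a * (v : G) * b ∈ N} = 13 := by
      let g : Option {i // i ∈ far} → {v : ↥A // ∃ b ∈ B, a * (v : G) * b ∈ N} := fun o => match o with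
        | none => ⟨1, a, ha, by rw [Subgroup.coe_one, mul_one, sB.sq a ha]; exact one_mem _⟩
        | some i => ⟨⟨_, sA.conj_mem (dP.rep i.1) e he⟩, hfar i.1 i.2⟩
      have hg : Function.Bijective g := by
        constructor
        · rintro (_ | ⟨i, hi⟩) (_ | ⟨j, hj⟩) hij
          · rfl
          · exact absurd (congrArg (fun p => ((p.1 : ↥A) : G)) hij).symm fun e' => he1 (conj_eq_one_iff.1 e')
          · exact absurd (congrArg (fun p => ((p.1 : ↥A) : G)) hij) fun e' => he1 (conj_eq_one_iff.1 e')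
          · obtain rfl := hinjP i j (congrArg (fun p => ((p.1 : ↥A) : G)) hij)
            rfl
        · rintro ⟨⟨v, hv⟩, hv'⟩
          by_cases hv1 : v = 1
          · exact ⟨none, Subtype.ext (Subtype.ext hv1.symm)⟩
          · obtain ⟨i, rfl⟩ := hea v hv hv1
            exact ⟨some ⟨i, hΔ i hv'⟩, rfl⟩
      rw [← Nat.card_congr (Equiv.ofBijective g hg), Finite.card_option, Nat.card_eq_finsetCard, far_card]
    have hall : ∀ p₀ : P, Nat.card {q : P // f p₀ = f q} = 13 := by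
      intro p₀
      rw [← hbase]
      obtain ⟨σ, hσ⟩ := sB.trans _ p₀.1.1.2 a ha (fun e' => p₀.2 (Subtype.ext e')) ha1
      refine Nat.card_eq_of_bijective (fun q => ⟨⟨κ σ * ((p₀.1.2 : G) * (q.1.1.2 : G)) * (κ σ)⁻¹,
        sA.conj_mem σ _ (mul_mem p₀.1.2.2 q.1.1.2.2)⟩, κ σ * (q.1.1.1 : G) * (κ σ)⁻¹,
        sB.conj_mem σ _ q.1.1.1.2, by
          have h := hmove σ ((hfeq p₀ q.1).1 q.2)
          rwa [hσ] at h⟩) ⟨?_, ?_⟩
      · rintro ⟨⟨⟨b₁, f₁⟩, hb₁⟩, h₁⟩ ⟨⟨⟨b₂, f₂⟩, hb₂⟩, h₂⟩ hij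
        have e1 : (p₀.1.2 : G) * f₁ = (p₀.1.2 : G) * f₂ :=
          mul_left_cancel (mul_right_cancel (congrArg (fun p => ((p.1 : ↥A) : G)) hij))
        have ef : f₁ = f₂ := Subtype.ext (mul_left_cancel e1)
        subst ef
        have eb : b₁ = b₂ := Subtype.ext (huniq b₁.2 b₂.2 ((hfeq _ _).1 h₁) ((hfeq _ _).1 h₂))
        subst eb
        rfl
      · rintro ⟨⟨v, hv⟩, b, hb, hvb⟩
        have hv0 : (κ σ)⁻¹ * v * κ σ ∈ A := by
          have := sA.conj_mem σ⁻¹ v hv; rwa [map_inv, inv_inv] at this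
        have hb0 : (κ σ)⁻¹ * b * κ σ ∈ B := by
          have := sB.conj_mem σ⁻¹ b hb; rwa [map_inv, inv_inv] at this
        have h := hmove σ⁻¹ hvb
        rw [map_inv, inv_inv, show (κ σ)⁻¹ * a * κ σ = (p₀.1.1 : G) by rw [← hσ]; group] at h
        have hb1 : (⟨(κ σ)⁻¹ * b * κ σ, hb0⟩ : ↥B) ≠ 1 := fun e' => by
          have e'' : (κ σ)⁻¹ * b * κ σ = 1 := congrArg Subtype.val e'
          rw [e'', mul_one] at h
          have h2 : (κ σ)⁻¹ * v * κ σ ∈ N := le_normalizer hv0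
          have h3 := Subgroup.mul_mem _ h (Subgroup.inv_mem _ h2)
          rw [mul_inv_cancel_right] at h3
          exact p₀.2 (Subtype.ext (hBN _ p₀.1.1.2 h3))
        refine ⟨⟨⟨(⟨_, hb0⟩, ⟨(p₀.1.2 : G) * ((κ σ)⁻¹ * v * κ σ), mul_mem p₀.1.2.2 hv0⟩), hb1⟩,
          (hfeq _ _).2 ?_⟩, Subtype.ext (Subtype.ext ?_)⟩
        · show (p₀.1.1 : G) * ((p₀.1.2 : G) * ((p₀.1.2 : G) * ((κ σ)⁻¹ * v * κ σ))) * ((κ σ)⁻¹ * b * κ σ) ∈ N
          rwa [← mul_assoc (p₀.1.2 : G) (p₀.1.2 : G), sA.sq _ p₀.1.2.2, one_mul]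
        · show κ σ * ((p₀.1.2 : G) * ((p₀.1.2 : G) * ((κ σ)⁻¹ * v * κ σ))) * (κ σ)⁻¹ = v
          rw [← mul_assoc (p₀.1.2 : G), sA.sq _ p₀.1.2.2]
          group
    -- thirteen would divide two hundred and forty
    have hsum := Finset.card_eq_sum_card_image f (Finset.univ : Finset P)
    have h13 : ∀ c ∈ Finset.univ.image f, (Finset.univ.filter fun q : P => f q = c).card = 13 := by
      intro c hc
      obtain ⟨p₀, -, rfl⟩ := Finset.mem_image.1 hc
      rw [← hall p₀, ← Fintype.card_subtype, ← Nat.card_eq_fintype_card]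
      exact Nat.card_congr (Equiv.subtypeEquivRight fun q => ⟨Eq.symm, Eq.symm⟩)
    rw [Finset.sum_congr rfl h13, Finset.sum_const, Finset.card_univ, ← Nat.card_eq_fintype_card, hP,
      smul_eq_mul] at hsum
    omega
  -- the partner is the same point
  have hba : b = a := by
    have hb1 : b ≠ 1 := fun e' => by
      rw [e', mul_one] at hb
      refine ha1 (hBN a ha ?_)
      have h := Subgroup.mul_mem _ hb (Subgroup.inv_mem _ (le_normalizer he))
      rwa [mul_inv_cancel_right] at h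
    obtain ⟨j, hj⟩ := haa b hbB hb1
    have hfix : ∀ τ ∈ dP.hs, τ ∈ dS.hs → (dS.rep j)⁻¹ * τ * dS.rep j ∈ dS.hs := by
      intro τ hP hS
      refine has _ ?_
      have h := hmove τ hb
      rw [show κ τ * a * (κ τ)⁻¹ = a by rw [haf τ hS, mul_inv_cancel_right],
        show κ τ * e * (κ τ)⁻¹ = e by rw [hef τ hP, mul_inv_cancel_right]] at h
      have e1 := huniq (sB.conj_mem τ b hbB) hbB h hb
      rw [← hj] at e1
      rw [map_mul, map_mul, map_inv]
      calc (κ (dS.rep j))⁻¹ * κ τ * κ (dS.rep j) * a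
          = (κ (dS.rep j))⁻¹ * (κ τ * (κ (dS.rep j) * a * (κ (dS.rep j))⁻¹) * (κ τ)⁻¹) * κ τ * κ (dS.rep j) := by
            group
        _ = a * ((κ (dS.rep j))⁻¹ * κ τ * κ (dS.rep j)) := by rw [e1]; group
    have hr := haf _ (common_fix_S j hfix)
    rw [← hj, hr, mul_inv_cancel_right]
  subst hba
  obtain ⟨σ, hσ⟩ := sA.gen _ hb
  set f := b * e * b * (κ σ)⁻¹ with hfdef
  have hn : b * e * b = f * κ σ := by rw [hfdef, inv_mul_cancel_right]
  have hfixD : ∀ τ ∈ dP.hs, τ ∈ dS.hs → κ τ * f * (κ τ)⁻¹ = f ∧ σ * τ = τ * σ := by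
    intro τ hP hS
    have e1 : κ τ * (b * e * b) * (κ τ)⁻¹ = b * e * b := by
      rw [show κ τ * (b * e * b) * (κ τ)⁻¹ =
          (κ τ * b * (κ τ)⁻¹) * (κ τ * e * (κ τ)⁻¹) * (κ τ * b * (κ τ)⁻¹) by group,
        haf τ hS, hef τ hP, mul_inv_cancel_right, mul_inv_cancel_right]
    rw [hn] at e1
    have e2 : κ (τ * σ * τ⁻¹ * σ⁻¹) = (κ τ * f * (κ τ)⁻¹)⁻¹ * f := by
      rw [map_mul, map_mul, map_mul, map_inv, map_inv]
      calc κ τ * κ σ * (κ τ)⁻¹ * (κ σ)⁻¹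
          = (κ τ * f * (κ τ)⁻¹)⁻¹ * (κ τ * (f * κ σ) * (κ τ)⁻¹) * (κ σ)⁻¹ := by group
        _ = (κ τ * f * (κ τ)⁻¹)⁻¹ * f := by rw [e1]; group
    have h1 := sA.free _ (e2 ▸ mul_mem (inv_mem (sA.conj_mem τ f hσ)) hσ)
    refine ⟨?_, (mul_inv_eq_iff_eq_mul.1 (mul_inv_eq_one.1 h1)).symm⟩
    rw [h1, map_one] at e2
    exact inv_mul_eq_one.1 e2.symm
  have hσcases := cent_common σ fun τ hP hS => (hfixD τ hP hS).2
  have hf : f = 1 ∨ f = e := by
    by_cases hf1 : f = 1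
    · exact Or.inl hf1
    refine Or.inr ?_
    obtain ⟨i, hi⟩ := hea f hσ hf1
    have hfix : ∀ τ ∈ dP.hs, τ ∈ dS.hs → (dP.rep i)⁻¹ * τ * dP.rep i ∈ dP.hs := by
      intro τ hP hS
      refine hes _ ?_
      have e1 := (hfixD τ hP hS).1
      rw [← hi] at e1
      rw [map_mul, map_mul, map_inv]
      calc (κ (dP.rep i))⁻¹ * κ τ * κ (dP.rep i) * e
          = (κ (dP.rep i))⁻¹ * (κ τ * (κ (dP.rep i) * e * (κ (dP.rep i))⁻¹) * (κ τ)⁻¹) * κ τ * κ (dP.rep i) := by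
            group
        _ = e * ((κ (dP.rep i))⁻¹ * κ τ * κ (dP.rep i)) := by rw [e1]; group
    have hr := hef _ (common_fix_P i hfix)
    rw [← hi, hr, mul_inv_cancel_right]
  have hfe : f = e := hf.resolve_left fun hf1 => by
    rw [hf1, one_mul] at hn
    refine he1 ((Subgroup.eq_bot_iff_forall _).1 hAB e ⟨he, ?_⟩)
    have e1 : e = b⁻¹ * κ σ * b⁻¹ := by rw [← hn]; group
    rw [e1]
    exact Subgroup.mul_mem _ (Subgroup.mul_mem _ (Subgroup.inv_mem _ (le_normalizer hbB)) (hκNB σ))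
      (Subgroup.inv_mem _ (le_normalizer hbB))
  rw [hfe] at hn
  rcases hσcases with h1 | h1
  · exfalso
    rw [h1, map_one, mul_one] at hn
    refine ha1 (hBN b hbB (sA.cent e he he1 b ?_))
    calc b * e = b * e * b * b⁻¹ := by group
      _ = e * b := by rw [hn, hinvB b hbB]
  · rw [h1] at hn
    calc e * b * (e * b) = e * (b * e * b) := by group
      _ = κ lp := by rw [hn, ← mul_assoc, sA.sq e he, one_mul]

end Cfsg.Lib.M22Nse
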